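import Mathlib.GroupTheory.Sylow
import Mathlib.GroupTheory.SchurZassenhaus
import Mathlib.GroupTheory.OrderOfElement
import Mathlib.Algebra.Group.Subgroup.Pointwise
import Mathlib.Tactic.Group

/-!
Subgroups that are the centralisers of each of their nontrivial elements.
-/

set_option autoImplicit false

namespace CfsgLib.BSW

open Subgroup

universe u

variable {G : Type u} [Group G]

/-- Every nontrivial element of `A` has centraliser `A`. -/
def IsCC (A : Subgroup G) : Prop := ∀ x ∈ A, x ≠ 1 → Subgroup.centralizer ({x} : Set G) = A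

theorem centralizer_conj_eq (c x : G) :
    Subgroup.centralizer ({c * x * c⁻¹} : Set G) =
      (Subgroup.centralizer ({x} : Set G)).map (MulAut.conj c).toMonoidHom := by
  ext g
  simp only [Subgroup.mem_map, Subgroup.mem_centralizer_singleton_iff, MulEquiv.coe_toMonoidHom, MulAut.conj_apply]
  constructor
  · intro h
    refine ⟨c⁻¹ * g * c, ?_, by group⟩
    calc c⁻¹ * g * c * x = c⁻¹ * (g * (c * x * c⁻¹)) * c := by group
      _ = c⁻¹ * ((c * x * c⁻¹) * g) * c := by rw [h]
      _ = _ := by group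
  · rintro ⟨y, hy, rfl⟩
    calc c * y * c⁻¹ * (c * x * c⁻¹) = c * (y * x) * c⁻¹ := by group
      _ = c * (x * y) * c⁻¹ := by rw [hy]
      _ = _ := by group

theorem isCC_map {A : Subgroup G} (h : IsCC A) (c : G) : IsCC (A.map (MulAut.conj c).toMonoidHom) := by
  rintro _ ⟨x, hx, rfl⟩ hne
  simp only [MulEquiv.coe_toMonoidHom, MulAut.conj_apply] at hne ⊢
  rw [centralizer_conj_eq, h x hx (fun e => hne (by rw [e]; group))]

theorem IsCC.mem_normalizer {A : Subgroup G} (h : IsCC A) {g x : G} (hx : x ∈ A) (hx1 : x ≠ 1)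
    (hg : g * x * g⁻¹ ∈ A) : g ∈ Subgroup.normalizer (A : Set G) := by
  have e := h _ hg (fun e => hx1 (conj_eq_one_iff.mp e))
  rw [centralizer_conj_eq, h x hx hx1] at e
  rw [Subgroup.mem_normalizer_iff]
  intro y
  constructor
  · intro hy
    rw [← e]
    exact ⟨y, hy, rfl⟩
  · intro hy
    rw [← e] at hy
    obtain ⟨z, hz, hze⟩ := hy
    simp only [MulEquiv.coe_toMonoidHom, MulAut.conj_apply] at hze
    rwa [← mul_left_cancel (mul_right_cancel hze)]

theorem IsCC.conj_mem {A : Subgroup G} (h : IsCC A) {y g c : G} (hy1 : y ≠ 1) (hy : c * y * c⁻¹ ∈ A)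
    (hc : g * y = y * g) : c * g * c⁻¹ ∈ A := by
  rw [← h _ hy (fun e => hy1 (conj_eq_one_iff.mp e)), centralizer_conj_eq]
  exact ⟨g, Subgroup.mem_centralizer_singleton_iff.mpr hc, rfl⟩

theorem exists_conj_mem [Finite G] (A : Subgroup G) {r : ℕ} (hr : r.Prime) {y : G} (hy : orderOf y = r)
    (hri : ¬ r ∣ A.index) : ∃ c : G, c * y * c⁻¹ ∈ A := by
  haveI : Fact r.Prime := ⟨hr⟩
  have hP : IsPGroup r (Subgroup.zpowers y) := IsPGroup.of_card (n := 1) (by rw [Nat.card_zpowers, hy, pow_one])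
  obtain ⟨x, hx⟩ := hP.nonempty_fixed_point_of_prime_not_dvd_card (G ⧸ A) hri
  obtain ⟨c, rfl⟩ := QuotientGroup.mk_surjective x
  have h1 : ((y * c : G) : G ⧸ A) = (c : G ⧸ A) := hx ⟨y, Subgroup.mem_zpowers y⟩
  refine ⟨c⁻¹, ?_⟩
  have := inv_mem (QuotientGroup.eq.mp h1)
  simpa [mul_assoc] using this

theorem conj_count [Finite G] {A : Subgroup G} (h : IsCC A) :
    Nat.card {x : G // x ≠ 1 ∧ ∃ c : G, c * x * c⁻¹ ∈ A} =
      (Subgroup.normalizer (A : Set G)).index * (Nat.card A - 1) := by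
  classical
  haveI := Fintype.ofFinite G
  let N := Subgroup.normalizer (A : Set G)
  have hne : ∀ (c : G) (x : {x : A // x ≠ 1}), c * ((x : A) : G) * c⁻¹ ≠ 1 := fun c x e =>
    x.2 (Subtype.ext (conj_eq_one_iff.mp e))
  let f : (G ⧸ N) × {x : A // x ≠ 1} → {x : G // x ≠ 1 ∧ ∃ c : G, c * x * c⁻¹ ∈ A} := fun p =>
    ⟨p.1.out * ((p.2 : A) : G) * p.1.out⁻¹, hne _ _, p.1.out⁻¹, by simp [mul_assoc]⟩
  have hf : Function.Bijective f := by
    constructor
    · rintro ⟨c, ⟨⟨x, hx⟩, hx1⟩⟩ ⟨d, ⟨⟨y, hy⟩, hy1⟩⟩ e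
      have e' : c.out * x * c.out⁻¹ = d.out * y * d.out⁻¹ := congrArg Subtype.val e
      have hx1' : x ≠ 1 := fun e => hx1 (Subtype.ext e)
      have hn : d.out⁻¹ * c.out ∈ N := h.mem_normalizer hx hx1' (by
        rw [show d.out⁻¹ * c.out * x * (d.out⁻¹ * c.out)⁻¹ = d.out⁻¹ * (c.out * x * c.out⁻¹) * d.out by group, e',
          show d.out⁻¹ * (d.out * y * d.out⁻¹) * d.out = y by group]
        exact hy)
      have hcd : c = d := by
        rw [← QuotientGroup.out_eq' c, ← QuotientGroup.out_eq' d]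
        exact (QuotientGroup.eq.mpr hn).symm
      subst hcd
      have : x = y := mul_left_cancel (mul_right_cancel e')
      subst this
      rfl
    · rintro ⟨x, hx1, c, hc⟩
      set q : G ⧸ N := QuotientGroup.mk c⁻¹
      have hn : q.out⁻¹ * c⁻¹ ∈ N := QuotientGroup.eq.mp (QuotientGroup.out_eq' q)
      have hm : q.out⁻¹ * x * q.out ∈ A := by
        have := (Subgroup.mem_normalizer_iff.mp hn (c * x * c⁻¹)).mp hc
        rwa [show q.out⁻¹ * c⁻¹ * (c * x * c⁻¹) * (q.out⁻¹ * c⁻¹)⁻¹ = q.out⁻¹ * x * q.out by group] at this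
      refine ⟨⟨q, ⟨⟨_, hm⟩, fun e => hx1 ?_⟩⟩, Subtype.ext (show q.out * (q.out⁻¹ * x * q.out) * q.out⁻¹ = x by group)⟩
      have e' : q.out⁻¹ * x * q.out = 1 := congrArg Subtype.val e
      calc x = q.out * (q.out⁻¹ * x * q.out) * q.out⁻¹ := by group
        _ = 1 := by rw [e']; group
  rw [← Nat.card_congr (Equiv.ofBijective f hf), Nat.card_prod]
  congr 1
  rw [Nat.card_eq_fintype_card, Fintype.card_subtype, Finset.filter_ne',
    Finset.card_erase_of_mem (Finset.mem_univ _), Finset.card_univ, ← Nat.card_eq_fintype_card]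

/-- In a group of odd order whose element centralisers are self-normalising and disjoint, they are everything. -/
theorem abelian_of_odd [Finite G] (hodd : Odd (Nat.card G))
    (hCC : ∀ d : G, d ≠ 1 → IsCC (Subgroup.centralizer ({d} : Set G)))
    (hN : ∀ d : G, d ≠ 1 → ∀ g : G, g * d * g⁻¹ ∈ Subgroup.centralizer ({d} : Set G) →
      g ∈ Subgroup.centralizer ({d} : Set G)) :
    ∀ d : G, d ≠ 1 → Subgroup.centralizer ({d} : Set G) = ⊤ := by
  classical
  haveI := Fintype.ofFinite G
  intro d hd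
  have hself : ∀ e : G, e ≠ 1 → Subgroup.normalizer ((Subgroup.centralizer ({e} : Set G)) : Set G) =
      Subgroup.centralizer ({e} : Set G) := fun e he =>
    le_antisymm (fun g hg => hN e he g ((Subgroup.mem_normalizer_iff.mp hg e).mp
      (Subgroup.mem_centralizer_singleton_iff.mpr rfl))) Subgroup.le_normalizer
  set cov : G → Finset G := fun e => Finset.univ.filter fun x =>
    x ≠ 1 ∧ ∃ c : G, c * x * c⁻¹ ∈ Subgroup.centralizer ({e} : Set G) with hcov
  have hcard : ∀ e : G, e ≠ 1 → (cov e).card + (Subgroup.centralizer ({e} : Set G)).index = Nat.card G ∧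
      3 * (Subgroup.centralizer ({e} : Set G)).index ≤ Nat.card G := by
    intro e he
    set A := Subgroup.centralizer ({e} : Set G) with hA
    have h := conj_count (hCC e he)
    rw [hself e he, Nat.card_eq_fintype_card, Fintype.card_subtype, ← hA] at h
    have hi := A.index_mul_card
    have hA1 : 1 < Nat.card A := A.one_lt_card_iff_ne_bot.mpr fun h0 => by
      have : e ∈ A := Subgroup.mem_centralizer_singleton_iff.mpr rfl
      rw [h0, Subgroup.mem_bot] at this
      exact he this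
    have hA3 : 3 ≤ Nat.card A := by
      obtain ⟨m, hm⟩ := Odd.of_dvd_nat hodd A.card_subgroup_dvd_card
      omega
    have hmul : A.index * 3 ≤ A.index * Nat.card A := Nat.mul_le_mul_left _ hA3
    refine ⟨?_, by omega⟩
    show (Finset.univ.filter _).card + _ = _
    rw [h, Nat.mul_sub, mul_one]
    omega
  by_contra htop
  obtain ⟨h1, h2⟩ := hcard d hd
  have hidx : (Subgroup.centralizer ({d} : Set G)).index ≠ 1 := fun e => htop (Subgroup.index_eq_one.mp e)
  have hidx0 : (Subgroup.centralizer ({d} : Set G)).index ≠ 0 := Subgroup.index_ne_zero_of_finite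
  obtain ⟨e, he, hec⟩ : ∃ e : G, e ≠ 1 ∧ e ∉ cov d := by
    by_contra hall
    push Not at hall
    have : (Finset.univ.erase (1 : G)).card ≤ (cov d).card :=
      Finset.card_le_card fun x hx => hall x (Finset.mem_erase.mp hx).1
    rw [Finset.card_erase_of_mem (Finset.mem_univ _), Finset.card_univ, ← Nat.card_eq_fintype_card] at this
    omega
  obtain ⟨h3, h4⟩ := hcard e he
  have hdis : Disjoint (cov d) (cov e) := by
    rw [Finset.disjoint_left]
    intro x hxd hxe
    simp only [hcov, Finset.mem_filter, Finset.mem_univ, true_and] at hxd hxe hec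
    obtain ⟨hx1, c, hc⟩ := hxd
    obtain ⟨-, c', hc'⟩ := hxe
    refine hec ⟨he, c * c'⁻¹, ?_⟩
    have h6 : e * (c' * x * c'⁻¹) = c' * x * c'⁻¹ * e :=
      (Subgroup.mem_centralizer_singleton_iff.mp hc').symm
    refine (hCC d hd).conj_mem (y := c' * x * c'⁻¹) (fun e' => hx1 (conj_eq_one_iff.mp e')) ?_ h6
    rwa [show c * c'⁻¹ * (c' * x * c'⁻¹) * (c * c'⁻¹)⁻¹ = c * x * c⁻¹ by group]
  have h5 : (cov d).card + (cov e).card ≤ Nat.card G := by
    rw [← Finset.card_union_of_disjoint hdis, Nat.card_eq_fintype_card]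
    exact Finset.card_le_univ _
  have := Nat.card_pos (α := G)
  omega

theorem mem_of_coprime [Finite G] (A : Subgroup G) {y : G} (hy : y ∈ Subgroup.normalizer (A : Set G))
    (hco : (orderOf y).Coprime A.index) : y ∈ A := by
  set N := Subgroup.normalizer (A : Set G)
  have hAN : A ≤ N := Subgroup.le_normalizer
  have h1 : orderOf (QuotientGroup.mk' (A.subgroupOf N) ⟨y, hy⟩) ∣ orderOf y := by
    rw [← Subgroup.orderOf_mk (H := N) y hy]
    exact orderOf_map_dvd _ _
  have h2 : orderOf (QuotientGroup.mk' (A.subgroupOf N) ⟨y, hy⟩) ∣ A.index :=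
    (_root_.orderOf_dvd_natCard _).trans (Subgroup.relIndex_dvd_index_of_le hAN)
  have h3 : orderOf (QuotientGroup.mk' (A.subgroupOf N) ⟨y, hy⟩) = 1 := Nat.eq_one_of_dvd_coprimes hco h1 h2
  rw [orderOf_eq_one_iff] at h3
  exact (Subgroup.mem_subgroupOf).mp ((QuotientGroup.eq_one_iff _).mp h3)

theorem exists_complement [Finite G] (A : Subgroup G) (hco : (Nat.card A).Coprime A.index) :
    ∃ D : Subgroup G, D ≤ Subgroup.normalizer (A : Set G) ∧ A ⊓ D = ⊥ ∧
      A ⊔ D = Subgroup.normalizer (A : Set G) ∧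
      Nat.card A * Nat.card D = Nat.card (Subgroup.normalizer (A : Set G)) := by
  set N := Subgroup.normalizer (A : Set G)
  have hAN : A ≤ N := Subgroup.le_normalizer
  obtain ⟨E, hE⟩ := Subgroup.exists_right_complement'_of_coprime (N := A.subgroupOf N) (by
    rw [Nat.card_congr (Subgroup.subgroupOfEquivOfLe hAN).toEquiv]
    exact hco.coprime_dvd_right (Subgroup.relIndex_dvd_index_of_le hAN))
  have hinf : A.subgroupOf N ⊓ E = ⊥ := hE.disjoint.eq_bot
  have hsup : A.subgroupOf N ⊔ E = ⊤ := hE.sup_eq_top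
  have hA : (A.subgroupOf N).map N.subtype = A := by
    rw [Subgroup.subgroupOf_map_subtype, inf_eq_left.mpr hAN]
  refine ⟨E.map N.subtype, Subgroup.map_subtype_le _, ?_, ?_, ?_⟩
  · conv_lhs => rw [← hA]
    rw [← Subgroup.map_inf _ _ _ N.subtype_injective, hinf, Subgroup.map_bot]
  · conv_lhs => rw [← hA]
    rw [← Subgroup.map_sup, hsup, ← MonoidHom.range_eq_map, Subgroup.range_subtype]
  · rw [Subgroup.card_map_of_injective N.subtype_injective, ← hE.card_mul_card,
      Nat.card_congr (Subgroup.subgroupOfEquivOfLe hAN).toEquiv]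

end CfsgLib.BSW
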