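import Cfsg.Agent.Lib.BSW.Zassenhaus
import Cfsg.Agent.Lib.DihedralTransfer
import Cfsg.Agent.Lib.Basic
import Cfsg.Prelude.Def_CaseTheorems

/-!
The Brauer–Suzuki–Wall configuration from a dihedral Sylow 2-subgroup.
-/

set_option autoImplicit false
set_option linter.unusedSectionVars false

namespace CfsgLib.BSW

open Cfsg
open DihedralGroup
open CfsgLib.DihedralFusion

universe u

variable {X : Type u} [Group X] [Finite X] {S : Sylow 2 X} {m : ℕ} (eS : (S : Subgroup X) ≃* DihedralGroup m)

include eS in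
/-- A central involution of a dihedral Sylow 2-subgroup is the rotation of order two, unless the order is four. -/
theorem central_shape (hm : 2 ≤ m) (h3 : m ≠ 2) {t : X} (htS : t ∈ (S : Subgroup X)) (ht : orderOf t = 2)
    (htZ : ∀ x ∈ (S : Subgroup X), x * t = t * x) : eS ⟨t, htS⟩ = r ((m / 2 : ℕ) : ZMod m) := by
  obtain ⟨k, hk, -⟩ := exists_pow_index hm eS
  have h2 : m = 2 * (m / 2) := by rw [hk, pow_succ]; omega
  haveI : NeZero m := ⟨by omega⟩
  rcases hc : eS ⟨t, htS⟩ with j | j
  · have hd : eS ⟨t, htS⟩ * eS ⟨t, htS⟩ = 1 := by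
      rw [← map_mul, show (⟨t, htS⟩ : (S : Subgroup X)) * ⟨t, htS⟩ = 1 from
        Subtype.ext (Involutions.mul_self_eq_one_of_orderOf ht), map_one]
    rw [hc] at hd
    rcases two_torsion h2 (by omega) ((sq_r j).mp hd) with rfl | rfl
    · exfalso
      have : (⟨t, htS⟩ : (S : Subgroup X)) = 1 := eS.injective (by rw [hc, map_one]; rfl)
      rw [show t = 1 from congrArg Subtype.val this, orderOf_one] at ht
      norm_num at ht
    · rfl
  · exfalso
    have hcomm : (r 1 : DihedralGroup m) * sr j = sr j * r 1 := by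
      have h := htZ _ (eS.symm (r 1)).2
      have h' : eS.symm (r 1) * ⟨t, htS⟩ = ⟨t, htS⟩ * eS.symm (r 1) := Subtype.ext h
      have := congrArg eS h'
      rwa [map_mul, map_mul, MulEquiv.apply_symm_apply, hc] at this
    have h1 : ((2 : ℕ) : ZMod m) = 0 := by
      have := comm_r_sr hcomm
      push_cast
      linear_combination this
    have := Nat.le_of_dvd two_pos ((ZMod.natCast_eq_zero_iff 2 m).mp h1)
    omega

include eS in
/-- Odd order elements fixing the central involution centralise the four subgroups. -/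
theorem lacking_of_central (hm : 2 ≤ m) {t : X} (htS : t ∈ (S : Subgroup X)) (ht : orderOf t = 2)
    (htC : ∀ x : X, x * t = t * x) {U : Subgroup X} (hU : U ≤ (S : Subgroup X)) (hK : IsKleinFour U) : Lacking U := by
  haveI := hK
  have htU : t ∈ U := by
    by_cases h2 : m = 2
    · have hcard : Nat.card (S : Subgroup X) = 4 := by
        rw [Nat.card_congr eS.toEquiv, DihedralGroup.nat_card, h2]
      rw [Subgroup.eq_of_le_of_card_ge hU (by rw [hcard, IsKleinFour.card_four])]
      exact htS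
    · obtain ⟨i, hi⟩ := klein_shape eS hm hU hK
      exact (hi t htS htS).mpr (Or.inr (Or.inl (central_shape eS hm h2 htS ht fun x _ => htC x)))
  intro g hg hodd
  refine Subgroup.mem_centralizer_iff.mpr fun a ha => ?_
  by_contra hne
  have hne' : g * a * g⁻¹ ≠ a := fun e => hne (mul_inv_eq_iff_eq_mul.mp e).symm
  have hgt : g * t * g⁻¹ = t := by rw [htC g, mul_inv_cancel_right]
  have hmem : g * a * g⁻¹ ∈ U := (Subgroup.mem_normalizer_iff.mp hg a).mp ha
  have ha1 : a ≠ 1 := fun e => hne' (by rw [e]; group)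
  have hat : a ≠ t := fun e => hne' (by rw [e, hgt])
  have ht1 : t ≠ 1 := fun e => by rw [e, orderOf_one] at ht; norm_num at ht
  have hz : (⟨g * a * g⁻¹, hmem⟩ : U) = ⟨a, ha⟩ * ⟨t, htU⟩ :=
    IsKleinFour.eq_mul_of_ne_all (fun e => ha1 (congrArg Subtype.val e)) (fun e => ht1 (congrArg Subtype.val e))
      (fun e => hat (congrArg Subtype.val e)) (fun e => ha1 (conj_eq_one_iff.mp (congrArg Subtype.val e)))
      (fun e => hne' (congrArg Subtype.val e)) (fun e => hat (by
        have e' : g * a * g⁻¹ = g * t * g⁻¹ := (congrArg Subtype.val e).trans hgt.symm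
        exact mul_left_cancel (mul_right_cancel e')))
  have hz' : g * a * g⁻¹ = a * t := congrArg Subtype.val hz
  have h2' : g ^ 2 * a * (g ^ 2)⁻¹ = a := by
    rw [show g ^ 2 * a * (g ^ 2)⁻¹ = g * (g * a * g⁻¹) * g⁻¹ by simp [pow_two, mul_assoc], hz',
      show g * (a * t) * g⁻¹ = g * a * g⁻¹ * (g * t * g⁻¹) by group, hz', hgt, mul_assoc,
      Involutions.mul_self_eq_one_of_orderOf ht, mul_one]
  obtain ⟨j, hj⟩ := hodd
  have hcomm : Commute (g ^ 2) a := mul_inv_eq_iff_eq_mul.mp h2'
  have := hcomm.pow_left (j + 1)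
  rw [← pow_mul, show 2 * (j + 1) = orderOf g + 1 by omega, pow_succ, pow_orderOf_eq_one, one_mul] at this
  exact hne this.eq.symm

/-- At most one involution in a cyclic subgroup. -/
theorem unique_involution_of_cyclic (R : Subgroup X) [hR : IsCyclic R] {x y : X} (hx : x ∈ R) (hy : y ∈ R)
    (hx2 : orderOf x = 2) (hy2 : orderOf y = 2) : x = y := by
  classical
  haveI := Fintype.ofFinite R
  by_contra hne
  have h := IsCyclic.card_pow_eq_one_le (α := R) (n := 2) two_pos
  have hsub : ({1, ⟨x, hx⟩, ⟨y, hy⟩} : Finset R) ⊆ (Finset.univ.filter fun a : R => a ^ 2 = 1) := by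
    intro a ha
    simp only [Finset.mem_insert, Finset.mem_singleton] at ha
    simp only [Finset.mem_filter, Finset.mem_univ, true_and]
    rcases ha with rfl | rfl | rfl
    · exact one_pow 2
    · exact Subtype.ext (show x ^ 2 = 1 by rw [← hx2]; exact pow_orderOf_eq_one x)
    · exact Subtype.ext (show y ^ 2 = 1 by rw [← hy2]; exact pow_orderOf_eq_one y)
  have hne1 : ∀ z : X, orderOf z = 2 → z ≠ 1 := fun z hz e => by rw [e, orderOf_one] at hz; norm_num at hz
  have hc : ({1, ⟨x, hx⟩, ⟨y, hy⟩} : Finset R).card = 3 := by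
    rw [Finset.card_insert_of_notMem, Finset.card_pair fun e => hne (congrArg Subtype.val e)]
    simp only [Finset.mem_insert, Finset.mem_singleton, not_or]
    exact ⟨fun e => hne1 x hx2 (congrArg Subtype.val e).symm, fun e => hne1 y hy2 (congrArg Subtype.val e).symm⟩
  have := (Finset.card_le_card hsub).trans h
  omega

include eS in
/-- A cyclic subgroup of index two and an involution outside inverting it. -/
theorem exists_inverter (hm : 2 ≤ m) {t : X} (ht : orderOf t = 2)
    (htZ : ∀ x ∈ (S : Subgroup X), x * t = t * x) {R : Subgroup X} (hRS : R ≤ (S : Subgroup X)) (hRc : IsCyclic R)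
    (hR2 : R.relIndex (S : Subgroup X) = 2) (htR : t ∈ R) :
    ∃ s ∈ (S : Subgroup X), s ∉ R ∧ orderOf s = 2 ∧ (∀ x ∈ R, s * x * s⁻¹ = x⁻¹) ∧
      ∀ x ∈ (S : Subgroup X), x ∈ R ∨ x * s ∈ R := by
  haveI : NeZero m := ⟨by omega⟩
  have hidx : (R.subgroupOf (S : Subgroup X)).index = 2 := hR2
  have hcR : Nat.card R = m := by
    have h := (R.subgroupOf (S : Subgroup X)).card_mul_index
    rw [hidx, Nat.card_congr (Subgroup.subgroupOfEquivOfLe hRS).toEquiv, Nat.card_congr eS.toEquiv,
      DihedralGroup.nat_card] at h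
    omega
  have hsplit : ∀ s ∈ (S : Subgroup X), s ∉ R → ∀ x ∈ (S : Subgroup X), x ∈ R ∨ x * s ∈ R := by
    intro s hs hsR x hx
    by_cases hxR : x ∈ R
    · exact Or.inl hxR
    have := (Subgroup.mul_mem_iff_of_index_two hidx (a := ⟨x, hx⟩) (b := ⟨s, hs⟩)).mpr
      (by simp [Subgroup.mem_subgroupOf, hxR, hsR])
    exact Or.inr (Subgroup.mem_subgroupOf.mp this)
  by_cases h2 : m = 2
  · obtain ⟨s, hs, hsR⟩ : ∃ s ∈ (S : Subgroup X), s ∉ R := by
      by_contra hall
      push Not at hall
      have := Subgroup.relIndex_eq_one.mpr hall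
      omega
    have hs1 : s ≠ 1 := fun e => hsR (e ▸ one_mem R)
    have hsq : s * s = 1 := by
      have hd : eS ⟨s, hs⟩ * eS ⟨s, hs⟩ = 1 := by
        subst h2
        generalize eS ⟨s, hs⟩ = z
        rcases z with j | j
        · rw [sq_r]; revert j; decide
        · exact sr_mul_self j
      have h' : (⟨s, hs⟩ : (S : Subgroup X)) * ⟨s, hs⟩ = 1 := eS.injective (by rw [map_mul, hd, map_one])
      exact congrArg Subtype.val h'
    have hso : orderOf s = 2 := Involutions.orderOf_eq_two_iff'.mpr ⟨hsq, hs1⟩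
    refine ⟨s, hs, hsR, hso, fun x hx => ?_, hsplit s hs hsR⟩
    have hx' : x = 1 ∨ x = t := by
      by_cases hx1 : x = 1
      · exact Or.inl hx1
      haveI := hRc
      refine Or.inr (unique_involution_of_cyclic R hx htR ?_ ht)
      have hd := Subgroup.orderOf_dvd_natCard R hx
      rw [hcR, h2] at hd
      exact (Nat.dvd_prime Nat.prime_two).mp hd |>.resolve_left fun e => hx1 (orderOf_eq_one_iff.mp e)
    rcases hx' with rfl | rfl
    · group
    · rw [htZ s hs, mul_inv_cancel_right, Involutions.inv_eq_self_of_orderOf ht]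
  · obtain ⟨⟨x₀, hx₀⟩, hgen⟩ := hRc.exists_generator
    have hR : R = Subgroup.zpowers x₀ := by
      refine le_antisymm (fun y hy => ?_) (Subgroup.zpowers_le.mpr hx₀)
      obtain ⟨n, hn⟩ := Subgroup.mem_zpowers_iff.mp (hgen ⟨y, hy⟩)
      exact Subgroup.mem_zpowers_iff.mpr ⟨n, congrArg Subtype.val hn⟩
    have ho : orderOf x₀ = m := by rw [← Nat.card_zpowers, ← hR, hcR]
    obtain ⟨i, hi⟩ : ∃ i, eS ⟨x₀, hRS hx₀⟩ = r i := by
      rcases hc : eS ⟨x₀, hRS hx₀⟩ with j | j
      · exact ⟨j, rfl⟩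
      · exfalso
        have : orderOf (eS ⟨x₀, hRS hx₀⟩) = 2 := by rw [hc]; exact DihedralGroup.orderOf_sr j
        rw [MulEquiv.orderOf_eq, Subgroup.orderOf_mk, ho] at this
        exact h2 this
    have himg : ∀ x, (hx : x ∈ R) → ∃ j, eS ⟨x, hRS hx⟩ = r j := by
      intro x hx
      obtain ⟨n, rfl⟩ := Subgroup.mem_zpowers_iff.mp (hR ▸ hx)
      refine ⟨(n : ZMod m) * i, ?_⟩
      rw [show (⟨x₀ ^ n, hRS hx⟩ : (S : Subgroup X)) = ⟨x₀, hRS hx₀⟩ ^ n from Subtype.ext rfl, map_zpow, hi, r_zpow]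
      congr 1
      ring
    set s : (S : Subgroup X) := eS.symm (sr 0) with hsdef
    have hsR : (s : X) ∉ R := by
      intro h
      obtain ⟨j, hj⟩ := himg _ h
      rw [show (⟨(s : X), hRS h⟩ : (S : Subgroup X)) = s from rfl, hsdef, MulEquiv.apply_symm_apply] at hj
      cases hj
    have hso : orderOf (s : X) = 2 := by
      rw [Subgroup.orderOf_coe, hsdef, MulEquiv.orderOf_eq]
      exact DihedralGroup.orderOf_sr 0
    refine ⟨s, s.2, hsR, hso, fun x hx => ?_, hsplit _ s.2 hsR⟩
    obtain ⟨j, hj⟩ := himg x hx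
    have : s * ⟨x, hRS hx⟩ * s⁻¹ = (⟨x, hRS hx⟩ : (S : Subgroup X))⁻¹ := eS.injective (by
      rw [map_mul, map_mul, map_inv, map_inv, hj, hsdef, MulEquiv.apply_symm_apply, inv_sr, sr_mul_r, sr_mul_sr,
        inv_r]
      congr 1
      ring)
    exact congrArg Subtype.val this

variable {G : Type u} [Group G] [Finite G]

/-- Recognition of `PSL(2,q)` from a dihedral Sylow 2-subgroup and the structure of the core of an involution centraliser. -/
theorem psl2_of_dihedral [IsSimpleGroup G] (S : Sylow 2 G) (n : ℕ)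
    (hn : 2 ≤ n) (eS : (S : Subgroup G) ≃* DihedralGroup n) (t : G) (ht : orderOf t = 2)
    (htS : t ∈ (S : Subgroup G)) (htZ : ∀ s ∈ (S : Subgroup G), s * t = t * s) (O : Subgroup G)
    (hO : O = (Cfsg.oddCore (Subgroup.centralizer ({t} : Set G))).map (Subgroup.centralizer ({t} : Set G)).subtype)
    (ha : O ≠ ⊥ → IsCyclic ((S : Subgroup G) ⊓ Subgroup.centralizer (O : Set G) : Subgroup G) ∧
      ((S : Subgroup G) ⊓ Subgroup.centralizer (O : Set G)).relIndex (S : Subgroup G) = 2)
    (hb : ∀ s ∈ (S : Subgroup G), s ∉ Subgroup.centralizer (O : Set G) → ∀ y ∈ O, s * y * s⁻¹ = y⁻¹)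
    (hc : ∀ Y : Subgroup G, Y ≤ O → Y ≠ ⊥ → Subgroup.normalizer (Y : Set G) ≤ Subgroup.centralizer ({t} : Set G)) :
    ∃ (F : Type) (_ : Field F) (_ : Fintype F), Odd (Fintype.card F) ∧
      Nonempty (G ≃* Matrix.ProjectiveSpecialLinearGroup (Fin 2) F) := by
  classical
  haveI : Fact (Nat.Prime 2) := ⟨Nat.prime_two⟩
  haveI : NeZero n := ⟨by omega⟩
  set C := Subgroup.centralizer ({t} : Set G) with hC
  have hSC : (S : Subgroup G) ≤ C := fun x hx => Subgroup.mem_centralizer_singleton_iff.mpr (htZ x hx)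
  have hcS : Nat.card S = 2 * n := (Nat.card_congr eS.toEquiv).trans DihedralGroup.nat_card
  -- one class of involutions
  have hconj : ∀ x y : G, orderOf x = 2 → orderOf y = 2 → IsConj x y := by
    refine all_conj_of_not_lacking eS hn fun U hU hK hL => ?_
    obtain ⟨H, hH⟩ := exists_index_two_of_lacking eS hn hU hK hL
    haveI := Subgroup.normal_of_index_eq_two hH
    rcases (inferInstance : H.Normal).eq_bot_or_eq_top with e | e
    · rw [e, Subgroup.index_bot] at hH
      have := Nat.le_of_dvd Nat.card_pos ((S : Subgroup G).card_subgroup_dvd_card)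
      rw [hcS, hH] at this
      omega
    · rw [e, Subgroup.index_top] at hH
      exact absurd hH (by norm_num)
  -- the normal complement in the centraliser
  let S' : Sylow 2 C := S.subtype hSC
  let eS' : (S' : Subgroup C) ≃* DihedralGroup n := (Subgroup.subgroupOfEquivOfLe hSC).trans eS
  have htC : t ∈ C := hSC htS
  have hnc := hasNormalPComplement_of_lacking eS' hn fun U hU hK => lacking_of_central eS' hn
    (t := ⟨t, htC⟩) (show (⟨t, htC⟩ : C) ∈ (S : Subgroup G).subgroupOf C from htS)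
    (by rw [Subgroup.orderOf_mk]; exact ht)
    (fun x => Subtype.ext (Subgroup.mem_centralizer_singleton_iff.mp x.2)) hU hK
  obtain ⟨P, M, hMn, hMP⟩ := hnc
  haveI := hMn
  have hMcard : Nat.card M * Nat.card (S' : Subgroup C) = Nat.card C := by
    rw [← hMP.card_mul_card]
    congr 1
    rw [P.card_eq_multiplicity, S'.card_eq_multiplicity]
  have hMidx : Nat.card M = (S' : Subgroup C).index := by
    have h := (S' : Subgroup C).index_mul_card
    exact Nat.eq_of_mul_eq_mul_right Nat.card_pos (hMcard.trans h.symm)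
  have hMcop : (Nat.card M).Coprime (Nat.card (S' : Subgroup C)) := by
    obtain ⟨e, he⟩ := IsPGroup.iff_card.mp S'.2
    rw [he, hMidx]
    exact (Nat.Coprime.pow_left e ((Nat.prime_two.coprime_iff_not_dvd).mpr S'.not_dvd_index)).symm
  have hMS' : Subgroup.IsComplement' M (S' : Subgroup C) := Subgroup.isComplement'_of_coprime hMcard hMcop
  have hModd : Odd (Nat.card M) := by
    rw [hMidx, ← Nat.not_even_iff_odd, even_iff_two_dvd]
    exact S'.not_dvd_index
  have hcore : M = Cfsg.oddCore C := by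
    refine le_antisymm (CfsgLib.le_oddCore hModd) fun y hy => ?_
    obtain ⟨⟨⟨a, ha'⟩, ⟨b, hb'⟩⟩, hab⟩ := hMS'.2 y
    change a * b = y at hab
    have hbO : b ∈ Cfsg.oddCore C := by
      have := mul_mem (inv_mem (CfsgLib.le_oddCore hModd ha')) hy
      rwa [← hab, inv_mul_cancel_left] at this
    have h1 := Subgroup.orderOf_dvd_natCard _ hbO
    obtain ⟨e, he⟩ := S'.2 ⟨b, hb'⟩
    have h2 : orderOf b ∣ 2 ^ e := orderOf_dvd_of_pow_eq_one (congrArg Subtype.val he)
    have h3 : orderOf b = 1 := Nat.eq_one_of_dvd_coprimes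
      (Nat.Coprime.pow_right e (Nat.coprime_two_right.mpr CfsgLib.odd_card_oddCore)) h1 h2
    rw [orderOf_eq_one_iff] at h3
    rw [← hab, h3, mul_one]
    exact ha'
  have hOC : O ≤ C := hO ▸ Subgroup.map_subtype_le _
  have hfac : ∀ c ∈ C, ∃ y ∈ O, ∃ x ∈ (S : Subgroup G), c = y * x := by
    intro c hc'
    obtain ⟨⟨⟨a, ha'⟩, ⟨b, hb'⟩⟩, hab⟩ := hMS'.2 ⟨c, hc'⟩
    refine ⟨a, ?_, b, hb', (congrArg Subtype.val hab).symm⟩
    rw [hO]
    exact ⟨a, hcore ▸ ha', rfl⟩
  have hOnorm : ∀ c ∈ C, ∀ y ∈ O, c * y * c⁻¹ ∈ O := by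
    intro c hc' y hy
    rw [hO] at hy ⊢
    obtain ⟨a, ha', rfl⟩ := hy
    exact ⟨⟨c, hc'⟩ * a * ⟨c, hc'⟩⁻¹, Subgroup.Normal.conj_mem inferInstance a ha' _, rfl⟩
  have hOodd : Odd (Nat.card O) := by
    rw [hO, Subgroup.card_map_of_injective C.subtype_injective]
    exact CfsgLib.odd_card_oddCore
  have hdisj : ∀ y ∈ O, y ∈ (S : Subgroup G) → y = 1 := by
    intro y hy hyS
    obtain ⟨e, he⟩ := S.2 ⟨y, hyS⟩
    have h2 : orderOf y ∣ 2 ^ e := orderOf_dvd_of_pow_eq_one (congrArg Subtype.val he)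
    exact orderOf_eq_one_iff.mp (Nat.eq_one_of_dvd_coprimes
      (Nat.Coprime.pow_right e (Nat.coprime_two_right.mpr hOodd)) (Subgroup.orderOf_dvd_natCard _ hy) h2)
  -- the cyclic subgroup
  obtain ⟨R, hRS, hRc, hR2, htR, hRO, hROeq⟩ : ∃ R : Subgroup G, R ≤ (S : Subgroup G) ∧ IsCyclic R ∧
      R.relIndex (S : Subgroup G) = 2 ∧ t ∈ R ∧ R ≤ Subgroup.centralizer (O : Set G) ∧
      (O ≠ ⊥ → R = (S : Subgroup G) ⊓ Subgroup.centralizer (O : Set G)) := by
    by_cases hO1 : O = ⊥
    · have htriv : ∀ A : Subgroup G, A ≤ Subgroup.centralizer (O : Set G) := fun A x _ => by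
        rw [Subgroup.mem_centralizer_iff]
        intro y hy
        rw [hO1, SetLike.mem_coe, Subgroup.mem_bot] at hy
        simp [hy]
      have hrel : ∀ A : Subgroup G, A ≤ (S : Subgroup G) → Nat.card A = n → A.relIndex (S : Subgroup G) = 2 := by
        intro A hA hcA
        have h : A.relIndex (S : Subgroup G) * n = 2 * n := by
          rw [← hcS]
          nth_rewrite 1 [← hcA]
          rw [← Nat.card_congr (Subgroup.subgroupOfEquivOfLe hA).toEquiv]
          exact (A.subgroupOf (S : Subgroup G)).index_mul_card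
        exact Nat.eq_of_mul_eq_mul_right (by omega) h
      by_cases h2 : n = 2
      · exact ⟨Subgroup.zpowers t, Subgroup.zpowers_le.mpr htS, inferInstance,
          hrel _ (Subgroup.zpowers_le.mpr htS) (by rw [Nat.card_zpowers, ht, h2]), Subgroup.mem_zpowers t, htriv _,
          fun h => absurd hO1 h⟩
      · set x : (S : Subgroup G) := eS.symm (r 1)
        have hxo : orderOf (x : G) = n := by
          rw [Subgroup.orderOf_coe, MulEquiv.orderOf_eq, DihedralGroup.orderOf_r_one]
        refine ⟨Subgroup.zpowers (x : G), Subgroup.zpowers_le.mpr x.2, inferInstance,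
          hrel _ (Subgroup.zpowers_le.mpr x.2) (by rw [Nat.card_zpowers, hxo]), ?_, htriv _, fun h => absurd hO1 h⟩
        refine Subgroup.mem_zpowers_iff.mpr ⟨((n / 2 : ℕ) : ℤ), ?_⟩
        have h := central_shape eS hn h2 htS ht htZ
        have h' : x ^ ((n / 2 : ℕ) : ℤ) = ⟨t, htS⟩ := eS.injective (by
          rw [zpow_natCast, map_pow, h, MulEquiv.apply_symm_apply, r_one_pow])
        exact congrArg Subtype.val h'
    · obtain ⟨h1, h2⟩ := ha hO1
      exact ⟨_, inf_le_left, h1, h2, ⟨htS, Subgroup.mem_centralizer_iff.mpr fun y hy =>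
        Subgroup.mem_centralizer_singleton_iff.mp (hOC hy)⟩, inf_le_right, fun _ => rfl⟩
  obtain ⟨s, hsS, hsR, hso, hsinv, hsplit⟩ := exists_inverter eS hn ht htZ hRS hRc hR2 htR
  haveI := hRc
  have hsO : ∀ y ∈ O, s * y * s⁻¹ = y⁻¹ := by
    intro y hy
    by_cases hO1 : O = ⊥
    · rw [hO1, Subgroup.mem_bot] at hy
      simp [hy]
    · exact hb s hsS (fun h => hsR (hROeq hO1 ▸ ⟨hsS, h⟩)) y hy
  have hOcomm : ∀ y ∈ O, ∀ z ∈ O, y * z = z * y := by
    intro y hy z hz
    have h := hsO _ (mul_mem hy hz)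
    rw [show s * (y * z) * s⁻¹ = s * y * s⁻¹ * (s * z * s⁻¹) by group, hsO y hy, hsO z hz, ← mul_inv_rev,
      inv_inj] at h
    exact h.symm
  have hRy : ∀ x ∈ R, ∀ y ∈ O, y * x = x * y := fun x hx y hy => Subgroup.mem_centralizer_iff.mp (hRO hx) y hy
  haveI := hRc
  have hRcomm : ∀ x ∈ R, ∀ z ∈ R, x * z = z * x := by
    letI := IsCyclic.commGroup (α := R)
    exact fun x hx z hz => congrArg Subtype.val (mul_comm (⟨x, hx⟩ : R) ⟨z, hz⟩)
  let K : Subgroup G :=
    { carrier := {g | ∃ y ∈ O, ∃ x ∈ R, g = y * x}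
      one_mem' := ⟨1, one_mem _, 1, one_mem _, (mul_one 1).symm⟩
      mul_mem' := by
        rintro _ _ ⟨y, hy, x, hx, rfl⟩ ⟨y', hy', x', hx', rfl⟩
        refine ⟨y * y', mul_mem hy hy', x * x', mul_mem hx hx', ?_⟩
        rw [mul_assoc y x, ← mul_assoc x y', ← hRy x hx y' hy']
        simp [mul_assoc]
      inv_mem' := by
        rintro _ ⟨y, hy, x, hx, rfl⟩
        exact ⟨y⁻¹, inv_mem hy, x⁻¹, inv_mem hx, by rw [mul_inv_rev, ← hRy _ (inv_mem hx) _ (inv_mem hy)]⟩ }
  have hOK : ∀ y ∈ O, y ∈ K := fun y hy => ⟨y, hy, 1, one_mem _, (mul_one y).symm⟩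
  have hRK : ∀ x ∈ R, x ∈ K := fun x hx => ⟨1, one_mem _, x, hx, (one_mul x).symm⟩
  have hKC : K ≤ C := by
    rintro _ ⟨y, hy, x, hx, rfl⟩
    exact mul_mem (hOC hy) (hSC (hRS hx))
  have hsC : s ∈ C := hSC hsS
  have hKinv : ∀ g ∈ K, s * g * s⁻¹ = g⁻¹ := by
    rintro _ ⟨y, hy, x, hx, rfl⟩
    rw [show s * (y * x) * s⁻¹ = s * y * s⁻¹ * (s * x * s⁻¹) by group, hsO y hy, hsinv x hx, mul_inv_rev]
    exact hRy _ (inv_mem hx) _ (inv_mem hy)
  have hKsq : ∀ g ∈ K, g * g = 1 → g = 1 ∨ g = t := by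
    rintro _ ⟨y, hy, x, hx, rfl⟩ hg
    have h1 : y * y = (x * x)⁻¹ := by
      refine eq_inv_of_mul_eq_one_left ?_
      rw [← hg, mul_assoc y x (y * x), ← mul_assoc x y x, ← hRy x hx y hy]
      simp [mul_assoc]
    have h2 : y * y = 1 :=
      hdisj _ (mul_mem hy hy) (h1 ▸ inv_mem (mul_mem (hRS hx) (hRS hx)))
    have hy1 : y = 1 := by
      by_contra hne
      obtain ⟨j, hj⟩ := Odd.of_dvd_nat hOodd (Subgroup.orderOf_dvd_natCard _ hy)
      rw [Involutions.orderOf_eq_two_iff'.mpr ⟨h2, hne⟩] at hj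
      omega
    subst hy1
    rw [one_mul] at hg ⊢
    by_cases hx1 : x = 1
    · exact Or.inl hx1
    · exact Or.inr (unique_involution_of_cyclic R hx htR (Involutions.orderOf_eq_two_iff'.mpr ⟨hg, hx1⟩) ht)
  have hsK : s ∉ K := by
    intro h
    rcases hKsq s h (Involutions.mul_self_eq_one_of_orderOf hso) with e | e
    · exact hsR (e ▸ one_mem R)
    · exact hsR (e ▸ htR)
  have hCsplit : ∀ c ∈ C, c ∈ K ∨ c * s ∈ K := by
    intro c hc'
    obtain ⟨y, hy, x, hx, rfl⟩ := hfac c hc'
    rcases hsplit x hx with h | h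
    · exact Or.inl ⟨y, hy, x, h, rfl⟩
    · exact Or.inr ⟨y, hy, x * s, h, mul_assoc _ _ _⟩
  have hodd_mem : ∀ g ∈ K, Odd (orderOf g) → g ∈ O := by
    rintro _ ⟨y, hy, x, hx, rfl⟩ hodd
    have hcom : Commute y x := hRy x hx y hy
    have hpow : x ^ orderOf (y * x) = 1 := by
      have h := pow_orderOf_eq_one (y * x)
      rw [hcom.mul_pow] at h
      have h2 : x ^ orderOf (y * x) = (y ^ orderOf (y * x))⁻¹ := eq_inv_of_mul_eq_one_right h
      exact hdisj _ (h2 ▸ inv_mem (pow_mem hy _)) (pow_mem (hRS hx) _)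
    obtain ⟨e, he⟩ := S.2 ⟨x, hRS hx⟩
    have hx1 : orderOf x = 1 := Nat.eq_one_of_dvd_coprimes
      (Nat.Coprime.pow_right e (Nat.coprime_two_right.mpr hodd)) (orderOf_dvd_of_pow_eq_one hpow)
      (orderOf_dvd_of_pow_eq_one (congrArg Subtype.val he))
    rw [orderOf_eq_one_iff] at hx1
    subst hx1
    rwa [mul_one]
  let D : Setup G :=
    { t := t
      K := K
      s := s
      ht := ht
      comm := by
        rintro _ ⟨y, hy, x, hx, rfl⟩ _ ⟨y', hy', x', hx', rfl⟩
        calc y * x * (y' * x') = y * (x * y') * x' := by group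
          _ = y * (y' * x) * x' := by rw [hRy x hx y' hy']
          _ = y * y' * (x * x') := by group
          _ = y' * y * (x' * x) := by rw [hOcomm y hy y' hy', hRcomm x hx x' hx']
          _ = y' * (y * x') * x := by group
          _ = y' * (x' * y) * x := by rw [hRy x' hx' y hy]
          _ = y' * x' * (y * x) := by group
      htK := hRK t htR
      hs := hso
      hsK := hsK
      hH := by
        refine le_antisymm (sup_le hKC (Subgroup.zpowers_le.mpr hsC)) fun c hc' => ?_
        rcases hCsplit c hc' with h | h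
        · exact Subgroup.mem_sup_left h
        · have := mul_mem (Subgroup.mem_sup_left (T := Subgroup.zpowers s) h)
            (Subgroup.mem_sup_right (S := K) (Subgroup.mem_zpowers s))
          rwa [mul_assoc, Involutions.mul_self_eq_one_of_orderOf hso, mul_one] at this
      hCK := by
        refine le_antisymm (fun g hg => ?_) (Subgroup.zpowers_le.mpr ⟨hRK t htR,
          Subgroup.mem_centralizer_singleton_iff.mpr (htZ s hsS).symm⟩)
        have h1 := hKinv g hg.1
        rw [← Subgroup.mem_centralizer_singleton_iff.mp hg.2, mul_inv_cancel_right] at h1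
        rcases hKsq g hg.1 (eq_inv_iff_mul_eq_one.mp h1) with e | e
        · exact e ▸ one_mem _
        · exact e ▸ Subgroup.mem_zpowers t
      hinv := hKinv
      hTI := by
        intro g hg
        by_contra hne
        obtain ⟨z, ⟨hzK, hz'⟩, hz1⟩ := (Subgroup.bot_or_exists_ne_one _).resolve_left hne
        obtain ⟨r, hr, d, hd⟩ := Nat.exists_prime_and_dvd (fun e => hz1 (orderOf_eq_one_iff.mp e))
        have hd0 : d ≠ 0 := fun e => (orderOf_pos z).ne' (by rw [hd, e, mul_zero])
        have hwo : orderOf (z ^ d) = r := by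
          rw [orderOf_pow' z hd0, hd, Nat.gcd_mul_left_left, Nat.mul_div_cancel _ (Nat.pos_of_ne_zero hd0)]
        obtain ⟨v, hv, hve⟩ := pow_mem hz' d
        change g * v * g⁻¹ = z ^ d at hve
        have hwK := pow_mem hzK d
        generalize z ^ d = w at hwo hve hwK
        have hvo : orderOf v = r := by rw [← hwo, ← hve, Involutions.orderOf_conj]
        rcases hr.eq_two_or_odd' with rfl | hodd
        · have e1 := (hKsq w hwK (Involutions.mul_self_eq_one_of_orderOf hwo)).resolve_left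
            fun e => by rw [e, orderOf_one] at hwo; norm_num at hwo
          have e2 := (hKsq v hv (Involutions.mul_self_eq_one_of_orderOf hvo)).resolve_left
            fun e => by rw [e, orderOf_one] at hvo; norm_num at hvo
          rw [e1, e2] at hve
          exact hg (Subgroup.mem_centralizer_singleton_iff.mpr (mul_inv_eq_iff_eq_mul.mp hve))
        · have hwO := hodd_mem w hwK (hwo.symm ▸ hodd)
          have hvO := hodd_mem v hv (hvo.symm ▸ hodd)
          have hw1 : w ≠ 1 := fun e => by rw [e, orderOf_one] at hwo; exact hr.one_lt.ne hwo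
          have hnc := hc (Subgroup.zpowers w) (Subgroup.zpowers_le.mpr hwO) (Subgroup.zpowers_ne_bot.mpr hw1)
          have hT : g * t * g⁻¹ ∈ C := by
            refine hnc (Subgroup.centralizer_le_normalizer _ ?_)
            rw [Subgroup.mem_centralizer_iff]
            intro y hy
            obtain ⟨j, rfl⟩ := Subgroup.mem_zpowers_iff.mp hy
            have hcomm : Commute (g * t * g⁻¹) w := by
              show _ = _
              rw [← hve, show g * t * g⁻¹ * (g * v * g⁻¹) = g * (t * v) * g⁻¹ by group,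
                ← Subgroup.mem_centralizer_singleton_iff.mp (hOC hvO)]
              group
            exact (hcomm.zpow_right j).eq.symm
          have hcw : g * t * g⁻¹ * w * (g * t * g⁻¹)⁻¹ = w := by
            rw [← hve, show g * t * g⁻¹ * (g * v * g⁻¹) * (g * t * g⁻¹)⁻¹ = g * (t * v * t⁻¹) * g⁻¹ by group,
              ← Subgroup.mem_centralizer_singleton_iff.mp (hOC hvO), mul_inv_cancel_right]
          have hgt : orderOf (g * t * g⁻¹) = 2 := by rw [Involutions.orderOf_conj, ht]
          rcases hCsplit _ hT with h | h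
          · rcases hKsq _ h (Involutions.mul_self_eq_one_of_orderOf hgt) with e | e
            · rw [e, orderOf_one] at hgt; norm_num at hgt
            · exact hg (Subgroup.mem_centralizer_singleton_iff.mpr (mul_inv_eq_iff_eq_mul.mp e))
          · obtain ⟨y, hy, x, hx, he⟩ := h
            have h1 : g * t * g⁻¹ = y * x * s⁻¹ := by rw [← he, mul_inv_cancel_right]
            rw [h1, show y * x * s⁻¹ * w * (y * x * s⁻¹)⁻¹ = y * x * (s⁻¹ * w * s) * (y * x)⁻¹ by group] at hcw
            rw [Involutions.inv_eq_self_of_orderOf hso] at hcw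
            have hs' := hsO w hwO
            rw [Involutions.inv_eq_self_of_orderOf hso] at hs'
            rw [hs'] at hcw
            have hcm : y * x * w⁻¹ = w⁻¹ * (y * x) := by
              rw [mul_assoc y x, ← hRy x hx _ (inv_mem hwO), ← mul_assoc, hOcomm y hy _ (inv_mem hwO), mul_assoc]
            rw [hcm, mul_inv_cancel_right] at hcw
            have h2 : w * w = 1 := by
              nth_rewrite 1 [← hcw]
              exact inv_mul_cancel w
            rw [Involutions.orderOf_eq_two_iff'.mpr ⟨h2, hw1⟩] at hwo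
            subst hwo
            exact absurd hodd (by decide)
      hconj := hconj }
  haveI := Fintype.ofFinite G
  exact psl2_of_concl D.conclusion

end CfsgLib.BSW
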