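import Cfsg.Agent.Lib.BSW.Setup
import Cfsg.Agent.Lib.CharTheory.Induced
import Cfsg.Agent.Lib.CharTheory.Linear
import Cfsg.Agent.Lib.CharTheory.Integral

/-!
The Brauer–Suzuki–Wall configuration: class functions supported on the conjugates of `K`.
-/

set_option autoImplicit false
set_option linter.unusedSectionVars false

namespace CfsgLib.BSW

open Cfsg CfsgLib.CharTheory
open scoped ComplexConjugate

universe u

variable {G : Type u} [Group G] [Fintype G] (S : Setup G)

namespace Setup

noncomputable local instance : Fintype S.K := Fintype.ofFinite _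

/-- Conjugate to a nontrivial element of `K`. -/
def KT (g : G) : Prop := ∃ y ∈ S.K, y ≠ 1 ∧ IsConj y g

/-- The linear characters of `K`. -/
abbrev L : Type u := IrrCharacter ↥S.K

theorem KT_conj {g h : G} (hg : S.KT g) : S.KT (h * g * h⁻¹) := by
  obtain ⟨y, hy, hy1, hc⟩ := hg
  exact ⟨y, hy, hy1, hc.trans (isConj_iff.mpr ⟨h, rfl⟩)⟩

theorem not_KT_one : ¬ S.KT 1 := fun ⟨_, _, h1, hc⟩ => h1 (isConj_one_left.mp hc)

theorem ind_apply {φ : S.K → ℂ} (h1 : φ 1 = 0) (y : S.K) : indFun S.K φ (y : G) = φ y + φ y⁻¹ := by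
  classical
  by_cases hy : y = 1
  · subst hy
    rw [Subgroup.coe_one, indFun_apply_one, inv_one, h1, mul_zero, add_zero]
  have hy' : (y : G) ≠ 1 := fun e => hy (Subtype.ext e)
  have key : ∀ x : G, extendByZero S.K φ (x⁻¹ * (y : G) * x) =
      (if x ∈ S.K then φ y else 0) + if x ∈ S.H ∧ x ∉ S.K then φ y⁻¹ else 0 := by
    intro x
    by_cases hxK : x ∈ S.K
    · have e : x⁻¹ * (y : G) * x = y := by rw [mul_assoc, S.comm _ y.2 _ hxK, inv_mul_cancel_left]
      rw [if_pos hxK, if_neg (fun h => h.2 hxK), add_zero, e, extendByZero_coe]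
    rw [if_neg hxK, zero_add]
    by_cases hxH : x ∈ S.H
    · rw [if_pos ⟨hxH, hxK⟩]
      have e : x⁻¹ * (y : G) * x = ((y⁻¹ : S.K) : G) := by
        rw [Subgroup.coe_inv]
        have := S.inverts (inv_mem hxH) (fun h => hxK (by simpa using inv_mem h)) y.2
        rwa [inv_inv] at this
      rw [e, extendByZero_coe]
    · rw [if_neg (fun h => hxH h.1)]
      refine extendByZero_of_not_mem _ _ fun hmem => hxH ?_
      have := S.ti (g := x⁻¹) y.2 hy' (by rwa [inv_inv])
      simpa using inv_mem this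
  simp only [indFun, key, Finset.sum_add_distrib, ← Finset.sum_filter, Finset.sum_const, nsmul_eq_mul]
  have c1 : ((Finset.univ.filter fun x => x ∈ S.K).card : ℂ) = (Nat.card S.K : ℂ) := by
    rw [← Fintype.card_subtype, ← Nat.card_eq_fintype_card]
  have c2 : ((Finset.univ.filter fun x => x ∈ S.H ∧ x ∉ S.K).card : ℂ) = (Nat.card S.K : ℂ) := by
    have hu : Finset.univ.filter (fun x => x ∈ S.H ∧ x ∉ S.K) =
        Finset.univ.filter (fun x => x ∈ S.H) \ Finset.univ.filter (fun x => x ∈ S.K) := by ext x; simp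
    rw [hu, Finset.card_sdiff_of_subset (fun x => by simpa using fun h => S.K_le_H h), ← Fintype.card_subtype,
      ← Fintype.card_subtype, ← Nat.card_eq_fintype_card, ← Nat.card_eq_fintype_card,
      show Nat.card {x // x ∈ S.H} = 2 * Nat.card S.K from S.card_H]
    congr 1
    show 2 * Nat.card S.K - Nat.card S.K = Nat.card S.K
    omega
  rw [c1, c2, ← mul_add, inv_mul_cancel_left₀ (Nat.cast_ne_zero.mpr Nat.card_pos.ne')]

theorem ind_off {φ : S.K → ℂ} (h1 : φ 1 = 0) {g : G} (hg : ¬ S.KT g) : indFun S.K φ g = 0 := by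
  simp only [indFun]
  rw [Finset.sum_eq_zero fun x _ => ?_, mul_zero]
  by_cases hmem : x⁻¹ * g * x ∈ S.K
  · rw [extendByZero_of_mem _ _ hmem]
    by_cases he : x⁻¹ * g * x = 1
    · rw [show (⟨_, hmem⟩ : S.K) = 1 from Subtype.ext he, h1]
    · exact absurd ⟨_, hmem, he, isConj_iff.mpr ⟨x, by group⟩⟩ hg
  · exact extendByZero_of_not_mem _ _ hmem

/-- Sums of class functions over the conjugates of `K`. -/
theorem sum_KT [DecidableEq G] [DecidablePred S.KT] {f : G → ℂ} (hf : IsClassFunction G f) :
    ∑ g ∈ Finset.univ.filter S.KT, f g =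
      (S.H.index : ℂ) * ∑ y : S.K, if y = 1 then 0 else f y := by
  classical
  set φ : S.K → ℂ := fun y => if y = 1 then 0 else 1 with hφ
  have hφ1 : φ 1 = 0 := if_pos rfl
  have hval : ∀ g, indFun S.K φ g = if S.KT g then 2 else 0 := by
    intro g
    split
    · rename_i h
      obtain ⟨y, hy, hy1, hc⟩ := h
      rw [← (isClassFunction_iff_isConj.mp (indFun_isClassFunction S.K φ)) y g hc]
      rw [show y = ((⟨y, hy⟩ : S.K) : G) from rfl, S.ind_apply hφ1]
      have : (⟨y, hy⟩ : S.K) ≠ 1 := fun e => hy1 (congrArg Subtype.val e)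
      simp only [hφ, if_neg this, if_neg (inv_ne_one.mpr this)]
      norm_num
    · exact S.ind_off hφ1 ‹_›
  have hc : IsClassFunction G (fun g => conj (f g)) := fun g h => by simp only [hf g h]
  have h := frobenius_reciprocity S.K φ hc
  simp only [classInner, hval, Complex.conj_conj, ite_mul, zero_mul, ← Finset.sum_filter, ← Finset.mul_sum] at h
  have hG : (Nat.card G : ℂ) = 2 * (Nat.card S.K : ℂ) * (S.H.index : ℂ) := by exact_mod_cast S.card_G
  have hk : (Nat.card S.K : ℂ) ≠ 0 := Nat.cast_ne_zero.mpr Nat.card_pos.ne'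
  have hi : (S.H.index : ℂ) ≠ 0 := Nat.cast_ne_zero.mpr Subgroup.index_ne_zero_of_finite
  rw [hG] at h
  have e : ∑ y : S.K, φ y * f y = ∑ y : S.K, if y = 1 then 0 else f y :=
    Finset.sum_congr rfl fun y _ => by simp only [hφ]; split <;> simp
  rw [e] at h
  field_simp at h
  linear_combination h

/-! ### The dual of `K` -/

theorem lam_deg (l : S.L) : (l : S.K → ℂ) 1 = 1 :=
  degree_one_of_commutative (fun a b => Subtype.ext (S.comm _ a.2 _ b.2)) l.2

theorem lam_mul (l : S.L) (x y : S.K) : (l : S.K → ℂ) (x * y) = (l : S.K → ℂ) x * (l : S.K → ℂ) y := by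
  obtain ⟨φ, hφ⟩ := exists_hom_of_degree_one (isCharacter_of_irr l.2) (S.lam_deg l)
  simp [hφ]

theorem lam_inv (l : S.L) (x : S.K) : (l : S.K → ℂ) x⁻¹ = conj ((l : S.K → ℂ) x) :=
  char_apply_inv (isCharacter_of_irr l.2) x

theorem sum_lam {y : S.K} (hy : y ≠ 1) : ∑ l : S.L, (l : S.K → ℂ) y = 0 := by
  classical
  have h := sum_irr_apply_mul_degree y
  rw [if_neg hy] at h
  simpa [S.lam_deg] using h

theorem card_L : Fintype.card S.L = S.k := by
  have h := sum_irr_degree_sq (G := S.K)
  simp only [S.lam_deg, one_pow, Finset.sum_const, Finset.card_univ, nsmul_eq_mul, mul_one] at h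
  exact_mod_cast h

/-- The trivial character of `K`. -/
noncomputable def one : S.L := ⟨fun _ => 1, isIrrCharacter_one⟩

/-- The inverse character. -/
noncomputable def bar (l : S.L) : S.L :=
  ⟨fun x => (l : S.K → ℂ) x⁻¹, by
    refine isIrrCharacter_of_degree_one ?_ (by rw [inv_one]; exact S.lam_deg l)
    have := isCharacter_conj (isCharacter_of_irr l.2)
    have e : (fun x => (l : S.K → ℂ) x⁻¹) = fun x => conj ((l : S.K → ℂ) x) := funext (S.lam_inv l)
    rw [e]; exact this⟩

theorem bar_apply (l : S.L) (x : S.K) : (S.bar l : S.K → ℂ) x = (l : S.K → ℂ) x⁻¹ := rfl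

theorem bar_bar (l : S.L) : S.bar (S.bar l) = l := Subtype.ext (funext fun x => by simp [bar])

theorem bar_one : S.bar S.one = S.one := rfl

theorem inner_L (l m : S.L) [Decidable (l = m)] :
    classInner (l : S.K → ℂ) (m : S.K → ℂ) = if l = m then 1 else 0 := by
  split
  · subst l; exact classInner_irr_self m.2
  · exact classInner_irr_ne l.2 m.2 fun e => ‹¬ l = m› (Subtype.ext e)

/-- Exactly two characters of `K` are real. -/
theorem exists_sigma : ∃ σ : S.L, σ ≠ S.one ∧ S.bar σ = σ ∧ ∀ l, S.bar l = l → l = S.one ∨ l = σ := by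
  classical
  have h : ((Finset.univ.filter fun l : S.L => S.bar l = l).card : ℂ) = 2 := by
    have h1 : ∀ l : S.L, (if S.bar l = l then (1 : ℂ) else 0) =
        (Nat.card S.K : ℂ)⁻¹ * ∑ y : S.K, (l : S.K → ℂ) (y * y) := by
      intro l
      have := S.inner_L l (S.bar l)
      rw [if_congr (eq_comm (a := S.bar l)) rfl rfl, ← this, classInner]
      congr 1
      refine Finset.sum_congr rfl fun y _ => ?_
      rw [bar_apply, S.lam_inv, Complex.conj_conj, S.lam_mul]
    rw [← Finset.sum_boole, Finset.sum_congr rfl fun l _ => h1 l, ← Finset.mul_sum, Finset.sum_comm]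
    have h2 : ∀ y : S.K, ∑ l : S.L, (l : S.K → ℂ) (y * y) = if y * y = 1 then (Nat.card S.K : ℂ) else 0 := by
      intro y
      have := sum_irr_apply_mul_degree (y * y)
      simpa [S.lam_deg] using this
    rw [Finset.sum_congr rfl fun y _ => h2 y, ← Finset.sum_filter, Finset.sum_const, nsmul_eq_mul]
    have hset : Finset.univ.filter (fun y : S.K => y * y = 1) = {1, ⟨S.t, S.htK⟩} := by
      ext y
      simp only [Finset.mem_filter, Finset.mem_univ, true_and, Finset.mem_insert, Finset.mem_singleton]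
      constructor
      · intro hy
        exact (S.sq_one y.2 (congrArg Subtype.val hy)).imp (fun e => Subtype.ext e) fun e => Subtype.ext e
      · rintro (rfl | rfl)
        · simp
        · exact Subtype.ext (Involutions.mul_self_eq_one_of_orderOf S.ht)
    rw [hset, Finset.card_pair (fun e => S.t_ne (congrArg Subtype.val e).symm), mul_left_comm,
      inv_mul_cancel₀ (Nat.cast_ne_zero.mpr Nat.card_pos.ne')]
    norm_num
  have h' : (Finset.univ.filter fun l : S.L => S.bar l = l).card = 2 := by exact_mod_cast h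
  obtain ⟨a, b, hab, hs⟩ := Finset.card_eq_two.mp h'
  have hmem : ∀ l : S.L, S.bar l = l ↔ l = a ∨ l = b := fun l => by
    have := Finset.ext_iff.mp hs l
    simpa using this
  rcases (hmem S.one).mp S.bar_one with e | e
  · exact ⟨b, fun e' => hab (by rw [← e, e']), (hmem b).mpr (Or.inr rfl), fun l hl => by rw [e]; exact (hmem l).mp hl⟩
  · exact ⟨a, fun e' => hab (by rw [← e, e']), (hmem a).mpr (Or.inl rfl), fun l hl => by rw [e]; exact ((hmem l).mp hl).symm⟩

/-! ### The induced differences -/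

/-- `(1 - λ)^G`. -/
noncomputable def T (l : S.L) : G → ℂ := indFun S.K (fun y => 1 - (l : S.K → ℂ) y)

theorem T_apply (l : S.L) (y : S.K) :
    S.T l (y : G) = 2 - (l : S.K → ℂ) y - (l : S.K → ℂ) y⁻¹ := by
  rw [T, S.ind_apply (by simp [S.lam_deg])]
  ring

theorem T_off (l : S.L) {g : G} (hg : ¬ S.KT g) : S.T l g = 0 := S.ind_off (by simp [S.lam_deg]) hg

theorem T_genChar (l : S.L) : IsGeneralizedCharacter G (S.T l) :=
  isGenChar_indFun S.K (isGenChar_sub (isGenChar_of_char isCharacter_one) (isGenChar_of_char (isCharacter_of_irr l.2)))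

theorem T_inner {l m : S.L} (hl : l ≠ S.one) (hm : m ≠ S.one) [Decidable (l = m)] [Decidable (l = S.bar m)] :
    classInner (S.T l) (S.T m) = 2 + (if l = m then 1 else 0) + if l = S.bar m then 1 else 0 := by
  classical
  rw [T, frobenius_reciprocity S.K _ (isGenChar_iff_coeff_int.mp (S.T_genChar m)).1]
  have e : (fun y : S.K => S.T m (y : G)) = ((2 : ℂ) • (S.one : S.K → ℂ) - (m : S.K → ℂ)) - (S.bar m : S.K → ℂ) :=
    funext fun y => by simp [S.T_apply, bar_apply, one]
  have e1 : (fun y : S.K => 1 - (l : S.K → ℂ) y) = (S.one : S.K → ℂ) - (l : S.K → ℂ) := funext fun y => by simp [one]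
  rw [e, e1]
  simp only [classInner_sub_left, classInner_sub_right, classInner_smul_right, S.inner_L]
  have h1 : S.one ≠ m := fun e => hm e.symm
  have h2 : S.one ≠ S.bar m := fun e => hm (by rw [← S.bar_bar m, ← e, S.bar_one])
  rw [if_neg h1, if_neg h2, if_neg hl]
  simp only [map_ofNat, if_true]
  ring

theorem T_one {l : S.L} (hl : l ≠ S.one) : classInner (S.T l) (fun _ => 1) = 1 := by
  classical
  rw [T, frobenius_reciprocity S.K _ isClassFunction_one]
  have e1 : (fun y : S.K => 1 - (l : S.K → ℂ) y) = (S.one : S.K → ℂ) - (l : S.K → ℂ) := funext fun y => by simp [one]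
  rw [e1]
  show classInner _ (S.one : S.K → ℂ) = 1
  rw [classInner_sub_left, S.inner_L, S.inner_L, if_pos rfl, if_neg hl, sub_zero]

theorem T_zero (l : S.L) : S.T l 1 = 0 := S.T_off l S.not_KT_one

/-- The values of a class function on `K` from its inner products with the `T`. -/
theorem apply_eq {χ : G → ℂ} (hχ : IsClassFunction G χ) {y : S.K} (hy : y ≠ 1) :
    χ (y : G) = -∑ l : S.L, conj (classInner (S.T l) χ) * (l : S.K → ℂ) y := by
  classical
  have hres : IsClassFunction S.K fun x : S.K => χ (x : G) := fun g h => by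
    show χ ((h * g * h⁻¹ : S.K) : G) = χ (g : G)
    exact hχ g h
  have h := congrFun (eq_sum_irr hres) y
  simp only [Finset.sum_apply, Pi.smul_apply, smul_eq_mul] at h
  set c : ℂ := classInner (fun x : S.K => χ (x : G)) (S.one : S.K → ℂ) with hc
  have hT : ∀ l : S.L, classInner (fun x : S.K => χ (x : G)) (l : S.K → ℂ) = c - conj (classInner (S.T l) χ) := by
    intro l
    rw [T, frobenius_reciprocity S.K _ hχ, classInner_comm,
      show (fun y : S.K => 1 - (l : S.K → ℂ) y) = (S.one : S.K → ℂ) - (l : S.K → ℂ) from funext fun y => by simp [one],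
      classInner_sub_right]
    ring
  rw [h, Finset.sum_congr rfl fun l _ => by rw [hT l, sub_mul], Finset.sum_sub_distrib, ← Finset.mul_sum, S.sum_lam hy,
    mul_zero, zero_sub]

end Setup

end CfsgLib.BSW
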