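import Cfsg.Agent.Lib.BSW.Sets

/-!
The Brauer–Suzuki–Wall configuration: counting outside the conjugates of `K`.
-/

set_option autoImplicit false
set_option linter.unusedSectionVars false

namespace CfsgLib.BSW

open Cfsg CfsgLib.CharTheory
open scoped ComplexConjugate Classical

universe u

variable {G : Type u} [Group G] [Fintype G]

namespace Core

variable {S : Setup G} (C : Core S)

noncomputable local instance : Fintype S.K := Fintype.ofFinite _

/-- The conjugates of nontrivial elements of `K`, as a finite set. -/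
noncomputable def KTs (_ : Core S) : Finset G := Finset.univ.filter S.KT

/-- The elements where `X` vanishes, as a finite set. -/
noncomputable def S1s : Finset G := Finset.univ.filter C.InS1

/-- The elements where the other exceptional characters vanish, as a finite set. -/
noncomputable def S2s : Finset G := Finset.univ.filter C.InS2

theorem mem_S1s {g : G} : g ∈ C.S1s ↔ C.InS1 g := by simp [S1s]

theorem mem_S2s {g : G} : g ∈ C.S2s ↔ C.InS2 g := by simp [S2s]

theorem sum_split (f : G → ℂ) :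
    ∑ g : G, f g = f 1 + ∑ g ∈ C.KTs, f g + ∑ g ∈ C.S1s, f g + ∑ g ∈ C.S2s, f g := by
  simp only [KTs, S1s, S2s, Finset.sum_filter]
  rw [show f 1 = ∑ g : G, if g = 1 then f g else 0 by rw [Finset.sum_ite_eq' Finset.univ (1 : G) f, if_pos (Finset.mem_univ _)],
    ← Finset.sum_add_distrib, ← Finset.sum_add_distrib, ← Finset.sum_add_distrib]
  refine Finset.sum_congr rfl fun g _ => ?_
  by_cases h1 : g = 1
  · subst h1
    simp [S.not_KT_one, InS1, InS2]
  by_cases hK : S.KT g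
  · simp [h1, hK, InS1, InS2]
  rcases C.cases hK h1 with h | h
  · have : ¬ C.InS2 g := fun h' => C.not_S1_S2 h h'
    simp [h1, hK, h, this]
  · have : ¬ C.InS1 g := fun h' => C.not_S1_S2 h' h
    simp [h1, hK, h, this]

theorem sum_KTs {f : G → ℂ} (hf : IsClassFunction G f) :
    ∑ g ∈ C.KTs, f g = (S.H.index : ℂ) * ∑ y : S.K, if y = 1 then 0 else f y := by
  have := S.sum_KT hf
  convert this using 2
  ext g
  simp [KTs]

theorem index_cast : (S.H.index : ℂ) = (2 * (S.k : ℂ) + C.a) * ((S.k : ℂ) + C.a) := by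
  have := C.index_eq
  simp only [p, kz] at this
  exact_mod_cast this

theorem cardG_cast : (Nat.card G : ℂ) = 2 * (S.k : ℂ) * ((2 * (S.k : ℂ) + C.a) * ((S.k : ℂ) + C.a)) := by
  have := C.cardG
  simp only [p, kz] at this
  exact_mod_cast this

theorem q_cast : (C.X : G → ℂ) 1 = 2 * (S.k : ℂ) + C.a := by
  rw [dg_spec, C.dgX]
  simp only [kz]
  push_cast
  ring

theorem card_KTs : ((C.KTs).card : ℂ) = (S.H.index : ℂ) * ((S.k : ℂ) - 1) := by
  have h := C.sum_KTs (f := fun _ => (1 : ℂ)) isClassFunction_one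
  rw [Finset.sum_const, nsmul_eq_mul, mul_one] at h
  rw [h, Finset.sum_ite, Finset.sum_const_zero, zero_add, Finset.sum_const, nsmul_eq_mul, mul_one]
  congr 1
  rw [Finset.filter_not, Finset.card_sdiff_of_subset (Finset.subset_univ _), Finset.filter_eq',
    if_pos (Finset.mem_univ _), Finset.card_singleton, Finset.card_univ, ← Nat.card_eq_fintype_card,
    Nat.cast_sub Nat.card_pos, Nat.cast_one]

theorem inner_zero {χ ψ : IrrCharacter G} (h : χ ≠ ψ) :
    ∑ g : G, (χ : G → ℂ) g * conj ((ψ : G → ℂ) g) = 0 := by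
  have := classInner_irr_ne χ.2 ψ.2 fun e => h (Subtype.ext e)
  rw [classInner] at this
  exact (mul_eq_zero.mp this).resolve_left (inv_ne_zero (Nat.cast_ne_zero.mpr Nat.card_pos.ne'))

theorem card_S2s : ((C.S2s).card : ℂ) = (C.a : ℂ) * (2 * (S.k : ℂ) + C.a) + (S.H.index : ℂ) * ((S.k : ℂ) - 1) := by
  have h := inner_zero C.hX
  rw [C.sum_split] at h
  simp only [oneG, map_one, mul_one] at h
  have hKT : ∀ g ∈ C.KTs, (C.X : G → ℂ) g = (C.a : ℂ) := by
    intro g hg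
    obtain ⟨y, hy, hy1, hc⟩ := (Finset.mem_filter.mp hg).2
    rw [← (isClassFunction_iff_isConj.mp (isClassFunction_irr C.X.2)) y g hc]
    exact C.X_apply (y := ⟨y, hy⟩) fun e => hy1 (congrArg Subtype.val e)
  rw [Finset.sum_congr rfl hKT, Finset.sum_congr rfl fun g hg => (C.mem_S1s.mp hg).2.2,
    Finset.sum_congr rfl fun g hg => (C.mem_S2s.mp hg).2.2, Finset.sum_const, Finset.sum_const_zero,
    Finset.sum_const, nsmul_eq_mul, nsmul_eq_mul, C.card_KTs, C.q_cast] at h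
  linear_combination (-(C.a : ℂ)) * h + ((S.H.index : ℂ) * ((S.k : ℂ) - 1) - (C.S2s.card : ℂ)) * C.a_cast_sq

theorem card_S1s : ((C.S1s).card : ℤ) = (2 * C.kz + C.a) * (2 * C.kz + C.a) - 1 := by
  have h := C.sum_split fun _ => (1 : ℂ)
  simp only [Finset.sum_const, nsmul_eq_mul, mul_one, Finset.card_univ] at h
  rw [← Nat.card_eq_fintype_card, C.card_KTs, C.card_S2s, C.cardG_cast, C.index_cast] at h
  have : ((C.S1s).card : ℂ) = (2 * (S.k : ℂ) + C.a) * (2 * (S.k : ℂ) + C.a) - 1 := by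
    linear_combination -h
  simp only [kz]
  exact_mod_cast this

theorem card_S1s_cast : ((C.S1s).card : ℂ) = 4 * (S.k : ℂ) * ((S.k : ℂ) + C.a) := by
  have := C.card_S1s
  have e : ((C.S1s).card : ℂ) = (2 * (S.k : ℂ) + C.a) * (2 * (S.k : ℂ) + C.a) - 1 := by
    simp only [kz] at this; exact_mod_cast this
  linear_combination e + C.a_cast_sq

/-- Sums of irreducible characters over the first set. -/
theorem sum_S1s {χ : IrrCharacter G} (h1 : χ ≠ oneG) (hX : χ ≠ C.X) :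
    ∑ g ∈ C.S1s, (χ : G → ℂ) g =
      -2 * (C.a : ℂ) * ((S.k : ℂ) + C.a) * (χ : G → ℂ) 1 - 2 * ∑ g ∈ C.KTs, (χ : G → ℂ) g := by
  have e1 := inner_zero h1
  have e2 := inner_zero hX
  rw [C.sum_split] at e1 e2
  simp only [oneG, map_one, mul_one] at e1
  have hKT : ∀ g ∈ C.KTs, (χ : G → ℂ) g * conj ((C.X : G → ℂ) g) = (C.a : ℂ) * (χ : G → ℂ) g := by
    intro g hg
    obtain ⟨y, hy, hy1, hc⟩ := (Finset.mem_filter.mp hg).2
    rw [← (isClassFunction_iff_isConj.mp (isClassFunction_irr C.X.2)) y g hc,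
      C.X_apply (y := ⟨y, hy⟩) (fun e => hy1 (congrArg Subtype.val e)), map_intCast, mul_comm]
  rw [Finset.sum_congr rfl hKT,
    Finset.sum_congr rfl (g := fun _ => (0 : ℂ)) (s₁ := C.S1s) (fun g hg => by rw [(C.mem_S1s.mp hg).2.2, map_zero, mul_zero]),
    Finset.sum_congr rfl (g := fun g => (-(C.a : ℂ)) * (χ : G → ℂ) g) (s₁ := C.S2s) (fun g hg => by
      rw [(C.mem_S2s.mp hg).2.2, map_neg, map_intCast, mul_comm]),
    Finset.sum_const_zero, ← Finset.mul_sum, ← Finset.mul_sum, C.q_cast] at e2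
  simp only [map_add, map_mul, map_ofNat, map_natCast, map_intCast] at e2
  linear_combination e1 + (C.a : ℂ) * e2 + (∑ g ∈ C.S2s, (χ : G → ℂ) g - ∑ g ∈ C.KTs, (χ : G → ℂ) g + (χ : G → ℂ) 1) * C.a_cast_sq

theorem sum_K_lam (l : S.L) (hl : l ≠ S.one) : ∑ y : S.K, (l : S.K → ℂ) y = 0 := by
  have h := S.inner_L l S.one
  rw [if_neg hl, classInner] at h
  rcases mul_eq_zero.mp h with e | e
  · exact absurd e (inv_ne_zero (Nat.cast_ne_zero.mpr Nat.card_pos.ne'))
  · simpa [Setup.one] using e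

theorem sum_S1s_WZ {V : IrrCharacter G} (h1 : V ≠ oneG) (hX : V ≠ C.X) (hd : dg V = C.p)
    (hv : ∀ y : S.K, y ≠ 1 → (V : G → ℂ) (y : G) = (C.a : ℂ) * (C.sig : S.K → ℂ) y) :
    ∑ g ∈ C.S1s, (V : G → ℂ) g = 2 * (C.a : ℂ) * (S.k : ℂ) * ((S.k : ℂ) + C.a) := by
  have e : ∑ y : S.K, (if y = 1 then 0 else (V : G → ℂ) y) = -(C.a : ℂ) := by
    rw [Finset.sum_congr rfl (g := fun y : S.K => (C.a : ℂ) * (C.sig : S.K → ℂ) y -
        if y = 1 then (C.a : ℂ) else 0) fun y _ => ?_, Finset.sum_sub_distrib, ← Finset.mul_sum, C.sum_sig,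
      Finset.sum_ite_eq' Finset.univ (1 : S.K), if_pos (Finset.mem_univ _), mul_zero, zero_sub]
    by_cases hy : y = 1
    · subst hy; simp [S.lam_deg]
    · rw [if_neg hy, if_neg hy, hv y hy, sub_zero]
  rw [C.sum_S1s h1 hX, C.sum_KTs (isClassFunction_irr V.2), e, dg_spec, hd, C.index_cast]
  simp only [p, kz]
  push_cast
  ring

/-- The non-real characters of `K`. -/
noncomputable def NRs (_ : Core S) : Finset S.L := Finset.univ.filter S.NR

theorem card_NRs : ((C.NRs).card : ℂ) = (S.k : ℂ) - 2 := by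
  have e : C.NRs = Finset.univ \ ({S.one, C.sig} : Finset S.L) := by
    ext l
    simp only [NRs, Finset.mem_filter, Finset.mem_univ, true_and, Finset.mem_sdiff, Finset.mem_insert,
      Finset.mem_singleton, not_or]
    exact ⟨fun h => ⟨S.NR_ne h, fun e => C.sig_ne_NR h e.symm⟩, fun h => C.NR_of h.1 h.2⟩
  rw [e, Finset.card_sdiff_of_subset (Finset.subset_univ _), Finset.card_pair C.sig_ne.symm, Finset.card_univ,
    S.card_L, Nat.cast_sub (by have := C.h4; omega)]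
  norm_num

/-- The exceptional characters attached to non-real characters. -/
noncomputable def Ys : Finset (IrrCharacter G) := C.NRs.image C.Yf

theorem card_Ys : ((C.Ys).card : ℂ) * 2 = (S.k : ℂ) - 2 := by
  rw [← C.card_NRs, Ys, Finset.card_eq_sum_card_image C.Yf C.NRs,
    Finset.sum_congr rfl (g := fun _ => 2) fun Y hY => ?_, Finset.sum_const, smul_eq_mul]
  · push_cast; ring
  obtain ⟨l, hl, rfl⟩ := Finset.mem_image.mp hY
  have hlN : S.NR l := (Finset.mem_filter.mp hl).2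
  have e : C.NRs.filter (fun m => C.Yf m = C.Yf l) = {l, S.bar l} := by
    ext m
    simp only [NRs, Finset.mem_filter, Finset.mem_univ, true_and, Finset.mem_insert, Finset.mem_singleton]
    constructor
    · rintro ⟨hm, h⟩; exact (C.Yf_eq_iff hlN hm).mp h.symm
    · rintro (rfl | rfl)
      · exact ⟨hlN, rfl⟩
      · exact ⟨S.NR_bar hlN, ((C.Yf_eq_iff hlN (S.NR_bar hlN)).mpr (Or.inr rfl)).symm⟩
  rw [e, Finset.card_pair]
  exact fun e => hlN e.symm

/-- The irreducible characters other than the exceptional ones vanish on `K`. -/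
theorem free_val {χ : IrrCharacter G} (h1 : χ ≠ oneG) (hX : χ ≠ C.X) (hW : χ ≠ C.W) (hZ : χ ≠ C.Z)
    (hY : χ ∉ C.Ys) {y : S.K} (hy : y ≠ 1) : (χ : G → ℂ) (y : G) = 0 := by
  rw [S.apply_K χ hy, Finset.sum_eq_zero fun l _ => ?_, neg_zero]
  by_cases hl : l = S.one
  · rw [hl, S.coef_one, Int.cast_zero, zero_mul]
  by_cases hs : l = C.sig
  · rw [hs, C.WZ_spec.2.2.2.2.2.2.2.2.2.2.2 χ h1 hX hW hZ, Int.cast_zero, zero_mul]
  have hlN := C.NR_of hl hs
  rw [(C.Yf_spec hlN).2.2.2.1 χ h1 hX fun e => hY (e ▸ Finset.mem_image_of_mem _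
    (Finset.mem_filter.mpr ⟨Finset.mem_univ _, hlN⟩)), Int.cast_zero, zero_mul]

theorem sum_S1s_free {χ : IrrCharacter G} (h1 : χ ≠ oneG) (hX : χ ≠ C.X) (hW : χ ≠ C.W) (hZ : χ ≠ C.Z)
    (hY : χ ∉ C.Ys) :
    ∑ g ∈ C.S1s, (χ : G → ℂ) g = -2 * (C.a : ℂ) * ((S.k : ℂ) + C.a) * (χ : G → ℂ) 1 := by
  rw [C.sum_S1s h1 hX, C.sum_KTs (isClassFunction_irr χ.2),
    Finset.sum_eq_zero (f := fun y : S.K => if y = 1 then (0 : ℂ) else (χ : G → ℂ) y) fun y _ => ?_, mul_zero, mul_zero,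
    sub_zero]
  by_cases hy : y = 1
  · rw [if_pos hy]
  · rw [if_neg hy, C.free_val h1 hX hW hZ hY hy]

/-- The centraliser of an element of the first set. -/
theorem card_centralizer {g : G} (hg : C.InS1 g) :
    (Nat.card (Subgroup.centralizer ({g} : Set G)) : ℤ) = 2 * C.kz + C.a := by
  obtain ⟨m, hm⟩ := C.centralizer_dvd_q hg
  have h := card_isConj_mul_card_centralizer g
  have hsub : Nat.card {x : G // IsConj g x} ≤ C.S1s.card := by
    rw [Nat.card_eq_fintype_card, Fintype.card_subtype]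
    refine Finset.card_le_card fun x hx => C.mem_S1s.mpr ?_
    obtain ⟨c, rfl⟩ := isConj_iff.mp (Finset.mem_filter.mp hx).2
    exact C.S1_conj hg c
  have hsub' : (Nat.card {x : G // IsConj g x} : ℤ) ≤ (2 * C.kz + C.a) * (2 * C.kz + C.a) - 1 := by
    rw [← C.card_S1s]; exact_mod_cast hsub
  have h' : (Nat.card {x : G // IsConj g x} : ℤ) * Nat.card (Subgroup.centralizer ({g} : Set G)) =
      2 * C.kz * ((2 * C.kz + C.a) * C.p) := by rw [← C.cardG]; exact_mod_cast h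
  have hc0 : (0 : ℤ) < Nat.card (Subgroup.centralizer ({g} : Set G)) := by exact_mod_cast Nat.card_pos
  generalize (Nat.card (Subgroup.centralizer ({g} : Set G)) : ℤ) = c at *
  generalize (Nat.card {x : G // IsConj g x} : ℤ) = n at *
  have hk := C.k4
  have hp := C.p_pos
  have hq : 0 < c * m := by rw [← hm]; rcases C.ha with e | e <;> omega
  have e1 : n = 2 * C.kz * C.p * m := by
    have hc : c ≠ 0 := fun e => by rw [e, zero_mul] at hq; exact lt_irrefl _ hq
    apply mul_right_cancel₀ hc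
    rw [h', hm]
    ring
  have e2 : (2 * C.kz + C.a) * (2 * C.kz + C.a) - 1 = 4 * C.kz * C.p := by
    simp only [p]; linear_combination C.a_sq
  rw [e1, e2] at hsub'
  have hpos : 0 < 2 * C.kz * C.p := by positivity
  have hm2 : m ≤ 2 := by
    by_contra hlt
    push Not at hlt
    have := mul_le_mul_of_nonneg_left (show (3 : ℤ) ≤ m by omega) hpos.le
    linarith
  have hm1 : 0 < m := by
    rcases (mul_pos_iff.mp hq) with h0 | h0
    · exact h0.2
    · omega
  rcases (show m = 1 ∨ m = 2 by omega) with rfl | rfl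
  · rw [hm, mul_one]
  · exfalso
    rcases C.ha with e | e <;> omega

/-- The number of factorisations inside the first set. -/
theorem card_S1_pairs {w : G} (hw : C.InS1 w) :
    ((C.S1s.filter fun x => x⁻¹ * w ∈ C.S1s).card : ℤ) = 2 * (2 * C.kz + C.a - 1) := by
  have hA : ∀ x ∈ C.S1s, ∀ h : G, h * x * h⁻¹ ∈ C.S1s := fun x hx h =>
    C.mem_S1s.mpr (C.S1_conj (C.mem_S1s.mp hx) h)
  have hP := card_pairs C.S1s hA w
  obtain ⟨hWZ, hW1, hZ1, hWX, hZX, hcW, hcZ, hdW, hdZ, hW0, hZ0, hrest⟩ := C.WZ_spec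
  set B : Finset (IrrCharacter G) := {oneG, C.X, C.W, C.Z} with hB
  have hYB : Disjoint B C.Ys := by
    rw [Finset.disjoint_left]
    intro χ hχ hY
    obtain ⟨l, hl, rfl⟩ := Finset.mem_image.mp hY
    have hlN : S.NR l := (Finset.mem_filter.mp hl).2
    obtain ⟨h1, h2, h3, -, -, -⟩ := C.Yf_spec hlN
    have ha := C.ha
    simp only [hB, Finset.mem_insert, Finset.mem_singleton] at hχ
    rcases hχ with e | e | e | e
    · exact h2 e
    · exact h1 e
    · rw [e, hW0 l (C.sig_ne_NR hlN).symm] at h3; omega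
    · rw [e, hZ0 l (C.sig_ne_NR hlN).symm] at h3; omega
  set O : Finset (IrrCharacter G) := Finset.univ \ (B ∪ C.Ys) with hO
  have hsplit : ∀ f : IrrCharacter G → ℂ, ∑ χ, f χ =
      f oneG + f C.X + (f C.W + f C.Z) + ∑ χ ∈ C.Ys, f χ + ∑ χ ∈ O, f χ := by
    intro f
    rw [hO, ← Finset.sum_sdiff (Finset.subset_univ (B ∪ C.Ys)), Finset.sum_union hYB, hB,
      Finset.sum_insert (by simp [C.hX.symm, hW1.symm, hZ1.symm]), Finset.sum_insert (by simp [hWX.symm, hZX.symm]),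
      Finset.sum_pair hWZ]
    ring
  have hOmem : ∀ χ ∈ O, χ ≠ oneG ∧ χ ≠ C.X ∧ χ ≠ C.W ∧ χ ≠ C.Z ∧ χ ∉ C.Ys := by
    intro χ hχ
    simp only [hO, hB, Finset.mem_sdiff, Finset.mem_union, Finset.mem_insert, Finset.mem_singleton, not_or] at hχ
    exact ⟨hχ.2.1.1, hχ.2.1.2.1, hχ.2.1.2.2.1, hχ.2.1.2.2.2, hχ.2.2⟩
  -- column orthogonality
  have hcol : ∑ χ ∈ O, (χ : G → ℂ) 1 * conj ((χ : G → ℂ) w) =
      -1 - (C.a : ℂ) * ((S.k : ℂ) + C.a) * ((S.k : ℂ) - 1) := by
    have h := sum_irr_mul_conj 1 w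
    rw [if_neg (fun e => hw.1 (isConj_one_right.mp e))] at h
    rw [hsplit, Finset.sum_congr rfl (g := fun _ => 2 * ((S.k : ℂ) + C.a) * (C.a : ℂ)) (s₁ := C.Ys) fun χ hχ => by
      obtain ⟨l, hl, rfl⟩ := Finset.mem_image.mp hχ
      rw [C.S1_Y hw (Finset.mem_filter.mp hl).2, dg_spec, (C.Yf_spec (Finset.mem_filter.mp hl).2).2.2.2.2.1, map_intCast]
      simp only [p, kz]
      push_cast
      ring, Finset.sum_const, nsmul_eq_mul, hw.2.2, map_zero, mul_zero, dg_spec C.W, dg_spec C.Z, hdW, hdZ] at h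
    have e : conj ((C.W : G → ℂ) w) + conj ((C.Z : G → ℂ) w) = (C.a : ℂ) := by
      rw [← map_add, C.S1_WZ hw, map_intCast]
    simp only [oneG, map_one, p, kz] at h
    push_cast at h
    linear_combination h - ((S.k : ℂ) + C.a) * e - (C.a : ℂ) * ((S.k : ℂ) + C.a) * C.card_Ys
  rw [hsplit, Finset.sum_congr rfl (g := fun _ =>
      ((C.a : ℂ) * (4 * (S.k : ℂ) * ((S.k : ℂ) + C.a))) ^ 2 * (C.a : ℂ) / (2 * ((S.k : ℂ) + C.a))) (s₁ := C.Ys) fun χ hχ => by
      obtain ⟨l, hl, rfl⟩ := Finset.mem_image.mp hχ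
      have hlN : S.NR l := (Finset.mem_filter.mp hl).2
      rw [Finset.sum_congr rfl (g := fun _ => (C.a : ℂ)) fun g hg => C.S1_Y (C.mem_S1s.mp hg) hlN,
        Finset.sum_const, nsmul_eq_mul, C.card_S1s_cast, C.S1_Y hw hlN, dg_spec, (C.Yf_spec hlN).2.2.2.2.1, map_intCast]
      simp only [p, kz]
      push_cast
      ring, Finset.sum_const, nsmul_eq_mul,
    Finset.sum_congr rfl (g := fun χ : IrrCharacter G =>
      4 * ((S.k : ℂ) + C.a) ^ 2 * ((χ : G → ℂ) 1 * conj ((χ : G → ℂ) w))) (s₁ := O) fun χ hχ => by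
      obtain ⟨h1, h2, h3, h4, h5⟩ := hOmem χ hχ
      rw [C.sum_S1s_free h1 h2 h3 h4 h5]
      have := irr_ne_zero χ.2
      field_simp
      linear_combination (4 * conj ((χ : G → ℂ) w) * ((S.k : ℂ) + C.a) ^ 2) * C.a_cast_sq,
    ← Finset.mul_sum, hcol, C.sum_S1s_WZ hW1 hWX hdW (fun _ => C.W_val),
    C.sum_S1s_WZ hZ1 hZX hdZ (fun _ => C.Z_val), hw.2.2, map_zero, mul_zero, zero_div, dg_spec C.W, dg_spec C.Z,
    hdW, hdZ, C.cardG_cast] at hP
  simp only [oneG, Finset.sum_const, nsmul_eq_mul, mul_one, map_one, div_one, C.card_S1s_cast, p, kz] at hP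
  push_cast at hP
  have e : conj ((C.W : G → ℂ) w) + conj ((C.Z : G → ℂ) w) = (C.a : ℂ) := by
    rw [← map_add, C.S1_WZ hw, map_intCast]
  have hpne : (S.k : ℂ) + C.a ≠ 0 := by
    have : ((C.p : ℤ) : ℂ) ≠ 0 := by
      have := C.p_pos
      exact_mod_cast (show C.p ≠ 0 by omega)
    simpa [p, kz] using this
  have key : (2 * (S.k : ℂ) * (2 * (S.k : ℂ) + C.a)) *
      ((C.S1s.filter fun x => x⁻¹ * w ∈ C.S1s).card : ℂ) =
      (2 * (S.k : ℂ) * (2 * (S.k : ℂ) + C.a)) * (2 * (2 * (S.k : ℂ) + C.a - 1)) := by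
    apply mul_left_cancel₀ hpne
    field_simp at hP
    have hYs := C.card_Ys
    rcases C.ha with ea | ea <;> rw [ea] at hP e ⊢ <;> push_cast at hP e ⊢
    · linear_combination hP / 2 + 4 * (S.k : ℂ) ^ 2 * ((S.k : ℂ) + 1) * e + 4 * (S.k : ℂ) ^ 2 * ((S.k : ℂ) + 1) * hYs
    · linear_combination hP / 2 + 4 * (S.k : ℂ) ^ 2 * ((S.k : ℂ) - 1) * e - 4 * (S.k : ℂ) ^ 2 * ((S.k : ℂ) - 1) * hYs
  have hne : (2 * (S.k : ℂ) * (2 * (S.k : ℂ) + C.a)) ≠ 0 := by
    have hk := C.k4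
    have hq : (2 * C.kz + C.a : ℤ) ≠ 0 := by rcases C.ha with e | e <;> omega
    have hq' : (2 * (S.k : ℂ) + C.a) ≠ 0 := by simp only [kz] at hq; exact_mod_cast hq
    exact mul_ne_zero (mul_ne_zero two_ne_zero (Nat.cast_ne_zero.mpr Nat.card_pos.ne')) hq'
  have := mul_left_cancel₀ hne key
  simp only [kz]
  exact_mod_cast this

end Core

end CfsgLib.BSW
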