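import Cfsg.Agent.Lib.BSW.Chars
import Cfsg.Agent.Lib.BSW.PairCount
import Cfsg.Agent.Lib.CharTheory.More

/-!
The Brauer–Suzuki–Wall configuration: decomposition of the induced differences.
-/

set_option autoImplicit false
set_option linter.unusedSectionVars false

namespace CfsgLib.BSW

open Cfsg CfsgLib.CharTheory
open scoped ComplexConjugate

universe u

variable {G : Type u} [Group G] [Fintype G] (S : Setup G)

/-- The principal character. -/
noncomputable def oneG : IrrCharacter G := ⟨fun _ => 1, isIrrCharacter_one⟩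

/-- The degree as an integer. -/
noncomputable def dg (χ : IrrCharacter G) : ℤ := (charDegree (χ : G → ℂ) : ℤ)

theorem dg_pos (χ : IrrCharacter G) : 0 < dg χ := Int.natCast_pos.mpr (charDegree_spec' χ.2).2

theorem dg_spec (χ : IrrCharacter G) : (χ : G → ℂ) 1 = ((dg χ : ℤ) : ℂ) := by
  rw [dg, (charDegree_spec' χ.2).1, Int.cast_natCast]

theorem dg_oneG : dg (oneG (G := G)) = 1 := by
  have h : ((dg (oneG (G := G)) : ℤ) : ℂ) = 1 := (dg_spec oneG).symm
  exact_mod_cast h

namespace Setup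

noncomputable local instance : Fintype S.K := Fintype.ofFinite _

/-- The coefficients of the induced differences. -/
noncomputable def coef (l : S.L) : IrrCharacter G → ℤ :=
  (classInner_self_eq_sum_sq (S.T_genChar l)).choose

theorem coef_spec (l : S.L) (χ : IrrCharacter G) : classInner (S.T l) (χ : G → ℂ) = S.coef l χ :=
  (classInner_self_eq_sum_sq (S.T_genChar l)).choose_spec.2.1 χ

theorem T_eq (l : S.L) : S.T l = ∑ χ : IrrCharacter G, (S.coef l χ : ℂ) • (χ : G → ℂ) :=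
  (classInner_self_eq_sum_sq (S.T_genChar l)).choose_spec.1

theorem coef_oneG {l : S.L} (hl : l ≠ S.one) : S.coef l oneG = 1 := by
  have h := S.coef_spec l oneG
  rw [show ((oneG : IrrCharacter G) : G → ℂ) = fun _ => 1 from rfl, S.T_one hl] at h
  exact_mod_cast h.symm

theorem coef_one (χ : IrrCharacter G) : S.coef S.one χ = 0 := by
  have h := S.coef_spec S.one χ
  have e : (fun y : S.K => 1 - (S.one : S.K → ℂ) y) = 0 := funext fun y => by simp [one]
  rw [T, e, indFun_zero] at h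
  simp [classInner] at h
  exact_mod_cast h.symm

theorem sum_coef_mul {l m : S.L} (hl : l ≠ S.one) (hm : m ≠ S.one) [DecidableEq (IrrCharacter G)]
    [Decidable (l = m)] [Decidable (l = S.bar m)] :
    ∑ χ ∈ Finset.univ.erase oneG, S.coef l χ * S.coef m χ =
      1 + (if l = m then 1 else 0) + if l = S.bar m then 1 else 0 := by
  have h := S.T_inner hl hm
  rw [classInner_eq_sum_irr (isGenChar_iff_coeff_int.mp (S.T_genChar l)).1,
    ← Finset.add_sum_erase _ _ (Finset.mem_univ (oneG : IrrCharacter G))] at h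
  have e : ∀ χ : IrrCharacter G, classInner (S.T l) χ * classInner (χ : G → ℂ) (S.T m) =
      ((S.coef l χ * S.coef m χ : ℤ) : ℂ) := fun χ => by
    rw [S.coef_spec, ← classInner_comm (S.T m), S.coef_spec, map_intCast, Int.cast_mul]
  simp only [e, S.coef_oneG hl, S.coef_oneG hm] at h
  rw [← Int.cast_sum] at h
  have h' : (1 * 1 : ℤ) + ∑ χ ∈ Finset.univ.erase oneG, S.coef l χ * S.coef m χ =
      2 + (if l = m then 1 else 0) + if l = S.bar m then 1 else 0 := by
    split_ifs at h ⊢ <;> exact_mod_cast h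
  linarith

theorem sum_coef_dg (l : S.L) : ∑ χ : IrrCharacter G, S.coef l χ * dg χ = 0 := by
  have h := congrFun (S.T_eq l) 1
  simp only [S.T_zero, Finset.sum_apply, Pi.smul_apply, smul_eq_mul, dg_spec] at h
  exact_mod_cast h.symm

/-- A family of small square sum takes values in `0, ±1`. -/
theorem small {ι : Type*} (s : Finset ι) (c : ι → ℤ) {n : ℕ} (hn : n ≤ 3)
    (h : ∑ i ∈ s, c i * c i = n) [DecidablePred fun i => c i ≠ 0] :
    (∀ i ∈ s, c i ≠ 0 → c i = 1 ∨ c i = -1) ∧ (s.filter fun i => c i ≠ 0).card = n := by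
  have hb : ∀ i ∈ s, c i ≠ 0 → c i = 1 ∨ c i = -1 := by
    intro i hi hne
    have h2 := Finset.single_le_sum (fun j _ => mul_self_nonneg (c j)) hi
    rw [h] at h2
    have h3 : (n : ℤ) ≤ 3 := by exact_mod_cast hn
    have : -2 < c i ∧ c i < 2 := ⟨by nlinarith, by nlinarith⟩
    omega
  refine ⟨hb, ?_⟩
  have e : ∑ i ∈ s.filter (fun i => c i ≠ 0), c i * c i = ((s.filter fun i => c i ≠ 0).card : ℤ) := by
    rw [Finset.sum_congr rfl (g := fun _ => (1 : ℤ)) fun i hi => by
      obtain ⟨h1, h2⟩ := Finset.mem_filter.mp hi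
      rcases hb i h1 h2 with e | e <;> rw [e] <;> rfl]
    simp
  rw [Finset.sum_filter_of_ne (p := fun i => c i ≠ 0) (fun i _ hne h0 => hne (by rw [h0, mul_zero])), h] at e
  exact_mod_cast e.symm

/-- A character of `K` that is not real. -/
def NR (l : S.L) : Prop := S.bar l ≠ l

theorem NR_ne {l : S.L} (hl : S.NR l) : l ≠ S.one := fun e => hl (by rw [e, S.bar_one])

theorem NR_bar {l : S.L} (hl : S.NR l) : S.NR (S.bar l) := fun e => hl (by rw [S.bar_bar] at e; exact e.symm)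

theorem coef_bar {l : S.L} (hl : S.NR l) (χ : IrrCharacter G) : S.coef (S.bar l) χ = S.coef l χ := by
  classical
  have h1 := S.NR_ne hl
  have h2 := S.NR_ne (S.NR_bar hl)
  by_cases he : χ = oneG
  · rw [he, S.coef_oneG h1, S.coef_oneG h2]
  have hl' : l ≠ S.bar l := fun e => hl e.symm
  have e1 := S.sum_coef_mul h1 h1
  have e2 := S.sum_coef_mul h1 h2
  have e3 := S.sum_coef_mul h2 h2
  simp only [S.bar_bar, if_true, if_neg hl', if_neg hl] at e1 e2 e3
  have hs : ∑ x ∈ Finset.univ.erase oneG, (S.coef (S.bar l) x - S.coef l x) * (S.coef (S.bar l) x - S.coef l x) = 0 := by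
    simp only [sub_mul, mul_sub, Finset.sum_sub_distrib]
    rw [e1, e3, Finset.sum_congr rfl fun x _ => mul_comm (S.coef (S.bar l) x) (S.coef l x), e2]
    norm_num
  have := (Finset.sum_eq_zero_iff_of_nonneg fun x _ => mul_self_nonneg _).mp hs χ
    (Finset.mem_erase.mpr ⟨he, Finset.mem_univ _⟩)
  exact sub_eq_zero.mp (mul_self_eq_zero.mp this)

/-- A non-real character gives two further irreducible constituents. -/
theorem pair {l : S.L} (hl : S.NR l) :
    ∃ u v : IrrCharacter G, u ≠ v ∧ u ≠ oneG ∧ v ≠ oneG ∧ (S.coef l u = 1 ∨ S.coef l u = -1) ∧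
      (S.coef l v = 1 ∨ S.coef l v = -1) ∧ (∀ χ, χ ≠ oneG → χ ≠ u → χ ≠ v → S.coef l χ = 0) ∧
      S.coef l u * dg u + S.coef l v * dg v = -1 := by
  classical
  have h1 := S.NR_ne hl
  have h := S.sum_coef_mul h1 h1
  rw [if_pos rfl, if_neg (fun e => hl e.symm), add_zero] at h
  obtain ⟨hb, hc⟩ := small _ (S.coef l) (n := 2) (by norm_num) (by rw [h]; norm_num)
  obtain ⟨u, v, huv, hs⟩ := Finset.card_eq_two.mp hc
  have hu := Finset.mem_filter.mp (hs.ge (Finset.mem_insert_self u {v}))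
  have hv := Finset.mem_filter.mp (hs.ge (Finset.mem_insert_of_mem (Finset.mem_singleton_self v)))
  have hz : ∀ χ, χ ≠ oneG → χ ≠ u → χ ≠ v → S.coef l χ = 0 := by
    intro χ hχ hu' hv'
    by_contra hne
    have : χ ∈ ({u, v} : Finset _) := hs.le (Finset.mem_filter.mpr ⟨Finset.mem_erase.mpr ⟨hχ, Finset.mem_univ _⟩, hne⟩)
    simp [hu', hv'] at this
  refine ⟨u, v, huv, (Finset.mem_erase.mp hu.1).1, (Finset.mem_erase.mp hv.1).1, hb u hu.1 hu.2, hb v hv.1 hv.2, hz, ?_⟩
  have hd := S.sum_coef_dg l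
  rw [← Finset.add_sum_erase _ _ (Finset.mem_univ (oneG : IrrCharacter G)), S.coef_oneG h1, dg_oneG,
    Finset.sum_eq_add_of_mem u v hu.1 hv.1 huv (fun c hc hne => by
      rw [hz c (Finset.mem_erase.mp hc).1 hne.1 hne.2, zero_mul])] at hd
  omega

/-- Coefficients outside `0, ±1` do not occur. -/
theorem coef_small {m : S.L} (hm : m ≠ S.one) (χ : IrrCharacter G) :
    S.coef m χ = 0 ∨ S.coef m χ = 1 ∨ S.coef m χ = -1 := by
  classical
  by_cases he : χ = oneG
  · rw [he, S.coef_oneG hm]; exact Or.inr (Or.inl rfl)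
  have h := S.sum_coef_mul hm hm
  rw [if_pos rfl] at h
  by_contra hne
  push Not at hne
  obtain ⟨hb, -⟩ := small _ (S.coef m) (n := if m = S.bar m then 3 else 2) (by split <;> norm_num)
    (by rw [h]; split <;> norm_num)
  exact (hb χ (Finset.mem_erase.mpr ⟨he, Finset.mem_univ _⟩) hne.1).elim hne.2.1 hne.2.2

/-- Two different differences share exactly one constituent. -/
theorem meet {l m : S.L} (hl : S.NR l) (hm : m ≠ S.one) (h1 : m ≠ l) (h2 : m ≠ S.bar l)
    {u v : IrrCharacter G} (huv : u ≠ v) (hu : u ≠ oneG) (hv : v ≠ oneG)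
    (eu : S.coef l u = 1 ∨ S.coef l u = -1) (ev : S.coef l v = 1 ∨ S.coef l v = -1)
    (hz : ∀ χ, χ ≠ oneG → χ ≠ u → χ ≠ v → S.coef l χ = 0) :
    (S.coef m u = S.coef l u ∧ S.coef m v = 0) ∨ (S.coef m u = 0 ∧ S.coef m v = S.coef l v) := by
  classical
  have h := S.sum_coef_mul (S.NR_ne hl) hm
  rw [if_neg (Ne.symm h1), if_neg (fun e => h2 (by rw [e, S.bar_bar])), add_zero, add_zero,
    Finset.sum_eq_add_of_mem u v (Finset.mem_erase.mpr ⟨hu, Finset.mem_univ _⟩)
      (Finset.mem_erase.mpr ⟨hv, Finset.mem_univ _⟩) huv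
      (fun c hc hne => by rw [hz c (Finset.mem_erase.mp hc).1 hne.1 hne.2, zero_mul])] at h
  have a := S.coef_small hm u
  have b := S.coef_small hm v
  rcases eu with e1 | e1 <;> rcases ev with e2 | e2 <;> rw [e1, e2] at h <;> omega

/-- Equation from counting pairs of involutions. -/
theorem invol_eq {l : S.L} (hl : l ≠ S.one) :
    (2 : ℂ) * (S.k : ℂ) ^ 2 = (S.H.index : ℂ) *
      ∑ χ : IrrCharacter G, (S.coef l χ : ℂ) * ((χ : G → ℂ) S.t) ^ 2 / (χ : G → ℂ) 1 := by
  classical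
  set A := Finset.univ.filter (fun x : G => orderOf x = 2) with hAdef
  have hA : ∀ x ∈ A, ∀ h : G, h * x * h⁻¹ ∈ A := fun x hx h => by
    simp only [hAdef, Finset.mem_filter, Finset.mem_univ, true_and] at hx ⊢
    rw [Involutions.orderOf_conj, hx]
  have hcA : (A.card : ℂ) = (S.H.index : ℂ) := by
    rw [hAdef, ← Fintype.card_subtype, ← Nat.card_eq_fintype_card, S.card_involutions]
  have hsum : ∀ χ : IrrCharacter G, ∑ x ∈ A, (χ : G → ℂ) x = (S.H.index : ℂ) * (χ : G → ℂ) S.t := by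
    intro χ
    rw [Finset.sum_congr rfl fun x hx => ((isClassFunction_iff_isConj.mp (isClassFunction_irr χ.2)) S.t x
      (S.hconj _ _ S.ht (Finset.mem_filter.mp hx).2)).symm, Finset.sum_const, nsmul_eq_mul, hcA]
  set F : G → ℂ := fun g => ((A.filter fun x => x⁻¹ * g ∈ A).card : ℂ) with hF
  have hF1 : ∀ g, (Nat.card G : ℂ) * F g =
      ∑ χ : IrrCharacter G, ((S.H.index : ℂ) * (χ : G → ℂ) S.t) ^ 2 / (χ : G → ℂ) 1 * conj ((χ : G → ℂ) g) := by
    intro g
    rw [hF, card_pairs A hA g]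
    exact Finset.sum_congr rfl fun χ _ => by rw [hsum, div_mul_eq_mul_div]
  have hFc : IsClassFunction G fun g => conj ((Nat.card G : ℂ) * F g) := by
    intro g h
    simp only [hF1]
    congr 1
    exact Finset.sum_congr rfl fun χ _ => by rw [isClassFunction_irr χ.2 g h]
  have hFK : ∀ y : S.K, y ≠ 1 → F (y : G) = (S.k : ℂ) := by
    intro y hy
    rw [hF]
    dsimp only
    rw [← S.card_inverting y.2 (fun e => hy (Subtype.ext e)), Nat.card_eq_fintype_card, Fintype.card_subtype]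
    congr 2
    ext x
    simp only [hAdef, Finset.mem_filter, Finset.mem_univ, true_and]
    refine and_congr_right fun hx => ?_
    rw [Involutions.inv_eq_self_of_orderOf hx]
  have h := frobenius_reciprocity S.K (fun y => 1 - (l : S.K → ℂ) y) hFc
  rw [show indFun S.K (fun y => 1 - (l : S.K → ℂ) y) = S.T l from rfl] at h
  have e1 : ∑ y : S.K, (1 - (l : S.K → ℂ) y) * F (y : G) = (S.k : ℂ) * (S.k : ℂ) := by
    rw [Finset.sum_congr rfl (g := fun y => (S.k : ℂ) * (1 - (l : S.K → ℂ) y)) fun y _ => by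
      by_cases hy : y = 1
      · subst hy; simp [S.lam_deg]
      · rw [hFK y hy, mul_comm], ← Finset.mul_sum]
    congr 1
    rw [Finset.sum_sub_distrib, Finset.sum_const, Finset.card_univ, nsmul_eq_mul, mul_one, ← Nat.card_eq_fintype_card]
    have := S.inner_L l S.one
    rw [if_neg hl, classInner] at this
    rcases mul_eq_zero.mp this with e | e
    · exact absurd e (inv_ne_zero (Nat.cast_ne_zero.mpr Nat.card_pos.ne'))
    · simp [one] at e
      rw [e, sub_zero]
  have e2 : ∑ g : G, S.T l g * ((Nat.card G : ℂ) * F g) =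
      (Nat.card G : ℂ) * ∑ χ : IrrCharacter G, (S.coef l χ : ℂ) *
        (((S.H.index : ℂ) * (χ : G → ℂ) S.t) ^ 2 / (χ : G → ℂ) 1) := by
    simp only [hF1, Finset.mul_sum]
    rw [Finset.sum_comm]
    refine Finset.sum_congr rfl fun χ _ => ?_
    rw [← S.coef_spec l χ, classInner, ← mul_assoc, ← mul_assoc,
      mul_inv_cancel₀ (Nat.cast_ne_zero.mpr Nat.card_pos.ne'), one_mul, Finset.sum_mul]
    exact Finset.sum_congr rfl fun g _ => by ring
  have hG : (Nat.card G : ℂ) = 2 * (S.k : ℂ) * (S.H.index : ℂ) := by exact_mod_cast S.card_G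
  have hG0 : (Nat.card G : ℂ) ≠ 0 := Nat.cast_ne_zero.mpr Nat.card_pos.ne'
  have hk : (S.k : ℂ) ≠ 0 := Nat.cast_ne_zero.mpr Nat.card_pos.ne'
  have hi : (S.H.index : ℂ) ≠ 0 := Nat.cast_ne_zero.mpr Subgroup.index_ne_zero_of_finite
  simp only [classInner, Complex.conj_conj] at h
  rw [e2, ← mul_assoc, inv_mul_cancel₀ hG0, one_mul] at h
  have e3 : ∑ y : S.K, (1 - (l : S.K → ℂ) y) * ((Nat.card G : ℂ) * F (y : G)) =
      (Nat.card G : ℂ) * ((S.k : ℂ) * (S.k : ℂ)) := by
    rw [← e1, Finset.mul_sum]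
    exact Finset.sum_congr rfl fun y _ => by ring
  rw [e3] at h
  have e4 : ∑ χ : IrrCharacter G, (S.coef l χ : ℂ) * (((S.H.index : ℂ) * (χ : G → ℂ) S.t) ^ 2 / (χ : G → ℂ) 1) =
      (S.H.index : ℂ) * ((S.H.index : ℂ) *
        ∑ χ : IrrCharacter G, (S.coef l χ : ℂ) * ((χ : G → ℂ) S.t) ^ 2 / (χ : G → ℂ) 1) := by
    simp only [Finset.mul_sum]
    exact Finset.sum_congr rfl fun χ _ => by ring
  rw [e4, hG] at h
  change _ = (S.k : ℂ)⁻¹ * _ at h
  field_simp at h
  linear_combination -h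

/-- Values on `K` from the coefficients. -/
theorem apply_K (χ : IrrCharacter G) {y : S.K} (hy : y ≠ 1) :
    (χ : G → ℂ) (y : G) = -∑ l : S.L, (S.coef l χ : ℂ) * (l : S.K → ℂ) y := by
  rw [S.apply_eq (isClassFunction_irr χ.2) hy]
  simp [S.coef_spec]

/-- The involution as an element of `K`. -/
def tK : S.K := ⟨S.t, S.htK⟩

theorem tK_ne : S.tK ≠ 1 := fun e => S.t_ne (congrArg Subtype.val e)

theorem lam_tK (l : S.L) : (l : S.K → ℂ) S.tK = 1 ∨ (l : S.K → ℂ) S.tK = -1 := by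
  have h : (l : S.K → ℂ) S.tK * (l : S.K → ℂ) S.tK = 1 := by
    rw [← S.lam_mul, show S.tK * S.tK = 1 from Subtype.ext (Involutions.mul_self_eq_one_of_orderOf S.ht), S.lam_deg]
  exact mul_self_eq_one_iff.mp h

theorem bar_tK (l : S.L) : (S.bar l : S.K → ℂ) S.tK = (l : S.K → ℂ) S.tK := by
  rw [bar_apply, show S.tK⁻¹ = S.tK from Subtype.ext (Involutions.inv_eq_self_of_orderOf S.ht)]

theorem exists_NR (h4 : 4 ≤ S.k) : ∃ l, S.NR l := by
  classical
  obtain ⟨σ, -, -, hσ⟩ := S.exists_sigma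
  by_contra h
  simp only [NR, not_exists, not_not] at h
  have : Fintype.card S.L ≤ ({S.one, σ} : Finset S.L).card := by
    rw [← Finset.card_univ]
    exact Finset.card_le_card fun l _ => by
      rcases hσ l (h l) with e | e <;> simp [e]
  rw [S.card_L] at this
  have := Finset.card_le_two (a := S.one) (b := σ)
  omega

/-- A constituent common to all non-real differences. -/
theorem common (h4 : 4 ≤ S.k) : ∃ (l : S.L) (u v : IrrCharacter G), S.NR l ∧ u ≠ v ∧ u ≠ oneG ∧ v ≠ oneG ∧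
    (S.coef l u = 1 ∨ S.coef l u = -1) ∧ (S.coef l v = 1 ∨ S.coef l v = -1) ∧
    (∀ χ, χ ≠ oneG → χ ≠ u → χ ≠ v → S.coef l χ = 0) ∧ S.coef l u * dg u + S.coef l v * dg v = -1 ∧
    ∀ m, S.NR m → S.coef m u = S.coef l u := by
  obtain ⟨l, hl⟩ := S.exists_NR h4
  obtain ⟨u, v, huv, hu, hv, eu, ev, hz, hd⟩ := S.pair hl
  by_cases hPu : ∀ m, S.NR m → S.coef m u = S.coef l u
  · exact ⟨l, u, v, hl, huv, hu, hv, eu, ev, hz, hd, hPu⟩
  by_cases hPv : ∀ m, S.NR m → S.coef m v = S.coef l v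
  · exact ⟨l, v, u, hl, huv.symm, hv, hu, ev, eu, fun χ a b c => hz χ a c b, by omega, hPv⟩
  exfalso
  push Not at hPu hPv
  obtain ⟨m, hm, hmu⟩ := hPu
  obtain ⟨n, hn, hnv⟩ := hPv
  have hm1 : m ≠ l := fun e => hmu (by rw [e])
  have hm2 : m ≠ S.bar l := fun e => hmu (by rw [e, S.coef_bar hl])
  have hn1 : n ≠ l := fun e => hnv (by rw [e])
  have hn2 : n ≠ S.bar l := fun e => hnv (by rw [e, S.coef_bar hl])
  obtain ⟨mu0, mv⟩ := (S.meet hl (S.NR_ne hm) hm1 hm2 huv hu hv eu ev hz).resolve_left fun h => hmu h.1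
  obtain ⟨nu, nv0⟩ := (S.meet hl (S.NR_ne hn) hn1 hn2 huv hu hv eu ev hz).resolve_right fun h => hnv h.2
  obtain ⟨p, q, hpq, hp, hq, ep, eq, hzm, hdm⟩ := S.pair hm
  have hvm : v = p ∨ v = q := by
    by_contra h
    push Not at h
    have := hzm v hv h.1 h.2
    rw [mv] at this
    omega
  obtain ⟨w, hwv, hw, ew, hdw, hzw⟩ : ∃ w, w ≠ v ∧ w ≠ oneG ∧ (S.coef m w = 1 ∨ S.coef m w = -1) ∧
      S.coef m v * dg v + S.coef m w * dg w = -1 ∧ ∀ χ, χ ≠ oneG → χ ≠ v → χ ≠ w → S.coef m χ = 0 := by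
    rcases hvm with rfl | rfl
    · exact ⟨q, hpq.symm, hq, eq, hdm, hzm⟩
    · exact ⟨p, hpq, hp, ep, by omega, fun χ a b c => hzm χ a c b⟩
  have hnm1 : n ≠ m := fun e => by rw [e, mu0] at nu; omega
  have hnm2 : n ≠ S.bar m := fun e => by rw [e, S.coef_bar hm, mu0] at nu; omega
  have ev' : S.coef m v = 1 ∨ S.coef m v = -1 := by rw [mv]; exact ev
  obtain ⟨-, nw⟩ := (S.meet hm (S.NR_ne hn) hnm1 hnm2 hwv.symm hv hw ev' ew hzw).resolve_left fun h => by
    rw [h.1] at nv0; omega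
  have hwu : w ≠ u := fun e => by rw [e, mu0] at ew; omega
  obtain ⟨p', q', hpq', hp', hq', ep', eq', hzn, hdn⟩ := S.pair hn
  have h1 : u = p' ∨ u = q' := by
    by_contra h
    push Not at h
    have := hzn u hu h.1 h.2
    rw [nu] at this
    omega
  have h2 : w = p' ∨ w = q' := by
    by_contra h
    push Not at h
    have := hzn w hw h.1 h.2
    rw [nw] at this
    omega
  rw [mv] at hdw
  rcases h1 with rfl | rfl <;> rcases h2 with rfl | rfl
  · exact hwu rfl
  · rw [nu, nw] at hdn; omega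
  · rw [nu, nw] at hdn; omega
  · exact hwu rfl

theorem Y_tK {l σ : S.L} (hl : S.NR l) (hσ1 : S.bar σ = σ) {v : IrrCharacter G} {b : ℤ}
    (hv : S.coef l v = b) (hvσ : S.coef σ v = b)
    (hrest : ∀ m, m ≠ l → m ≠ S.bar l → m ≠ σ → S.coef m v = 0) :
    (v : G → ℂ) S.t = -((b : ℂ) * (2 * (l : S.K → ℂ) S.tK + (σ : S.K → ℂ) S.tK)) := by
  classical
  rw [show S.t = ((S.tK : S.K) : G) from rfl, S.apply_K v S.tK_ne]
  congr 1
  have hne1 : l ≠ S.bar l := fun e => hl e.symm
  have hne2 : σ ≠ l := fun e => hl (by rw [← e, hσ1])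
  have hne3 : σ ≠ S.bar l := fun e => hl (by
    have := congrArg S.bar e
    rw [hσ1, S.bar_bar] at this
    rw [← this, hσ1])
  rw [← Finset.sum_subset (Finset.subset_univ ({l, S.bar l, σ} : Finset S.L)) fun m _ hm => by
    simp only [Finset.mem_insert, Finset.mem_singleton, not_or] at hm
    rw [hrest m hm.1 hm.2.1 hm.2.2, Int.cast_zero, zero_mul]]
  rw [Finset.sum_insert (by simp [hne1, hne2.symm]), Finset.sum_pair hne3.symm, hv, hvσ, S.coef_bar hl, hv, S.bar_tK]
  ring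

/-- The common constituent also lies in the quadratic difference. -/
theorem exists_X (h4 : 4 ≤ S.k) : ∃ (X : IrrCharacter G) (a : ℤ), X ≠ oneG ∧ (a = 1 ∨ a = -1) ∧
    ∀ m, m ≠ S.one → S.coef m X = a := by
  classical
  obtain ⟨l, u, v, hl, huv, hu, hv, eu, ev, hz, hd, hP⟩ := S.common h4
  obtain ⟨σ, hσ0, hσ1, hσ2⟩ := S.exists_sigma
  have hσl : σ ≠ l := fun e => hl (by rw [← e, hσ1])
  have hσbl : σ ≠ S.bar l := fun e => hl (by
    have := congrArg S.bar e
    rw [hσ1, S.bar_bar] at this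
    rw [← this, hσ1])
  have hNR : ∀ m, m ≠ S.one → m ≠ σ → S.NR m := fun m h1 h2 e => (hσ2 m e).elim h1 h2
  rcases S.meet hl hσ0 hσl hσbl huv hu hv eu ev hz with ⟨su, -⟩ | ⟨su, sv⟩
  · refine ⟨u, S.coef l u, hu, eu, fun m hm => ?_⟩
    by_cases hms : m = σ
    · rw [hms, su]
    · exact hP m (hNR m hm hms)
  by_cases hall : ∀ m, S.NR m → m = l ∨ m = S.bar l
  · refine ⟨v, S.coef l v, hv, ev, fun m hm => ?_⟩
    by_cases hms : m = σ
    · rw [hms, sv]
    · rcases hall m (hNR m hm hms) with rfl | rfl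
      · rfl
      · rw [S.coef_bar hl]
  exfalso
  push Not at hall
  obtain ⟨m₀, hm₀, hm₀l, hm₀b⟩ := hall
  -- every non-real character has the same value at `t`
  have hsame : ∀ m, S.NR m → (m : S.K → ℂ) S.tK = (l : S.K → ℂ) S.tK := by
    intro m hm
    by_cases e1 : m = l
    · rw [e1]
    by_cases e2 : m = S.bar l
    · rw [e2, S.bar_tK]
    obtain ⟨mu, mv0⟩ := (S.meet hl (S.NR_ne hm) e1 e2 huv hu hv eu ev hz).resolve_right fun h => by
      rw [hP m hm] at h; omega
    obtain ⟨p, q, hpq, hp, hq, ep, eq, hzm, hdm⟩ := S.pair hm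
    have hum : u = p ∨ u = q := by
      by_contra h
      push Not at h
      have := hzm u hu h.1 h.2
      rw [hP m hm] at this
      omega
    obtain ⟨w, hwu, hw, ew, hdw, hzw⟩ : ∃ w, w ≠ u ∧ w ≠ oneG ∧ (S.coef m w = 1 ∨ S.coef m w = -1) ∧
        S.coef m u * dg u + S.coef m w * dg w = -1 ∧ ∀ χ, χ ≠ oneG → χ ≠ u → χ ≠ w → S.coef m χ = 0 := by
      rcases hum with rfl | rfl
      · exact ⟨q, hpq.symm, hq, eq, hdm, hzm⟩
      · exact ⟨p, hpq, hp, ep, by omega, fun χ a b c => hzm χ a c b⟩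
    have eu' : S.coef m u = 1 ∨ S.coef m u = -1 := by rw [mu]; exact eu
    have hσm : σ ≠ m := fun e => hm (by rw [← e, hσ1])
    have hσbm : σ ≠ S.bar m := fun e => hm (by
      have := congrArg S.bar e
      rw [hσ1, S.bar_bar] at this
      rw [← this, hσ1])
    obtain ⟨-, sw⟩ := (S.meet hm hσ0 hσm hσbm hwu.symm hu hw eu' ew hzw).resolve_left fun h => by
      rw [su, mu] at h; omega
    -- equal coefficient and degree
    rw [mu] at hdw
    have hwd : S.coef m w = S.coef l v ∧ dg w = dg v := by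
      have := dg_pos w
      have := dg_pos v
      rcases ew with e | e <;> rcases ev with e' | e' <;> rw [e] at hdw <;> rw [e'] at hd <;> omega
    have hlv : ∀ n, n ≠ l → n ≠ S.bar l → n ≠ σ → S.coef n v = 0 := by
      intro n a b c
      by_cases hn : n = S.one
      · rw [hn, S.coef_one]
      · exact ((S.meet hl hn a b huv hu hv eu ev hz).resolve_right fun h => by
          rw [hP n (hNR n hn c)] at h; omega).2
    have hmw : ∀ n, n ≠ m → n ≠ S.bar m → n ≠ σ → S.coef n w = 0 := by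
      intro n a b c
      by_cases hn : n = S.one
      · rw [hn, S.coef_one]
      · exact ((S.meet hm hn a b hwu.symm hu hw eu' ew hzw).resolve_right fun h => by
          rw [hP n (hNR n hn c)] at h; omega).2
    have hvt := S.Y_tK hl hσ1 rfl sv hlv
    have hwt := S.Y_tK hm hσ1 (hwd.1) (by rw [sw, hwd.1]) hmw
    have key : ∀ (n : S.L), n ≠ S.one → ∀ (z : IrrCharacter G), z ≠ u → z ≠ oneG → S.coef n u = S.coef l u →
        (∀ χ, χ ≠ oneG → χ ≠ u → χ ≠ z → S.coef n χ = 0) →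
        (2 : ℂ) * (S.k : ℂ) ^ 2 = (S.H.index : ℂ) *
          (1 + ((S.coef l u : ℂ) * ((u : G → ℂ) S.t) ^ 2 / (u : G → ℂ) 1 +
            (S.coef n z : ℂ) * ((z : G → ℂ) S.t) ^ 2 / (z : G → ℂ) 1)) := by
      intro n hn z hzu hz1 hnu hzero
      rw [S.invol_eq hn]
      congr 1
      rw [← Finset.sum_subset (Finset.subset_univ ({oneG, u, z} : Finset (IrrCharacter G))) fun χ _ hχ => by
        simp only [Finset.mem_insert, Finset.mem_singleton, not_or] at hχ
        rw [hzero χ hχ.1 hχ.2.1 hχ.2.2, Int.cast_zero, zero_mul, zero_div],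
        Finset.sum_insert (by simp [hu.symm, hz1.symm]), Finset.sum_pair hzu.symm, S.coef_oneG hn, hnu]
      simp [oneG]
    have k1 := key l (S.NR_ne hl) v huv.symm hv rfl hz
    have k2 := key m (S.NR_ne hm) w hwu hw mu hzw
    have hi : (S.H.index : ℂ) ≠ 0 := Nat.cast_ne_zero.mpr Subgroup.index_ne_zero_of_finite
    have heq := mul_left_cancel₀ hi (k1.symm.trans k2)
    rw [hwd.1, hvt, hwt, dg_spec w, hwd.2, ← dg_spec v] at heq
    have hv1 : (v : G → ℂ) 1 ≠ 0 := irr_ne_zero v.2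
    have hb : (S.coef l v : ℂ) * (S.coef l v : ℂ) = 1 := by rcases ev with e | e <;> simp [e]
    have heq' : (2 * (l : S.K → ℂ) S.tK + (σ : S.K → ℂ) S.tK) ^ 2 = (2 * (m : S.K → ℂ) S.tK + (σ : S.K → ℂ) S.tK) ^ 2 := by
      field_simp at heq
      have hb3 : (S.coef l v : ℂ) ≠ 0 := fun e => by simp [e] at hb
      apply mul_left_cancel₀ hb3
      linear_combination heq + ((S.coef l v : ℂ) * ((2 * (m : S.K → ℂ) S.tK + (σ : S.K → ℂ) S.tK) ^ 2 - (2 * (l : S.K → ℂ) S.tK + (σ : S.K → ℂ) S.tK) ^ 2)) * hb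
    rcases S.lam_tK l with x | x <;> rcases S.lam_tK m with y | y <;> rcases S.lam_tK σ with z | z <;>
      rw [x, y, z] at heq' <;> rw [x, y] <;> norm_num at heq' <;> try norm_num
  -- so the values at `t` do not sum to zero
  have hsum : (1 : ℂ) + (σ : S.K → ℂ) S.tK + ((S.k - 2 : ℕ) : ℂ) * (l : S.K → ℂ) S.tK = 0 := by
    have h0 := S.sum_lam S.tK_ne
    rw [← Finset.sum_add_sum_compl ({S.one, σ} : Finset S.L), Finset.sum_pair hσ0.symm] at h0
    rw [Finset.sum_congr rfl (g := fun _ => (l : S.K → ℂ) S.tK) fun m hm => by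
      simp only [Finset.mem_compl, Finset.mem_insert, Finset.mem_singleton, not_or] at hm
      exact hsame m (hNR m hm.1 hm.2), Finset.sum_const, nsmul_eq_mul, Finset.card_compl, S.card_L,
      Finset.card_pair hσ0.symm] at h0
    exact h0
  have h6 : 5 ≤ S.k := by
    rw [← S.card_L]
    have hc : ({S.one, σ, l, S.bar l, m₀} : Finset S.L).card = 5 := by
      have a1 := S.NR_ne hl
      have a2 := S.NR_ne (S.NR_bar hl)
      have a3 := S.NR_ne hm₀
      have a4 : m₀ ≠ σ := fun e => hm₀ (by rw [e, hσ1])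
      have a5 : l ≠ S.bar l := fun e => hl e.symm
      simp [hσ0.symm, a1.symm, a2.symm, a3.symm, hσl, hσbl, a4.symm, a5, hm₀l.symm, hm₀b.symm]
    rw [← hc]
    exact Finset.card_le_univ _
  have h3 : (3 : ℝ) ≤ ((S.k - 2 : ℕ) : ℝ) := by exact_mod_cast (show 3 ≤ S.k - 2 by omega)
  generalize hN : S.k - 2 = N at hsum h3
  have hre := congrArg Complex.re hsum
  rcases S.lam_tK l with x | x <;> rcases S.lam_tK σ with z | z <;> rw [x, z] at hre <;> simp at hre <;> first | linarith | (subst hre; norm_num at h3)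

end Setup

end CfsgLib.BSW
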