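import Cfsg.Agent.Lib.BSW.Decomp

/-!
The Brauer–Suzuki–Wall configuration: the order of the group and the degrees.
-/

set_option autoImplicit false
set_option linter.unusedSectionVars false

namespace CfsgLib.BSW

open Cfsg CfsgLib.CharTheory
open scoped ComplexConjugate

universe u

variable {G : Type u} [Group G] [Fintype G]

/-- The configuration with its common exceptional constituent. -/
structure Core (S : Setup G) where
  h4 : 4 ≤ S.k
  X : IrrCharacter G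
  a : ℤ
  hX : X ≠ oneG
  ha : a = 1 ∨ a = -1
  hcoef : ∀ m : S.L, m ≠ S.one → S.coef m X = a

theorem exists_core (S : Setup G) (h4 : 4 ≤ S.k) : Nonempty (Core S) := by
  obtain ⟨X, a, h1, h2, h3⟩ := S.exists_X h4
  exact ⟨⟨h4, X, a, h1, h2, h3⟩⟩

namespace Core

variable {S : Setup G} (C : Core S)

noncomputable local instance : Fintype S.K := Fintype.ofFinite _

theorem a_sq : C.a * C.a = 1 := by rcases C.ha with e | e <;> rw [e] <;> rfl

theorem X_apply {y : S.K} (hy : y ≠ 1) : (C.X : G → ℂ) (y : G) = (C.a : ℂ) := by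
  classical
  rw [S.apply_K C.X hy, ← Finset.add_sum_erase _ _ (Finset.mem_univ S.one), S.coef_one, Int.cast_zero, zero_mul, zero_add,
    Finset.sum_congr rfl fun l hl => by rw [C.hcoef l (Finset.mem_erase.mp hl).1], ← Finset.mul_sum,
    Finset.sum_erase_eq_sub (Finset.mem_univ _), S.sum_lam hy]
  simp [Setup.one]

theorem exists_sigma : ∃ σ : S.L, σ ≠ S.one ∧ S.bar σ = σ ∧ ∀ l, S.bar l = l → l = S.one ∨ l = σ :=
  S.exists_sigma

/-- The other constituent of a non-real difference. -/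
theorem other {l : S.L} (hl : S.NR l) : ∃ (Y : IrrCharacter G) (b : ℤ), Y ≠ C.X ∧ Y ≠ oneG ∧ (b = 1 ∨ b = -1) ∧
    S.coef l Y = b ∧ (∀ χ, χ ≠ oneG → χ ≠ C.X → χ ≠ Y → S.coef l χ = 0) ∧
    C.a * dg C.X + b * dg Y = -1 ∧ ∀ m, m ≠ l → m ≠ S.bar l → S.coef m Y = 0 := by
  obtain ⟨p, q, hpq, hp, hq, ep, eq, hz, hd⟩ := S.pair hl
  have hla := C.hcoef l (S.NR_ne hl)
  have hX : C.X = p ∨ C.X = q := by
    by_contra h
    push Not at h
    have := hz C.X C.hX h.1 h.2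
    rcases C.ha with e | e <;> omega
  obtain ⟨Y, hYX, hY1, eY, hdY, hzY⟩ : ∃ Y, Y ≠ C.X ∧ Y ≠ oneG ∧ (S.coef l Y = 1 ∨ S.coef l Y = -1) ∧
      S.coef l C.X * dg C.X + S.coef l Y * dg Y = -1 ∧ ∀ χ, χ ≠ oneG → χ ≠ C.X → χ ≠ Y → S.coef l χ = 0 := by
    rcases hX with e | e <;> rw [e]
    · exact ⟨q, hpq.symm, hq, eq, hd, hz⟩
    · exact ⟨p, hpq, hp, ep, by omega, fun χ a b c => hz χ a c b⟩
  rw [hla] at hdY
  refine ⟨Y, S.coef l Y, hYX, hY1, eY, rfl, hzY, hdY, fun m h1 h2 => ?_⟩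
  by_cases hm : m = S.one
  · rw [hm, S.coef_one]
  · exact ((S.meet hl hm h1 h2 hYX.symm C.hX hY1 (by rw [hla]; exact C.ha) eY hzY).resolve_right fun h => by
      have := C.hcoef m hm
      rcases C.ha with e | e <;> omega).2

theorem Y_apply {l : S.L} (hl : S.NR l) {Y : IrrCharacter G} {b : ℤ} (hY : S.coef l Y = b)
    (hm : ∀ m, m ≠ l → m ≠ S.bar l → S.coef m Y = 0) {y : S.K} (hy : y ≠ 1) :
    (Y : G → ℂ) (y : G) = -((b : ℂ) * ((l : S.K → ℂ) y + (l : S.K → ℂ) y⁻¹)) := by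
  classical
  rw [S.apply_K Y hy]
  congr 1
  have hne : l ≠ S.bar l := fun e => hl e.symm
  rw [← Finset.sum_subset (Finset.subset_univ ({l, S.bar l} : Finset S.L)) fun m _ h => by
    simp only [Finset.mem_insert, Finset.mem_singleton, not_or] at h
    rw [hm m h.1 h.2, Int.cast_zero, zero_mul], Finset.sum_pair hne, hY, S.coef_bar hl, hY, Setup.bar_apply]
  ring

theorem congr_X : ∃ r : ℤ, dg C.X = C.a + r * S.k := by
  classical
  obtain ⟨n, hn⟩ := classInner_char_nat (isCharacter_restrict (isCharacter_of_irr C.X.2) S.K)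
    (isCharacter_one (G := S.K))
  rw [classInner, inv_mul_eq_iff_eq_mul₀ (Nat.cast_ne_zero.mpr Nat.card_pos.ne'),
    ← Finset.add_sum_erase _ _ (Finset.mem_univ (1 : S.K))] at hn
  simp only [map_one, mul_one] at hn
  rw [show ((1 : S.K) : G) = 1 from rfl, dg_spec] at hn
  rw [Finset.sum_congr rfl fun y hy => C.X_apply (Finset.mem_erase.mp hy).1, Finset.sum_const,
    Finset.card_erase_of_mem (Finset.mem_univ _), Finset.card_univ, ← Nat.card_eq_fintype_card, nsmul_eq_mul] at hn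
  have hk : 1 ≤ S.k := Nat.card_pos
  have e : dg C.X + ((S.k - 1 : ℕ) : ℤ) * C.a = (S.k : ℤ) * n := by exact_mod_cast hn
  refine ⟨(n : ℤ) - C.a, ?_⟩
  rw [Nat.cast_sub hk, Nat.cast_one] at e
  linear_combination e

theorem order_eq : (S.H.index : ℤ) * (dg C.X - C.a) ^ 2 = 2 * (S.k : ℤ) ^ 2 * dg C.X * (dg C.X + C.a) := by
  classical
  obtain ⟨l, hl⟩ := S.exists_NR C.h4
  obtain ⟨Y, b, hYX, hY1, hb, hY, hz, hd, hm⟩ := C.other hl
  have h := S.invol_eq (S.NR_ne hl)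
  rw [← Finset.sum_subset (Finset.subset_univ ({oneG, C.X, Y} : Finset (IrrCharacter G))) fun χ _ hχ => by
    simp only [Finset.mem_insert, Finset.mem_singleton, not_or] at hχ
    rw [hz χ hχ.1 hχ.2.1 hχ.2.2, Int.cast_zero, zero_mul, zero_div],
    Finset.sum_insert (by simp [C.hX.symm, hY1.symm]), Finset.sum_pair hYX.symm, S.coef_oneG (S.NR_ne hl),
    C.hcoef l (S.NR_ne hl), hY, show S.t = ((S.tK : S.K) : G) from rfl, C.X_apply S.tK_ne,
    Core.Y_apply hl hY hm S.tK_ne, ← Setup.bar_apply S l S.tK, S.bar_tK, dg_spec C.X, dg_spec Y] at h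
  have hc : (l : S.K → ℂ) S.tK * (l : S.K → ℂ) S.tK = 1 := by rcases S.lam_tK l with e | e <;> simp [e]
  have hb2 : (b : ℂ) * b = 1 := by rcases hb with e | e <;> simp [e]
  have ha2 : (C.a : ℂ) * C.a = 1 := by exact_mod_cast C.a_sq
  have hx : ((dg C.X : ℤ) : ℂ) ≠ 0 := by exact_mod_cast (dg_pos C.X).ne'
  have hy : ((dg Y : ℤ) : ℂ) ≠ 0 := by exact_mod_cast (dg_pos Y).ne'
  have hd' : (C.a : ℂ) * ((dg C.X : ℤ) : ℂ) + (b : ℂ) * ((dg Y : ℤ) : ℂ) = -1 := by exact_mod_cast hd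
  set x : ℂ := ((dg C.X : ℤ) : ℂ) with hxdef
  set y : ℂ := ((dg Y : ℤ) : ℂ) with hydef
  set c : ℂ := (l : S.K → ℂ) S.tK with hcdef
  simp only [oneG, one_pow, Int.cast_one, mul_one, div_one] at h
  have h' : (2 : ℂ) * (S.k : ℂ) ^ 2 * x * y = (S.H.index : ℂ) * (x * y + (C.a : ℂ) * y + 4 * (b : ℂ) * x) := by
    field_simp at h
    linear_combination h + (S.H.index : ℂ) * (C.a : ℂ) * y * ha2 + 4 * (S.H.index : ℂ) * x * (b : ℂ) * hb2 +
      4 * (S.H.index : ℂ) * x * (b : ℂ) * (b : ℂ) * (b : ℂ) * hc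
  have hy' : y = -((b : ℂ) * (1 + (C.a : ℂ) * x)) := by linear_combination (b : ℂ) * hd' - y * hb2
  rw [hy'] at h'
  have e : (S.H.index : ℂ) * (x - (C.a : ℂ)) ^ 2 = 2 * (S.k : ℂ) ^ 2 * x * (x + (C.a : ℂ)) := by
    linear_combination ((C.a : ℂ) * (b : ℂ)) * h' +
      (2 * (S.k : ℂ) ^ 2 * x ^ 2 - (S.H.index : ℂ) * (x ^ 2 + (C.a : ℂ) * x)) * ha2 +
      (-((C.a : ℂ) * (-(2 * (S.k : ℂ) ^ 2 * x * (1 + (C.a : ℂ) * x)) +
        (S.H.index : ℂ) * ((1 + (C.a : ℂ) * x) * (x + (C.a : ℂ)) - 4 * x)))) * hb2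
  rw [hxdef] at e
  exact_mod_cast e

/-- The parameter `q`. -/
noncomputable def q : ℕ := charDegree (C.X : G → ℂ)

theorem dg_X : dg C.X = (C.q : ℤ) := rfl

theorem q_eq : (C.q : ℤ) = 2 * S.k + C.a ∧ (S.H.index : ℤ) = (2 * S.k + C.a) * (S.k + C.a) := by
  obtain ⟨r, hr⟩ := C.congr_X
  have h := C.order_eq
  rw [hr] at h
  have hk : (4 : ℤ) ≤ S.k := by exact_mod_cast C.h4
  have hk0 : (S.k : ℤ) ^ 2 ≠ 0 := by positivity
  have h1 : (S.H.index : ℤ) * r ^ 2 = 2 * (C.a + r * S.k) * (2 * C.a + r * S.k) := by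
    apply mul_left_cancel₀ hk0
    linear_combination h
  have hcop : IsCoprime r (C.a + r * S.k) := ⟨-(S.k : ℤ) * C.a, C.a, by linear_combination C.a_sq⟩
  have hdiv : r ^ 2 ∣ 2 * (2 * C.a + r * S.k) := by
    refine (IsCoprime.pow_left (m := 2) hcop).dvd_of_dvd_mul_left ⟨(S.H.index : ℤ), ?_⟩
    linear_combination -h1
  have h4 : r ∣ 4 := by
    have h2 : r ∣ 2 * (2 * C.a + r * S.k) := dvd_trans (dvd_pow_self r two_ne_zero) hdiv
    have h3 : r ∣ 4 * C.a := by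
      have := dvd_sub h2 (Dvd.intro (2 * (S.k : ℤ)) rfl)
      rwa [show 2 * (2 * C.a + r * S.k) - r * (2 * S.k) = 4 * C.a by ring] at this
    rcases C.ha with e | e <;> rw [e] at h3 <;> simpa using h3
  have hub : r ≤ 4 := Int.le_of_dvd (by norm_num) h4
  have hpos : 0 < C.a + r * S.k := hr ▸ dg_pos C.X
  have hr0 : 0 ≤ r := by
    by_contra hneg
    push Not at hneg
    have : r * S.k ≤ -1 * S.k := Int.mul_le_mul_of_nonneg_right (by omega) (by omega)
    rcases C.ha with e | e <;> omega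
  have hiodd : Odd (S.H.index : ℤ) := by exact_mod_cast S.index_odd
  obtain ⟨j, hj⟩ := hiodd
  have hkeven : (2 : ℤ) ∣ S.k := by exact_mod_cast S.k_even
  obtain ⟨k', hk'⟩ := hkeven
  interval_cases r
  · rcases C.ha with e | e <;> rw [e] at h1 <;> norm_num at h1
  · exfalso
    rw [hj] at h1
    have : (2 : ℤ) ∣ 1 := ⟨(C.a + S.k) * (2 * C.a + S.k) - j, by linear_combination h1⟩
    norm_num at this
  · refine ⟨?_, ?_⟩
    · rw [← C.dg_X, hr]; ring
    · apply mul_left_cancel₀ (show (4 : ℤ) ≠ 0 by norm_num)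
      linear_combination h1
  · norm_num at h4
  · exfalso
    rw [hj, hk'] at h1
    have h5 : (C.a + 8 * k') * (C.a + 4 * k') = 8 * j + 4 := by
      apply mul_left_cancel₀ (show (4 : ℤ) ≠ 0 by norm_num)
      linear_combination -h1
    have : (2 : ℤ) ∣ 1 := ⟨4 * j + 2 - 6 * C.a * k' - 16 * k' ^ 2, by linear_combination h5 - C.a_sq⟩
    norm_num at this

end Core

end CfsgLib.BSW
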