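import Cfsg.Agent.Lib.BSW.Degrees
import Cfsg.Agent.S0165

/-!
The Brauer–Suzuki–Wall configuration: the remaining exceptional constituents.
-/

set_option autoImplicit false
set_option linter.unusedSectionVars false

namespace CfsgLib.BSW

open Cfsg CfsgLib.CharTheory
open scoped ComplexConjugate

universe u

variable {G : Type u} [Group G] [Fintype G]

/-- The degree divides the order of the group. -/
theorem dg_dvd (χ : IrrCharacter G) : dg χ ∣ (Nat.card G : ℤ) := by
  obtain ⟨χ, n, ρ, hρ, rfl⟩ := χ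
  haveI := hρ
  have h1 : (ρ.character 1 : ℂ) = (charDegree ρ.character : ℂ) := (charDegree_spec' ⟨n, ρ, hρ, rfl⟩).1
  rw [ρ.char_one] at h1
  have e : Module.finrank ℂ (Fin n → ℂ) = charDegree ρ.character := by exact_mod_cast h1
  show ((charDegree ρ.character : ℕ) : ℤ) ∣ _
  rw [← e]
  exact Int.natCast_dvd_natCast.mpr (finrank_dvd_card ρ)

/-- A degree is at most the square root of the order. -/
theorem dg_sq_le (χ : IrrCharacter G) : dg χ * dg χ ≤ (Nat.card G : ℤ) := by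
  classical
  have h := sum_irr_degree_sq (G := G)
  simp only [dg_spec, ← Int.cast_pow, ← Int.cast_sum, ← Int.cast_natCast (R := ℂ)] at h
  have h' : ∑ ξ : IrrCharacter G, dg ξ ^ 2 = (Nat.card G : ℤ) := by exact_mod_cast h
  rw [← h', ← sq]
  exact Finset.single_le_sum (f := fun ξ => dg ξ ^ 2) (fun i _ => sq_nonneg _) (Finset.mem_univ χ)

/-- A character of defect zero vanishes on singular elements. -/
theorem vanish (χ : IrrCharacter G) {r : ℕ} (hr : r.Prime) {m : ℤ} (hm : (Nat.card G : ℤ) = dg χ * m)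
    (hrm : ¬ (r : ℤ) ∣ m) {g : G} (hg : r ∣ orderOf g) : (χ : G → ℂ) g = 0 := by
  obtain ⟨χ, n, ρ, hρ, rfl⟩ := χ
  haveI := hρ
  have h1 : (ρ.character 1 : ℂ) = (charDegree ρ.character : ℂ) := (charDegree_spec' ⟨n, ρ, hρ, rfl⟩).1
  rw [ρ.char_one] at h1
  have e : Module.finrank ℂ (Fin n → ℂ) = charDegree ρ.character := by exact_mod_cast h1
  refine Cfsg.Agent.S0165.result ρ r ((Nat.card G).factorization r) hr (Nat.ordProj_dvd _ _)
    (Nat.pow_succ_factorization_not_dvd Nat.card_pos.ne' hr) ?_ g hg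
  have hd : ((r : ℤ) ^ (Nat.card G).factorization r) ∣ dg (⟨ρ.character, n, ρ, hρ, rfl⟩ : IrrCharacter G) * m := by
    rw [← hm]
    exact_mod_cast Nat.ordProj_dvd (Nat.card G) r
  have hco : IsCoprime ((r : ℤ) ^ (Nat.card G).factorization r) m :=
    (((Nat.prime_iff_prime_int.mp hr).coprime_iff_not_dvd).mpr hrm).pow_left
  have := hco.dvd_of_dvd_mul_right hd
  rw [e, ← Int.natCast_dvd_natCast, Nat.cast_pow]
  exact this

namespace Core

variable {S : Setup G} (C : Core S)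

noncomputable local instance : Fintype S.K := Fintype.ofFinite _
noncomputable local instance : Fintype S.H := Fintype.ofFinite _

/-- `k` as an integer. -/
noncomputable abbrev kz (_ : Core S) : ℤ := (S.k : ℤ)

/-- The number `k + a`. -/
noncomputable abbrev p : ℤ := C.kz + C.a

theorem k4 : 4 ≤ C.kz := by
  have := C.h4
  show (4 : ℤ) ≤ (S.k : ℤ)
  exact_mod_cast this

theorem k_two : ∃ k' : ℤ, C.kz = 2 * k' := by
  obtain ⟨c, hc⟩ := S.k_even
  exact ⟨c, by show (S.k : ℤ) = _; rw [hc]; push_cast; ring⟩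

theorem p_pos : 3 ≤ C.p := by
  have := C.k4
  rcases C.ha with e | e <;> simp only [p, e] <;> omega

theorem dgX : dg C.X = 2 * C.kz + C.a := by rw [C.dg_X, C.q_eq.1]

theorem index_eq : (S.H.index : ℤ) = (2 * C.kz + C.a) * C.p := C.q_eq.2

theorem cardG : (Nat.card G : ℤ) = 2 * C.kz * ((2 * C.kz + C.a) * C.p) := by
  rw [← C.index_eq, S.card_G]
  push_cast
  ring

/-! ### The constituents of the non-real differences -/

/-- The exceptional character attached to a non-real character of `K`. -/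
noncomputable def Yf (l : S.L) : IrrCharacter G := by
  classical exact if h : S.NR l then (C.other h).choose else oneG

theorem Yf_spec {l : S.L} (hl : S.NR l) :
    C.Yf l ≠ C.X ∧ C.Yf l ≠ oneG ∧ S.coef l (C.Yf l) = -C.a ∧
      (∀ χ, χ ≠ oneG → χ ≠ C.X → χ ≠ C.Yf l → S.coef l χ = 0) ∧ dg (C.Yf l) = 2 * C.p ∧
      ∀ m, m ≠ l → m ≠ S.bar l → S.coef m (C.Yf l) = 0 := by
  obtain ⟨b, h1, h2, hb, hc, hz, hd, hm⟩ := (C.other hl).choose_spec
  have e : C.Yf l = (C.other hl).choose := by simp only [Yf, dif_pos hl]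
  rw [← e] at h1 h2 hc hz hd hm
  rw [C.dgX] at hd
  have hp := dg_pos (C.Yf l)
  have hk := C.k4
  have hb' : b = -C.a ∧ dg (C.Yf l) = 2 * C.p := by
    simp only [p] at *
    rcases C.ha with e' | e' <;> rcases hb with rfl | rfl <;> rw [e'] at hd ⊢ <;> omega
  exact ⟨h1, h2, hc.trans hb'.1, hz, hb'.2, hm⟩

theorem Yf_val {l : S.L} (hl : S.NR l) {y : S.K} (hy : y ≠ 1) :
    (C.Yf l : G → ℂ) (y : G) = (C.a : ℂ) * ((l : S.K → ℂ) y + (l : S.K → ℂ) y⁻¹) := by
  obtain ⟨-, -, hc, -, -, hm⟩ := C.Yf_spec hl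
  rw [Core.Y_apply hl hc hm hy]
  push_cast
  ring

theorem Yf_eq_iff {l m : S.L} (hl : S.NR l) (hm : S.NR m) : C.Yf l = C.Yf m ↔ m = l ∨ m = S.bar l := by
  constructor
  · intro h
    by_contra hne
    push Not at hne
    have h0 := (C.Yf_spec hl).2.2.2.2.2 m hne.1 hne.2
    rw [h, (C.Yf_spec hm).2.2.1] at h0
    rcases C.ha with e | e <;> omega
  · rintro (rfl | rfl)
    · rfl
    · by_contra h
      obtain ⟨h1, h2, hc, -, -, -⟩ := C.Yf_spec hl
      obtain ⟨-, -, -, hz, -, -⟩ := C.Yf_spec hm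
      have := hz _ h2 h1 h
      rw [S.coef_bar hl, hc] at this
      rcases C.ha with e | e <;> omega

/-! ### The constituents of the quadratic difference -/

/-- The real nontrivial character of `K`. -/
noncomputable def sig (_ : Core S) : S.L := S.exists_sigma.choose

theorem sig_ne : C.sig ≠ S.one := S.exists_sigma.choose_spec.1

theorem sig_bar : S.bar C.sig = C.sig := S.exists_sigma.choose_spec.2.1

theorem NR_of {l : S.L} (h1 : l ≠ S.one) (h2 : l ≠ C.sig) : S.NR l := fun e =>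
  (S.exists_sigma.choose_spec.2.2 l e).elim h1 h2

theorem sig_ne_NR {l : S.L} (hl : S.NR l) : C.sig ≠ l := fun e => hl (by rw [← e, C.sig_bar])

theorem sig_sq (y : S.K) : (C.sig : S.K → ℂ) y * (C.sig : S.K → ℂ) y = 1 := by
  have e : (C.sig : S.K → ℂ) y⁻¹ = (C.sig : S.K → ℂ) y := by rw [← Setup.bar_apply, C.sig_bar]
  nth_rewrite 2 [← e]
  rw [← S.lam_mul, mul_inv_cancel, S.lam_deg]

theorem sig_inv (y : S.K) : (C.sig : S.K → ℂ) y⁻¹ = (C.sig : S.K → ℂ) y := by
  rw [← Setup.bar_apply, C.sig_bar]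

theorem sum_sig : ∑ y : S.K, (C.sig : S.K → ℂ) y = 0 := by
  classical
  have h := S.inner_L C.sig S.one
  rw [if_neg C.sig_ne, classInner] at h
  rcases mul_eq_zero.mp h with e | e
  · exact absurd e (inv_ne_zero (Nat.cast_ne_zero.mpr Nat.card_pos.ne'))
  · simpa [Setup.one] using e

/-- A constituent of the quadratic difference other than `1` and `X` occurs in no other difference. -/
theorem coef_off {W : IrrCharacter G} (hW1 : W ≠ oneG) (hWX : W ≠ C.X) (hW : S.coef C.sig W ≠ 0) {m : S.L}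
    (hm : m ≠ C.sig) : S.coef m W = 0 := by
  by_cases hm1 : m = S.one
  · rw [hm1, S.coef_one]
  have hmN := C.NR_of hm1 hm
  obtain ⟨h1, h2, hc, hz, -, -⟩ := C.Yf_spec hmN
  refine hz W hW1 hWX fun e => hW ?_
  rw [e]
  refine ((S.meet hmN C.sig_ne (C.sig_ne_NR hmN) (C.sig_ne_NR (S.NR_bar hmN)) h1.symm C.hX h2
    (by rw [C.hcoef m hm1]; exact C.ha) (by rw [hc]; rcases C.ha with e | e <;> omega) hz).resolve_right fun h => ?_).2
  have := C.hcoef C.sig C.sig_ne
  rcases C.ha with e | e <;> omega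

/-- The value at `y` of such a constituent. -/
theorem val_sig {W : IrrCharacter G} (h0 : ∀ m, m ≠ C.sig → S.coef m W = 0) {y : S.K} (hy : y ≠ 1) :
    (W : G → ℂ) (y : G) = -((S.coef C.sig W : ℂ) * (C.sig : S.K → ℂ) y) := by
  classical
  rw [S.apply_K W hy, Finset.sum_eq_single C.sig (fun m _ hm => by rw [h0 m hm, Int.cast_zero, zero_mul])
    (fun h => absurd (Finset.mem_univ _) h)]

/-- The extension of the quadratic character to `H`. -/
theorem exists_mu : ∃ μ : S.H → ℂ, IsCharacter S.H μ ∧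
    (∀ x : S.K, μ ⟨x, S.K_le_H x.2⟩ = (C.sig : S.K → ℂ) x) ∧
    ∀ x : S.K, μ ⟨(x : G) * S.s, mul_mem (S.K_le_H x.2) S.s_mem_H⟩ = (C.sig : S.K → ℂ) x := by
  classical
  have hss := Involutions.mul_self_eq_one_of_orderOf S.hs
  have hsi := Involutions.inv_eq_self_of_orderOf S.hs
  have hout : ∀ g : S.H, (g : G) ∉ S.K → (g : G) * S.s ∈ S.K := fun g h => (S.mem_H_iff.mp g.2).resolve_left h
  set f : S.H → ℂ := fun g => if h : (g : G) ∈ S.K then (C.sig : S.K → ℂ) ⟨g, h⟩
    else (C.sig : S.K → ℂ) ⟨(g : G) * S.s, hout g h⟩ with hf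
  have hmul : ∀ g h : S.H, f (g * h) = f g * f h := by
    intro g h
    by_cases hg : (g : G) ∈ S.K <;> by_cases hh : (h : G) ∈ S.K
    · have h3 : ((g * h : S.H) : G) ∈ S.K := mul_mem hg hh
      simp only [hf, dif_pos hg, dif_pos hh, dif_pos h3, ← S.lam_mul]
      rfl
    · have h3 : ((g * h : S.H) : G) ∉ S.K := fun e => hh (by simpa using mul_mem (inv_mem hg) e)
      simp only [hf, dif_pos hg, dif_neg hh, dif_neg h3, ← S.lam_mul]
      exact congrArg _ (Subtype.ext (mul_assoc _ _ _))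
    · have h3 : ((g * h : S.H) : G) ∉ S.K := fun e => hg (by simpa using mul_mem e (inv_mem hh))
      simp only [hf, dif_neg hg, dif_pos hh, dif_neg h3]
      rw [← C.sig_inv ⟨(h : G), hh⟩, ← S.lam_mul]
      refine congrArg _ (Subtype.ext ?_)
      show (g : G) * (h : G) * S.s = (g : G) * S.s * (h : G)⁻¹
      rw [← S.hinv _ hh, hsi]
      simp [mul_assoc, ← mul_assoc S.s S.s, hss]
    · have hb := hout h hh
      have e : (g : G) * (h : G) = (g : G) * S.s * ((h : G) * S.s)⁻¹ := by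
        rw [← S.hinv _ hb, hsi]
        simp [mul_assoc, ← mul_assoc S.s S.s, hss]
      have h3 : ((g * h : S.H) : G) ∈ S.K := by
        rw [Subgroup.coe_mul, e]; exact mul_mem (hout g hg) (inv_mem hb)
      simp only [hf, dif_neg hg, dif_neg hh, dif_pos h3]
      rw [← C.sig_inv ⟨(h : G) * S.s, hb⟩, ← S.lam_mul]
      exact congrArg _ (Subtype.ext e)
  have h1 : f 1 = 1 := by
    have : ((1 : S.H) : G) ∈ S.K := S.K.one_mem
    simp only [hf, dif_pos this]
    exact S.lam_deg C.sig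
  let φ : S.H →* ℂ := { toFun := f, map_one' := h1, map_mul' := hmul }
  refine ⟨f, isCharacter_of_irr (isIrrCharacter_linear φ.toHomUnits), fun x => ?_, fun x => ?_⟩
  · simp only [hf, dif_pos x.2]
  · have : (x : G) * S.s ∉ S.K := fun h => S.hsK (by simpa using mul_mem (inv_mem x.2) h)
    simp only [hf, dif_neg this]
    exact congrArg _ (Subtype.ext (show (x : G) * S.s * S.s = x by rw [mul_assoc, hss, mul_one]))

/-- A sum over `H` split along its two cosets of `K`. -/
theorem sum_H (F : S.H → ℂ) : ∑ h : S.H, F h =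
    ∑ x : S.K, F ⟨x, S.K_le_H x.2⟩ + ∑ x : S.K, F ⟨(x : G) * S.s, mul_mem (S.K_le_H x.2) S.s_mem_H⟩ := by
  classical
  refine Eq.trans ?_ (Fintype.sum_sum_type (Sum.elim (fun x : S.K => F ⟨x, S.K_le_H x.2⟩)
    (fun x : S.K => F ⟨(x : G) * S.s, mul_mem (S.K_le_H x.2) S.s_mem_H⟩)))
  refine (Fintype.sum_bijective (Sum.elim (fun x : S.K => (⟨x, S.K_le_H x.2⟩ : S.H))
    (fun x : S.K => (⟨(x : G) * S.s, mul_mem (S.K_le_H x.2) S.s_mem_H⟩ : S.H))) ?_ _ _ ?_).symm
  · have hne : ∀ x y : S.K, (x : G) ≠ (y : G) * S.s := fun x y e => by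
      have h := mul_mem (inv_mem y.2) x.2
      rw [e, inv_mul_cancel_left] at h
      exact S.hsK h
    constructor
    · rintro (x | x) (y | y) e <;> simp only [Sum.elim_inl, Sum.elim_inr, Subtype.mk.injEq] at e
      · exact congrArg Sum.inl (Subtype.ext e)
      · exact absurd e (hne x y)
      · exact absurd e.symm (hne y x)
      · exact congrArg Sum.inr (Subtype.ext (mul_right_cancel e))
    · rintro ⟨g, hg⟩
      rcases S.mem_H_iff.mp hg with h | h
      · exact ⟨Sum.inl ⟨g, h⟩, rfl⟩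
      · exact ⟨Sum.inr ⟨g * S.s, h⟩, Subtype.ext (by
          simp [mul_assoc, Involutions.mul_self_eq_one_of_orderOf S.hs])⟩
  · rintro (x | x) <;> rfl

/-- The degree of a constituent of the quadratic difference. -/
theorem part {W : IrrCharacter G} {c : ℤ} (hc : c = 1 ∨ c = -1) (hcW : S.coef C.sig W = c)
    (h0 : ∀ m, m ≠ C.sig → S.coef m W = 0) : ∃ j : ℤ, 1 ≤ j ∧ Odd j ∧ dg W = j * C.kz - c := by
  classical
  obtain ⟨μ, hμc, hμK, hμs⟩ := C.exists_mu
  obtain ⟨N, hN⟩ := classInner_char_nat (isCharacter_restrict (isCharacter_of_irr W.2) S.H) hμc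
  rw [classInner, inv_mul_eq_iff_eq_mul₀ (Nat.cast_ne_zero.mpr Nat.card_pos.ne'), sum_H, S.card_H] at hN
  have hσconj : ∀ x : S.K, conj ((C.sig : S.K → ℂ) x) = (C.sig : S.K → ℂ) x := fun x => by
    rw [← S.lam_inv, C.sig_inv]
  simp only [hμK, hμs, hσconj] at hN
  have e1 : ∀ x : S.K, (W : G → ℂ) ((x : G) * S.s) = (W : G → ℂ) S.t := by
    intro x
    have hx : (x : G) * S.s ∈ S.H := mul_mem (S.K_le_H x.2) S.s_mem_H
    have hxK : (x : G) * S.s ∉ S.K := fun h => S.hsK (by simpa using mul_mem (inv_mem x.2) h)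
    exact ((isClassFunction_iff_isConj.mp (isClassFunction_irr W.2)) _ _
      (S.hconj _ _ S.ht (S.out_invol hx hxK))).symm
  have e2 : ∑ x : S.K, (W : G → ℂ) (x : G) * (C.sig : S.K → ℂ) x = ((dg W : ℤ) : ℂ) - (c : ℂ) * ((S.k : ℂ) - 1) := by
    rw [← Finset.add_sum_erase _ _ (Finset.mem_univ (1 : S.K)),
      Finset.sum_congr rfl (g := fun _ => -(c : ℂ)) fun x hx => by
        rw [C.val_sig h0 (Finset.mem_erase.mp hx).1, hcW, neg_mul, mul_assoc, C.sig_sq, mul_one],
      Finset.sum_const, Finset.card_erase_of_mem (Finset.mem_univ _), Finset.card_univ, ← Nat.card_eq_fintype_card,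
      nsmul_eq_mul, Nat.cast_sub Nat.card_pos, S.lam_deg, mul_one]
    show (W : G → ℂ) 1 + _ = _
    rw [dg_spec]
    push_cast
    ring
  have e3 : ∑ x : S.K, (W : G → ℂ) S.t * (C.sig : S.K → ℂ) x = 0 := by rw [← Finset.mul_sum, C.sum_sig, mul_zero]
  simp only [e1] at hN
  rw [e2, e3, add_zero] at hN
  have e : dg W - c * (C.kz - 1) = ((2 * S.k : ℕ) : ℤ) * N := by
    show dg W - c * ((S.k : ℤ) - 1) = _
    exact_mod_cast hN
  push_cast at e
  refine ⟨2 * (N : ℤ) + c, ?_, ?_, by linear_combination e⟩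
  · have := dg_pos W
    have hk := C.k4
    by_contra h
    push Not at h
    have : (2 * (N : ℤ) + c) * C.kz ≤ -1 * C.kz := by
      apply mul_le_mul_of_nonneg_right _ (by omega)
      rcases hc with rfl | rfl <;> omega
    rcases hc with rfl | rfl <;> nlinarith
  · rcases hc with rfl | rfl
    · exact ⟨N, rfl⟩
    · exact ⟨N - 1, by ring⟩

/-- The two further constituents of the quadratic difference. -/
theorem exists_WZ : ∃ W Z : IrrCharacter G, W ≠ Z ∧ W ≠ oneG ∧ Z ≠ oneG ∧ W ≠ C.X ∧ Z ≠ C.X ∧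
    S.coef C.sig W = -C.a ∧ S.coef C.sig Z = -C.a ∧ dg W = C.p ∧ dg Z = C.p ∧
    (∀ m, m ≠ C.sig → S.coef m W = 0) ∧ (∀ m, m ≠ C.sig → S.coef m Z = 0) ∧
    ∀ χ, χ ≠ oneG → χ ≠ C.X → χ ≠ W → χ ≠ Z → S.coef C.sig χ = 0 := by
  classical
  have h := S.sum_coef_mul C.sig_ne C.sig_ne
  rw [if_pos rfl, if_pos C.sig_bar.symm] at h
  obtain ⟨hb, hc⟩ := Setup.small _ (S.coef C.sig) (n := 3) le_rfl (by rw [h]; norm_num)
  have hXmem : C.X ∈ (Finset.univ.erase oneG).filter fun χ => S.coef C.sig χ ≠ 0 :=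
    Finset.mem_filter.mpr ⟨Finset.mem_erase.mpr ⟨C.hX, Finset.mem_univ _⟩, by
      rw [C.hcoef C.sig C.sig_ne]; rcases C.ha with e | e <;> omega⟩
  have hc' := Finset.card_erase_of_mem hXmem
  rw [hc] at hc'
  obtain ⟨W, Z, hWZ, hs⟩ := Finset.card_eq_two.mp hc'
  obtain ⟨hWX, hW⟩ := Finset.mem_erase.mp (hs.ge (Finset.mem_insert_self W {Z}))
  obtain ⟨hW, hW0⟩ := Finset.mem_filter.mp hW
  obtain ⟨hW1, -⟩ := Finset.mem_erase.mp hW
  obtain ⟨hZX, hZ⟩ := Finset.mem_erase.mp (hs.ge (Finset.mem_insert_of_mem (Finset.mem_singleton_self Z)))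
  obtain ⟨hZ, hZ0⟩ := Finset.mem_filter.mp hZ
  obtain ⟨hZ1, -⟩ := Finset.mem_erase.mp hZ
  have hrest : ∀ χ, χ ≠ oneG → χ ≠ C.X → χ ≠ W → χ ≠ Z → S.coef C.sig χ = 0 := by
    intro χ h1 h2 h3 h4
    by_contra h5
    have : χ ∈ ({W, Z} : Finset _) := hs.le (Finset.mem_erase.mpr ⟨h2,
      Finset.mem_filter.mpr ⟨Finset.mem_erase.mpr ⟨h1, Finset.mem_univ _⟩, h5⟩⟩)
    simp [h3, h4] at this
  have hW' := fun m => C.coef_off hW1 hWX hW0 (m := m)
  have hZ' := fun m => C.coef_off hZ1 hZX hZ0 (m := m)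
  obtain ⟨j, hj, hjo, hjW⟩ := C.part (hb W hW hW0) rfl hW'
  obtain ⟨j', hj', hjo', hjZ⟩ := C.part (hb Z hZ hZ0) rfl hZ'
  have hdeg := S.sum_coef_dg C.sig
  rw [← Finset.sum_subset (Finset.subset_univ ({oneG, C.X, W, Z} : Finset (IrrCharacter G))) fun χ _ hχ => by
    simp only [Finset.mem_insert, Finset.mem_singleton, not_or] at hχ
    rw [hrest χ hχ.1 hχ.2.1 hχ.2.2.1 hχ.2.2.2, zero_mul],
    Finset.sum_insert (by simp [C.hX.symm, hW1.symm, hZ1.symm]), Finset.sum_insert (by simp [hWX.symm, hZX.symm]),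
    Finset.sum_pair hWZ, S.coef_oneG C.sig_ne, dg_oneG, C.hcoef C.sig C.sig_ne, C.dgX, hjW, hjZ] at hdeg
  set c := S.coef C.sig W with hcdef
  set d := S.coef C.sig Z with hddef
  have hk := C.k4
  have hc2 : c = 1 ∨ c = -1 := hb W hW hW0
  have hd2 : d = 1 ∨ d = -1 := hb Z hZ hZ0
  have hcc : c * c = 1 := by rcases hc2 with e | e <;> rw [e] <;> rfl
  have hdd : d * d = 1 := by rcases hd2 with e | e <;> rw [e] <;> rfl
  have hlin : c * j + d * j' = -2 * C.a := by
    have : (c * j + d * j' + 2 * C.a) * C.kz = 0 := by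
      linear_combination hdeg + hcc + hdd - C.a_sq
    rcases mul_eq_zero.mp this with e | e <;> omega
  -- unequal signs are impossible
  have key : ∀ (V : IrrCharacter G) (j₁ j₂ : ℤ), 1 ≤ j₁ → Odd j₁ → dg V = j₂ * C.kz + C.a → j₂ = j₁ + 2 → False := by
    intro V j₁ j₂ h1 hjo₁ hV h2
    obtain ⟨k', hk'⟩ := C.k_two
    have hdv := dg_dvd V
    rw [C.cardG] at hdv
    have hco : IsCoprime (dg V) (2 * C.kz) := by
      have ho : Odd (dg V) := by
        rw [hV, hk']
        rcases C.ha with e | e <;> rw [e]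
        · exact ⟨j₂ * k', by ring⟩
        · exact ⟨j₂ * k' - 1, by ring⟩
      refine IsCoprime.mul_right ?_ ⟨C.a, -j₂ * C.a, by rw [hV]; linear_combination C.a_sq⟩
      obtain ⟨n, hn⟩ := ho
      exact ⟨1, -n, by linear_combination hn⟩
    obtain ⟨M, hM⟩ := hco.dvd_of_dvd_mul_left hdv
    have hz : 3 * C.kz + C.a ≤ dg V := by
      rw [hV]
      have : 3 * C.kz ≤ j₂ * C.kz := mul_le_mul_of_nonneg_right (by omega) (by omega)
      omega
    have hzp := dg_pos V
    have hMpos : 1 ≤ M := by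
      by_contra h
      push Not at h
      have : dg V * M ≤ 0 := by nlinarith
      have := C.p_pos
      nlinarith
    have hMk : M < C.kz := by
      by_contra h
      push Not at h
      have h3 : (3 * C.kz + C.a) * C.kz ≤ dg V * M := mul_le_mul hz h (by omega) (by omega)
      rw [← hM] at h3
      rcases C.ha with e | e <;> simp only [p, e] at h3 <;> nlinarith
    have hMa : C.kz ∣ M - C.a := ⟨C.a * (2 * C.kz + 3 * C.a - j₂ * M), by
      simp only [p] at hM
      rw [hV] at hM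
      linear_combination (-C.a) * hM + (C.a + 2 * C.a * C.kz ^ 2 * 0 - M) * C.a_sq⟩
    obtain ⟨w, hw⟩ := hMa
    have hw' : w = 0 ∧ C.a = 1 ∨ w = 1 ∧ C.a = -1 := by
      rcases C.ha with e | e <;> rw [e] at hw
      · refine Or.inl ⟨?_, e⟩
        by_contra h0
        rcases lt_or_gt_of_ne h0 with h' | h'
        · have : C.kz * w ≤ C.kz * (-1) := mul_le_mul_of_nonneg_left (by omega) (by omega)
          omega
        · have : C.kz * 1 ≤ C.kz * w := mul_le_mul_of_nonneg_left (by omega) (by omega)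
          omega
      · refine Or.inr ⟨?_, e⟩
        by_contra h0
        rcases lt_or_gt_of_ne h0 with h' | h'
        · have : C.kz * w ≤ C.kz * 0 := mul_le_mul_of_nonneg_left (by omega) (by omega)
          omega
        · have : C.kz * 2 ≤ C.kz * w := mul_le_mul_of_nonneg_left (by omega) (by omega)
          omega
    rcases hw' with ⟨rfl, e⟩ | ⟨rfl, e⟩
    · have hM1 : M = 1 := by rw [e] at hw; linarith
      rw [hM1, mul_one] at hM
      have hsq := dg_sq_le V
      rw [C.cardG, ← hM] at hsq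
      simp only [p, e] at hsq
      have : (2 * C.kz + 1) * (C.kz + 1) ≤ 2 * C.kz := le_of_mul_le_mul_right hsq (by nlinarith)
      nlinarith
    · have hM1 : M = C.kz - 1 := by rw [e] at hw; linarith
      simp only [p, e] at hM
      rw [hM1] at hM
      have : dg V = 2 * C.kz - 1 := mul_right_cancel₀ (show C.kz - 1 ≠ 0 by omega) (by linear_combination -hM)
      omega
  have hcd : c = -C.a ∧ d = -C.a ∧ j = 1 ∧ j' = 1 := by
    rcases hc2 with e | e <;> rcases hd2 with e' | e' <;> rcases C.ha with ea | ea <;>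
      rw [e, e', ea] at hlin <;>
      first
        | (exfalso; omega)
        | (refine ⟨by omega, by omega, ?_, ?_⟩ <;> obtain ⟨m, rfl⟩ := hjo <;> obtain ⟨m', rfl⟩ := hjo' <;> omega)
        | (exfalso; exact key Z j j' hj hjo (by rw [hjZ, e', ea]; ring) (by omega))
        | (exfalso; exact key W j' j hj' hjo' (by rw [hjW, e, ea]; ring) (by omega))
  obtain ⟨h1, h2, rfl, rfl⟩ := hcd
  exact ⟨W, Z, hWZ, hW1, hZ1, hWX, hZX, h1, h2, by rw [hjW, h1]; ring, by rw [hjZ, h2]; ring, hW', hZ', hrest⟩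

end Core

end CfsgLib.BSW
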