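import Cfsg.Agent.Lib.BSW.Others
import Mathlib.GroupTheory.PGroup

/-!
The Brauer–Suzuki–Wall configuration: the elements outside the conjugates of `K`.
-/

set_option autoImplicit false
set_option linter.unusedSectionVars false

namespace CfsgLib.BSW

open Cfsg CfsgLib.CharTheory
open scoped ComplexConjugate

universe u

variable {G : Type u} [Group G] [Fintype G]

namespace Setup

variable (S : Setup G)

theorem KT_one_lt {g : G} (hg : S.KT g) : g ≠ 1 := fun e => S.not_KT_one (e ▸ hg)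

/-- Nontrivial elements of `H` are conjugate into `K`. -/
theorem KT_of_mem_H {h : G} (hh : h ∈ S.H) (h1 : h ≠ 1) : S.KT h := by
  by_cases hK : h ∈ S.K
  · exact ⟨h, hK, h1, IsConj.refl h⟩
  · exact ⟨S.t, S.htK, S.t_ne, S.hconj _ _ S.ht (S.out_invol hh hK)⟩

/-- An element commuting with a conjugate of a nontrivial element of `K` is one itself. -/
theorem KT_of_comm {x y : G} (hy : S.KT y) (hx : x * y = y * x) (hx1 : x ≠ 1) : S.KT x := by
  obtain ⟨w, hw, hw1, hc⟩ := hy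
  obtain ⟨c, rfl⟩ := isConj_iff.mp hc
  have h : c⁻¹ * x * c ∈ Subgroup.centralizer ({w} : Set G) := by
    rw [Subgroup.mem_centralizer_singleton_iff]
    calc c⁻¹ * x * c * w = c⁻¹ * (x * (c * w * c⁻¹)) * c := by group
      _ = c⁻¹ * (c * w * c⁻¹ * x) * c := by rw [hx]
      _ = _ := by group
  have := S.KT_conj (h := c) (S.KT_of_mem_H (S.centralizer_le hw hw1 h) (fun e => hx1 ?_))
  · rwa [show c * (c⁻¹ * x * c) * c⁻¹ = x by group] at this
  · calc x = c * (c⁻¹ * x * c) * c⁻¹ := by group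
      _ = 1 := by rw [e]; group

/-- Elements of prime order prime to the index of `H` are conjugate into `K`. -/
theorem KT_of_prime {z : G} {r : ℕ} (hr : r.Prime) (hz : orderOf z = r) (hri : ¬ r ∣ S.H.index) : S.KT z := by
  haveI : Fact r.Prime := ⟨hr⟩
  have hP : IsPGroup r (Subgroup.zpowers z) := IsPGroup.of_card (n := 1) (by rw [Nat.card_zpowers, hz, pow_one])
  obtain ⟨x, hx⟩ := hP.nonempty_fixed_point_of_prime_not_dvd_card (G ⧸ S.H) hri
  obtain ⟨c, rfl⟩ := QuotientGroup.mk_surjective x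
  have h1 : ((z * c : G) : G ⧸ S.H) = (c : G ⧸ S.H) := hx ⟨z, Subgroup.mem_zpowers z⟩
  have hmem : c⁻¹ * z * c ∈ S.H := by
    have := inv_mem (QuotientGroup.eq.mp h1)
    simpa [mul_assoc] using this
  have hne : c⁻¹ * z * c ≠ 1 := fun e => by
    have : z = 1 := by calc z = c * (c⁻¹ * z * c) * c⁻¹ := by group
                          _ = 1 := by rw [e]; group
    rw [this, orderOf_one] at hz
    exact hr.one_lt.ne hz
  have := S.KT_conj (h := c) (S.KT_of_mem_H hmem hne)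
  rwa [show c * (c⁻¹ * z * c) * c⁻¹ = z by group] at this

end Setup

namespace Core

variable {S : Setup G} (C : Core S)

noncomputable local instance : Fintype S.K := Fintype.ofFinite _

/-- The first further constituent. -/
noncomputable def W : IrrCharacter G := C.exists_WZ.choose

/-- The second further constituent. -/
noncomputable def Z : IrrCharacter G := C.exists_WZ.choose_spec.choose

theorem WZ_spec : C.W ≠ C.Z ∧ C.W ≠ oneG ∧ C.Z ≠ oneG ∧ C.W ≠ C.X ∧ C.Z ≠ C.X ∧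
    S.coef C.sig C.W = -C.a ∧ S.coef C.sig C.Z = -C.a ∧ dg C.W = C.p ∧ dg C.Z = C.p ∧
    (∀ m, m ≠ C.sig → S.coef m C.W = 0) ∧ (∀ m, m ≠ C.sig → S.coef m C.Z = 0) ∧
    ∀ χ, χ ≠ oneG → χ ≠ C.X → χ ≠ C.W → χ ≠ C.Z → S.coef C.sig χ = 0 :=
  C.exists_WZ.choose_spec.choose_spec

theorem W_val {y : S.K} (hy : y ≠ 1) : (C.W : G → ℂ) (y : G) = (C.a : ℂ) * (C.sig : S.K → ℂ) y := by
  rw [C.val_sig C.WZ_spec.2.2.2.2.2.2.2.2.2.1 hy, C.WZ_spec.2.2.2.2.2.1]
  push_cast
  ring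

theorem Z_val {y : S.K} (hy : y ≠ 1) : (C.Z : G → ℂ) (y : G) = (C.a : ℂ) * (C.sig : S.K → ℂ) y := by
  rw [C.val_sig C.WZ_spec.2.2.2.2.2.2.2.2.2.2.1 hy, C.WZ_spec.2.2.2.2.2.2.1]
  push_cast
  ring

/-- The quadratic difference off the conjugates of `K`. -/
theorem eq_off_sig {g : G} (hg : ¬ S.KT g) :
    1 + (C.a : ℂ) * (C.X : G → ℂ) g - (C.a : ℂ) * ((C.W : G → ℂ) g + (C.Z : G → ℂ) g) = 0 := by
  classical
  obtain ⟨hWZ, hW1, hZ1, hWX, hZX, hcW, hcZ, -, -, -, -, hrest⟩ := C.WZ_spec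
  have h := congrFun (S.T_eq C.sig) g
  rw [S.T_off _ hg] at h
  simp only [Finset.sum_apply, Pi.smul_apply, smul_eq_mul] at h
  rw [← Finset.sum_subset (Finset.subset_univ ({oneG, C.X, C.W, C.Z} : Finset (IrrCharacter G))) fun χ _ hχ => by
    simp only [Finset.mem_insert, Finset.mem_singleton, not_or] at hχ
    rw [hrest χ hχ.1 hχ.2.1 hχ.2.2.1 hχ.2.2.2, Int.cast_zero, zero_mul],
    Finset.sum_insert (by simp [C.hX.symm, hW1.symm, hZ1.symm]), Finset.sum_insert (by simp [hWX.symm, hZX.symm]),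
    Finset.sum_pair hWZ, S.coef_oneG C.sig_ne, C.hcoef C.sig C.sig_ne, hcW, hcZ] at h
  simp only [oneG, Int.cast_one, Int.cast_neg] at h
  linear_combination -h

/-- A non-real difference off the conjugates of `K`. -/
theorem eq_off {l : S.L} (hl : S.NR l) {g : G} (hg : ¬ S.KT g) :
    1 + (C.a : ℂ) * (C.X : G → ℂ) g - (C.a : ℂ) * (C.Yf l : G → ℂ) g = 0 := by
  classical
  obtain ⟨hX, h1, hc, hz, -, -⟩ := C.Yf_spec hl
  have h := congrFun (S.T_eq l) g
  rw [S.T_off _ hg] at h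
  simp only [Finset.sum_apply, Pi.smul_apply, smul_eq_mul] at h
  rw [← Finset.sum_subset (Finset.subset_univ ({oneG, C.X, C.Yf l} : Finset (IrrCharacter G))) fun χ _ hχ => by
    simp only [Finset.mem_insert, Finset.mem_singleton, not_or] at hχ
    rw [hz χ hχ.1 hχ.2.1 hχ.2.2, Int.cast_zero, zero_mul],
    Finset.sum_insert (by simp [C.hX.symm, h1.symm]), Finset.sum_pair hX.symm,
    S.coef_oneG (S.NR_ne hl), C.hcoef l (S.NR_ne hl), hc] at h
  simp only [oneG, Int.cast_one, Int.cast_neg] at h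
  linear_combination -h

/-! ### Arithmetic -/

theorem a_cast_sq : (C.a : ℂ) * C.a = 1 := by exact_mod_cast C.a_sq

theorem isCoprime_q : IsCoprime (2 * C.kz + C.a) (2 * C.kz * C.p) := by
  refine IsCoprime.mul_right ⟨C.a, -C.a, ?_⟩ ⟨-C.a, 2 * C.a, ?_⟩
  · linear_combination C.a_sq
  · simp only [p]; linear_combination C.a_sq

theorem isCoprime_p : IsCoprime C.p (C.kz * (2 * C.kz + C.a)) := by
  refine IsCoprime.mul_right ⟨C.a, -C.a, ?_⟩ ⟨2 * C.a, -C.a, ?_⟩
  · simp only [p]; linear_combination C.a_sq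
  · simp only [p]; linear_combination C.a_sq

theorem index_natDvd {r : ℕ} (hr : r.Prime) (h : r ∣ S.H.index) :
    (r : ℤ) ∣ 2 * C.kz + C.a ∨ (r : ℤ) ∣ C.p := by
  have h' : (r : ℤ) ∣ (2 * C.kz + C.a) * C.p := by
    rw [← C.index_eq]; exact Int.natCast_dvd_natCast.mpr h
  exact (Nat.prime_iff_prime_int.mp hr).dvd_or_dvd h'

/-- Singular elements for primes dividing `q`. -/
theorem X_zero {r : ℕ} (hr : r.Prime) (h : (r : ℤ) ∣ 2 * C.kz + C.a) {g : G} (hg : r ∣ orderOf g) :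
    (C.X : G → ℂ) g = 0 := by
  refine vanish C.X hr (m := 2 * C.kz * C.p) (by rw [C.cardG, C.dgX]; ring) (fun h' => ?_) hg
  have := Int.isUnit_iff.mp (C.isCoprime_q.isUnit_of_dvd' h h')
  have := hr.two_le
  omega

/-- Singular elements for primes dividing `k + a`. -/
theorem Y_zero {l : S.L} (hl : S.NR l) {r : ℕ} (hr : r.Prime) (h : (r : ℤ) ∣ C.p) {g : G} (hg : r ∣ orderOf g) :
    (C.Yf l : G → ℂ) g = 0 := by
  refine vanish (C.Yf l) hr (m := C.kz * (2 * C.kz + C.a))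
    (by rw [C.cardG, (C.Yf_spec hl).2.2.2.2.1]; ring) (fun h' => ?_) hg
  have := Int.isUnit_iff.mp (C.isCoprime_p.isUnit_of_dvd' h h')
  have := hr.two_le
  omega

/-- The prime divisors of the order of an element outside the conjugates of `K`. -/
theorem prime_cases {g : G} (hg : ¬ S.KT g) (hg1 : g ≠ 1) {r : ℕ} (hr : r.Prime) (h : r ∣ orderOf g) :
    (r : ℤ) ∣ 2 * C.kz + C.a ∨ (r : ℤ) ∣ C.p := by
  obtain ⟨d, hd⟩ := h
  have hd0 : d ≠ 0 := fun e => (orderOf_pos g).ne' (by rw [hd, e, mul_zero])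
  have hz : orderOf (g ^ d) = r := by
    rw [orderOf_pow' g hd0, hd, Nat.gcd_mul_left_left, Nat.mul_div_cancel _ (Nat.pos_of_ne_zero hd0)]
  refine C.index_natDvd hr ?_
  by_contra hri
  exact hg (S.KT_of_comm (S.KT_of_prime hr hz hri) (Commute.self_pow g d).eq hg1)

/-- `X` and the `Y` do not vanish together off the conjugates of `K`. -/
theorem not_both {l : S.L} (hl : S.NR l) {g : G} (hg : ¬ S.KT g) (hX : (C.X : G → ℂ) g = 0) :
    (C.Yf l : G → ℂ) g = (C.a : ℂ) := by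
  have h := C.eq_off hl hg
  rw [hX] at h
  linear_combination (-(C.a : ℂ)) * h - ((C.Yf l : G → ℂ) g) * C.a_cast_sq

/-- Elements where `X` vanishes. -/
def InS1 (g : G) : Prop := g ≠ 1 ∧ ¬ S.KT g ∧ (C.X : G → ℂ) g = 0

/-- Elements where the exceptional characters vanish. -/
def InS2 (g : G) : Prop := g ≠ 1 ∧ ¬ S.KT g ∧ (C.X : G → ℂ) g = -(C.a : ℂ)

theorem cases {g : G} (hg : ¬ S.KT g) (hg1 : g ≠ 1) : C.InS1 g ∨ C.InS2 g := by
  obtain ⟨r, hr, hrd⟩ := Nat.exists_prime_and_dvd (fun e => hg1 (orderOf_eq_one_iff.mp e))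
  rcases C.prime_cases hg hg1 hr hrd with h | h
  · exact Or.inl ⟨hg1, hg, C.X_zero hr h hrd⟩
  · obtain ⟨l, hl⟩ := S.exists_NR C.h4
    refine Or.inr ⟨hg1, hg, ?_⟩
    have he := C.eq_off hl hg
    rw [C.Y_zero hl hr h hrd] at he
    linear_combination (C.a : ℂ) * he - ((C.X : G → ℂ) g) * C.a_cast_sq

theorem not_S1_S2 {g : G} (h1 : C.InS1 g) (h2 : C.InS2 g) : False := by
  have := h1.2.2.symm.trans h2.2.2
  rcases C.ha with e | e <;> simp [e] at this

theorem S1_Y {g : G} (h : C.InS1 g) {l : S.L} (hl : S.NR l) : (C.Yf l : G → ℂ) g = (C.a : ℂ) :=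
  C.not_both hl h.2.1 h.2.2

theorem S1_WZ {g : G} (h : C.InS1 g) : (C.W : G → ℂ) g + (C.Z : G → ℂ) g = (C.a : ℂ) := by
  have he := C.eq_off_sig h.2.1
  rw [h.2.2] at he
  linear_combination (-(C.a : ℂ)) * he - ((C.W : G → ℂ) g + (C.Z : G → ℂ) g) * C.a_cast_sq

theorem S1_prime {g : G} (h : C.InS1 g) {r : ℕ} (hr : r.Prime) (hd : r ∣ orderOf g) :
    (r : ℤ) ∣ 2 * C.kz + C.a := by
  refine (C.prime_cases h.2.1 h.1 hr hd).resolve_right fun h' => ?_
  obtain ⟨l, hl⟩ := S.exists_NR C.h4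
  have := (C.Y_zero hl hr h' hd).symm.trans (C.S1_Y h hl)
  rcases C.ha with e | e <;> simp [e] at this

theorem S2_prime {g : G} (h : C.InS2 g) {r : ℕ} (hr : r.Prime) (hd : r ∣ orderOf g) : (r : ℤ) ∣ C.p := by
  refine (C.prime_cases h.2.1 h.1 hr hd).resolve_left fun h' => ?_
  have := (C.X_zero hr h' hd).symm.trans h.2.2
  rcases C.ha with e | e <;> simp [e] at this

theorem S1_conj {g : G} (h : C.InS1 g) (c : G) : C.InS1 (c * g * c⁻¹) := by
  refine ⟨fun e => h.1 (conj_eq_one_iff.mp e), fun e => h.2.1 ?_, ?_⟩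
  · have := S.KT_conj (h := c⁻¹) e
    simpa [mul_assoc] using this
  · rw [isClassFunction_irr C.X.2 g c]; exact h.2.2

theorem S2_conj {g : G} (h : C.InS2 g) (c : G) : C.InS2 (c * g * c⁻¹) := by
  refine ⟨fun e => h.1 (conj_eq_one_iff.mp e), fun e => h.2.1 ?_, ?_⟩
  · have := S.KT_conj (h := c⁻¹) e
    simpa [mul_assoc] using this
  · rw [isClassFunction_irr C.X.2 g c]; exact h.2.2

/-- Commuting elements outside the conjugates of `K` lie in the same set. -/
theorem same_S1 {g x : G} (hg : C.InS1 g) (hx : x * g = g * x) (hx1 : x ≠ 1) : C.InS1 x := by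
  have hxK : ¬ S.KT x := fun h => hg.2.1 (S.KT_of_comm h hx.symm hg.1)
  refine (C.cases hxK hx1).resolve_right fun hx2 => ?_
  -- powers of coprime prime orders give an element where `X` and `Y` both vanish
  obtain ⟨r, hr, hrd⟩ := Nat.exists_prime_and_dvd (fun e => hg.1 (orderOf_eq_one_iff.mp e))
  obtain ⟨r', hr', hrd'⟩ := Nat.exists_prime_and_dvd (fun e => hx1 (orderOf_eq_one_iff.mp e))
  have h1 := C.S1_prime hg hr hrd
  have h2 := C.S2_prime hx2 hr' hrd'
  obtain ⟨d, hd⟩ := hrd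
  obtain ⟨d', hd'⟩ := hrd'
  have hd0 : d ≠ 0 := fun e => (orderOf_pos g).ne' (by rw [hd, e, mul_zero])
  have hd0' : d' ≠ 0 := fun e => (orderOf_pos x).ne' (by rw [hd', e, mul_zero])
  have hy : orderOf (g ^ d) = r := by
    rw [orderOf_pow' g hd0, hd, Nat.gcd_mul_left_left, Nat.mul_div_cancel _ (Nat.pos_of_ne_zero hd0)]
  have hz : orderOf (x ^ d') = r' := by
    rw [orderOf_pow' x hd0', hd', Nat.gcd_mul_left_left, Nat.mul_div_cancel _ (Nat.pos_of_ne_zero hd0')]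
  have hne : r ≠ r' := by
    rintro rfl
    have hco : IsCoprime (2 * C.kz + C.a) C.p := C.isCoprime_q.of_mul_right_right
    have := Int.isUnit_iff.mp (hco.isUnit_of_dvd' h1 h2)
    have := hr.two_le
    omega
  have hc : Commute (g ^ d) (x ^ d') := (Commute.pow_pow (show Commute g x from hx.symm) d d')
  have ho : orderOf (g ^ d * x ^ d') = r * r' := by
    rw [hc.orderOf_mul_eq_mul_orderOf_of_coprime (by rw [hy, hz]; exact (Nat.coprime_primes hr hr').mpr hne), hy, hz]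
  have hw1 : g ^ d * x ^ d' ≠ 1 := fun e => by
    rw [e, orderOf_one] at ho
    have := Nat.le_mul_of_pos_right r hr'.pos
    have := hr.two_le
    omega
  have hwK : ¬ S.KT (g ^ d * x ^ d') := fun h => hg.2.1 (S.KT_of_comm h
    (show g * (g ^ d * x ^ d') = g ^ d * x ^ d' * g from
      ((Commute.self_pow g d).mul_right ((show Commute g x from hx.symm).pow_right d')).eq) hg.1)
  obtain ⟨l, hl⟩ := S.exists_NR C.h4
  have hX := C.X_zero hr h1 (g := g ^ d * x ^ d') (ho ▸ dvd_mul_right r r')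
  have hY := C.Y_zero hl hr' h2 (g := g ^ d * x ^ d') (ho ▸ dvd_mul_left r' r)
  have := hY.symm.trans (C.not_both hl hwK hX)
  rcases C.ha with e | e <;> simp [e] at this

theorem same_S2 {g x : G} (hg : C.InS2 g) (hx : x * g = g * x) (hx1 : x ≠ 1) : C.InS2 x := by
  have hxK : ¬ S.KT x := fun h => hg.2.1 (S.KT_of_comm h hx.symm hg.1)
  exact (C.cases hxK hx1).resolve_left fun h => C.not_S1_S2 (C.same_S1 h hx.symm hg.1) hg

theorem centralizer_dvd_q {g : G} (hg : C.InS1 g) :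
    (Nat.card (Subgroup.centralizer ({g} : Set G)) : ℤ) ∣ 2 * C.kz + C.a := by
  set D := Subgroup.centralizer ({g} : Set G)
  have hd : (Nat.card D : ℤ) ∣ 2 * C.kz * C.p * (2 * C.kz + C.a) := by
    have h := Int.natCast_dvd_natCast.mpr (Subgroup.card_subgroup_dvd_card D)
    rw [C.cardG] at h
    rwa [mul_comm (2 * C.kz + C.a) C.p, ← mul_assoc] at h
  refine IsCoprime.dvd_of_dvd_mul_left ?_ hd
  refine Int.isCoprime_iff_gcd_eq_one.mpr ?_
  by_contra hne
  obtain ⟨r, hr, hrd⟩ := Nat.exists_prime_and_dvd hne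
  have hr1 : (r : ℤ) ∣ (Nat.card D : ℤ) := (Int.natCast_dvd_natCast.mpr hrd).trans (Int.gcd_dvd_left _ _)
  have hr2 : (r : ℤ) ∣ 2 * C.kz * C.p := (Int.natCast_dvd_natCast.mpr hrd).trans (Int.gcd_dvd_right _ _)
  haveI : Fact r.Prime := ⟨hr⟩
  obtain ⟨⟨z, hz⟩, hzo⟩ := exists_prime_orderOf_dvd_card' (G := D) r (Int.natCast_dvd_natCast.mp hr1)
  rw [Subgroup.orderOf_mk] at hzo
  have hz1 : z ≠ 1 := fun e => by rw [e, orderOf_one] at hzo; exact hr.one_lt.ne hzo
  have h1 := C.S1_prime (C.same_S1 hg (Subgroup.mem_centralizer_singleton_iff.mp hz) hz1) hr (hzo ▸ dvd_rfl)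
  have := Int.isUnit_iff.mp (C.isCoprime_q.isUnit_of_dvd' h1 hr2)
  have := hr.two_le
  omega

theorem centralizer_dvd_p {g : G} (hg : C.InS2 g) :
    (Nat.card (Subgroup.centralizer ({g} : Set G)) : ℤ) ∣ C.p := by
  set D := Subgroup.centralizer ({g} : Set G)
  have hd : (Nat.card D : ℤ) ∣ 2 * (C.kz * (2 * C.kz + C.a)) * C.p := by
    have h := Int.natCast_dvd_natCast.mpr (Subgroup.card_subgroup_dvd_card D)
    rw [C.cardG] at h
    rwa [← mul_assoc, mul_assoc 2 C.kz] at h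
  refine IsCoprime.dvd_of_dvd_mul_left ?_ hd
  refine Int.isCoprime_iff_gcd_eq_one.mpr ?_
  by_contra hne
  obtain ⟨r, hr, hrd⟩ := Nat.exists_prime_and_dvd hne
  have hr1 : (r : ℤ) ∣ (Nat.card D : ℤ) := (Int.natCast_dvd_natCast.mpr hrd).trans (Int.gcd_dvd_left _ _)
  have hr2 : (r : ℤ) ∣ 2 * (C.kz * (2 * C.kz + C.a)) := (Int.natCast_dvd_natCast.mpr hrd).trans (Int.gcd_dvd_right _ _)
  haveI : Fact r.Prime := ⟨hr⟩
  obtain ⟨⟨z, hz⟩, hzo⟩ := exists_prime_orderOf_dvd_card' (G := D) r (Int.natCast_dvd_natCast.mp hr1)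
  rw [Subgroup.orderOf_mk] at hzo
  have hz1 : z ≠ 1 := fun e => by rw [e, orderOf_one] at hzo; exact hr.one_lt.ne hzo
  have h1 := C.S2_prime (C.same_S2 hg (Subgroup.mem_centralizer_singleton_iff.mp hz) hz1) hr (hzo ▸ dvd_rfl)
  rcases (Nat.prime_iff_prime_int.mp hr).dvd_or_dvd hr2 with h | h
  · have h2 : r = 2 := (Nat.prime_dvd_prime_iff_eq hr Nat.prime_two).mp (by exact_mod_cast h)
    subst h2
    obtain ⟨k', hk'⟩ := C.k_two
    obtain ⟨c, hc⟩ := h1
    simp only [p] at hc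
    rcases C.ha with e | e <;> omega
  · have := Int.isUnit_iff.mp (C.isCoprime_p.isUnit_of_dvd' h1 h)
    have := hr.two_le
    omega

end Core

end CfsgLib.BSW
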