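import Cfsg.Agent.Lib.Involutions
import Cfsg.Agent.Lib.CharTheory.Irr

/-!
The Brauer–Suzuki–Wall configuration: group theoretic preliminaries.
-/

set_option autoImplicit false

namespace CfsgLib.BSW

open Subgroup
open CfsgLib.Involutions (mul_self_eq_one_of_orderOf inv_eq_self_of_orderOf orderOf_eq_two_iff')

universe u

/-- An abelian TI subgroup `K` with `C(t) = K⟨s⟩`, `s` inverting `K`, one class of involutions. -/
structure Setup (G : Type u) [Group G] [Finite G] where
  t : G
  K : Subgroup G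
  s : G
  ht : orderOf t = 2
  comm : ∀ x ∈ K, ∀ y ∈ K, x * y = y * x
  htK : t ∈ K
  hs : orderOf s = 2
  hsK : s ∉ K
  hH : K ⊔ Subgroup.zpowers s = Subgroup.centralizer ({t} : Set G)
  hCK : K ⊓ Subgroup.centralizer ({s} : Set G) = Subgroup.zpowers t
  hinv : ∀ x ∈ K, s * x * s⁻¹ = x⁻¹
  hTI : ∀ g : G, g ∉ Subgroup.centralizer ({t} : Set G) → K ⊓ K.map (MulAut.conj g).toMonoidHom = ⊥
  hconj : ∀ x y : G, orderOf x = 2 → orderOf y = 2 → IsConj x y

variable {G : Type u} [Group G] [Finite G] (S : Setup G)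

/-- The centraliser of the central involution. -/
abbrev Setup.H : Subgroup G := Subgroup.centralizer ({S.t} : Set G)

/-- The order of `K`. -/
noncomputable abbrev Setup.k : ℕ := Nat.card S.K

namespace Setup

theorem K_le_H : S.K ≤ S.H := le_sup_left.trans S.hH.le

theorem s_mem_H : S.s ∈ S.H := S.hH.le (Subgroup.mem_sup_right (Subgroup.mem_zpowers _))

theorem t_ne : S.t ≠ 1 := fun e => by simpa [e] using S.ht

theorem mul_s_K {x : G} (hx : x ∈ S.K) : S.s * x = x⁻¹ * S.s := by
  rw [← S.hinv x hx, inv_mul_cancel_right]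

/-- `H` is the union of `K` and `Ks`. -/
theorem mem_H_iff {g : G} : g ∈ S.H ↔ g ∈ S.K ∨ g * S.s ∈ S.K := by
  have hss := mul_self_eq_one_of_orderOf S.hs
  constructor
  · intro hg
    let M : Subgroup G :=
      { carrier := {g | g ∈ S.K ∨ g * S.s ∈ S.K}
        one_mem' := Or.inl S.K.one_mem
        mul_mem' := by
          rintro a b (ha | ha) (hb | hb)
          · exact Or.inl (mul_mem ha hb)
          · exact Or.inr (by rw [mul_assoc]; exact mul_mem ha hb)
          · refine Or.inr ?_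
            have e : a * b * S.s = a * S.s * (S.s * b * S.s⁻¹) := by
              rw [show a * S.s * (S.s * b * S.s⁻¹) = a * (S.s * S.s) * b * S.s⁻¹ by group, hss, mul_one,
                inv_eq_self_of_orderOf S.hs]
            rw [e, S.hinv b hb]
            exact mul_mem ha (inv_mem hb)
          · refine Or.inl ?_
            have e : a * b = a * S.s * (S.s * (b * S.s) * S.s⁻¹) := by
              rw [show a * S.s * (S.s * (b * S.s) * S.s⁻¹) = a * (S.s * S.s) * b by group, hss, mul_one]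
            rw [e, S.hinv _ hb]
            exact mul_mem ha (inv_mem hb)
        inv_mem' := by
          rintro a (ha | ha)
          · exact Or.inl (inv_mem ha)
          · refine Or.inr ?_
            have e : a⁻¹ * S.s⁻¹ = (S.s * (a * S.s) * S.s⁻¹)⁻¹ := by group
            rw [inv_eq_self_of_orderOf S.hs] at e
            rw [e]
            have := S.hinv _ ha
            rw [inv_eq_self_of_orderOf S.hs] at this
            rw [this, inv_inv]
            exact ha }
    have hle : S.K ⊔ Subgroup.zpowers S.s ≤ M :=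
      sup_le (fun x hx => Or.inl hx) (Subgroup.zpowers_le.mpr (Or.inr (by rw [hss]; exact S.K.one_mem)))
    exact hle (S.hH.ge hg)
  · rintro (h | h)
    · exact S.K_le_H h
    · have := mul_mem (S.K_le_H h) (inv_mem S.s_mem_H)
      rwa [mul_inv_cancel_right] at this

theorem inverts {g x : G} (hg : g ∈ S.H) (hgK : g ∉ S.K) (hx : x ∈ S.K) : g * x * g⁻¹ = x⁻¹ := by
  have hy := (S.mem_H_iff.mp hg).resolve_left hgK
  have e : g = g * S.s * S.s⁻¹ := by group
  calc g * x * g⁻¹ = g * S.s * (S.s * x * S.s⁻¹) * (g * S.s)⁻¹ := by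
        rw [inv_eq_self_of_orderOf S.hs, mul_inv_rev, inv_eq_self_of_orderOf S.hs]
        have hss := mul_self_eq_one_of_orderOf S.hs
        simp only [← mul_assoc]
        simp [mul_assoc, ← mul_assoc S.s S.s, hss]
    _ = x⁻¹ := by rw [S.hinv x hx, S.comm _ hy _ (inv_mem hx), mul_inv_cancel_right]

theorem out_invol {g : G} (hg : g ∈ S.H) (hgK : g ∉ S.K) : orderOf g = 2 := by
  have hy := (S.mem_H_iff.mp hg).resolve_left hgK
  refine orderOf_eq_two_iff'.mpr ⟨?_, fun e => hgK (e ▸ S.K.one_mem)⟩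
  have h := S.inverts hg hgK hy
  have h' : g * (g * S.s) * g⁻¹ = S.s * g⁻¹ := by
    rw [S.inverts hg hgK hy, mul_inv_rev, inv_eq_self_of_orderOf S.hs]
  have h'' : g * (g * S.s) = S.s := mul_right_cancel h'
  rw [← mul_assoc] at h''
  exact mul_right_cancel (h''.trans (one_mul S.s).symm)

theorem ti {g x : G} (hx : x ∈ S.K) (hx1 : x ≠ 1) (hg : g * x * g⁻¹ ∈ S.K) : g ∈ S.H := by
  by_contra h
  have : g * x * g⁻¹ ∈ S.K ⊓ S.K.map (MulAut.conj g).toMonoidHom := ⟨hg, ⟨x, hx, rfl⟩⟩
  rw [S.hTI g h, Subgroup.mem_bot] at this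
  exact hx1 (conj_eq_one_iff.mp this)

theorem centralizer_le {x : G} (hx : x ∈ S.K) (hx1 : x ≠ 1) :
    Subgroup.centralizer ({x} : Set G) ≤ S.H := fun g hg => by
  refine S.ti hx hx1 ?_
  rwa [Subgroup.mem_centralizer_singleton_iff.mp hg, mul_inv_cancel_right]

theorem centralizer_eq {x : G} (hx : x ∈ S.K) (hx2 : x * x ≠ 1) :
    Subgroup.centralizer ({x} : Set G) = S.K := by
  refine le_antisymm (fun g hg => ?_) fun g hg => Subgroup.mem_centralizer_singleton_iff.mpr (S.comm _ hg _ hx)
  by_contra hgK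
  have h := S.inverts (S.centralizer_le hx (fun e => hx2 (by simp [e])) hg) hgK hx
  rw [Subgroup.mem_centralizer_singleton_iff.mp hg, mul_inv_cancel_right] at h
  exact hx2 (eq_inv_iff_mul_eq_one.mp h)

theorem sq_one {x : G} (hx : x ∈ S.K) (hx2 : x * x = 1) : x = 1 ∨ x = S.t := by
  have hc : x ∈ Subgroup.centralizer ({S.s} : Set G) := by
    rw [Subgroup.mem_centralizer_singleton_iff, S.mul_s_K hx, inv_eq_of_mul_eq_one_left hx2]
  have hz : x ∈ Subgroup.zpowers S.t := S.hCK.le ⟨hx, hc⟩
  obtain ⟨n, rfl⟩ := Subgroup.mem_zpowers_iff.mp hz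
  have ht2 := mul_self_eq_one_of_orderOf S.ht
  rcases Int.even_or_odd n with ⟨m, rfl⟩ | ⟨m, rfl⟩
  · exact Or.inl (by rw [zpow_add, ← (Commute.refl S.t).mul_zpow, ht2, one_zpow])
  · exact Or.inr (by rw [zpow_add, zpow_one, two_mul, zpow_add, ← (Commute.refl S.t).mul_zpow, ht2, one_zpow, one_mul])

theorem t_comm {g : G} (hg : g ∈ S.H) : g * S.t = S.t * g := Subgroup.mem_centralizer_singleton_iff.mp hg

theorem card_H : Nat.card S.H = 2 * S.k := by
  classical
  have hss := mul_self_eq_one_of_orderOf S.hs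
  have hmem : ∀ g ∈ S.H, g ∉ S.K → g * S.s ∈ S.K := fun g hg h => (S.mem_H_iff.mp hg).resolve_left h
  let e : S.H ≃ S.K ⊕ S.K :=
    { toFun := fun g => if h : (g : G) ∈ S.K then Sum.inl ⟨g, h⟩ else Sum.inr ⟨(g : G) * S.s, hmem g g.2 h⟩
      invFun := Sum.elim (fun x => ⟨x, S.K_le_H x.2⟩) (fun x => ⟨(x : G) * S.s, mul_mem (S.K_le_H x.2) S.s_mem_H⟩)
      left_inv := fun g => by
        by_cases h : (g : G) ∈ S.K
        · simp [h]
        · simp [h, mul_assoc, hss]
      right_inv := fun x => by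
        rcases x with x | x
        · simp
        · have : (x : G) * S.s ∉ S.K := fun h => S.hsK (by simpa using mul_mem (inv_mem x.2) h)
          simp [this, mul_assoc, hss] }
  rw [Nat.card_congr e, Nat.card_sum]
  ring

theorem k_even : 2 ∣ S.k := by
  rw [← S.ht]
  exact Subgroup.orderOf_dvd_natCard _ S.htK

theorem card_G : Nat.card G = 2 * S.k * S.H.index := by
  rw [← S.H.card_mul_index, S.card_H]

theorem card_involutions : Nat.card {x : G // orderOf x = 2} = S.H.index := by
  have h := CfsgLib.CharTheory.card_isConj_mul_card_centralizer (G := G) S.t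
  have e : Nat.card {x : G // IsConj S.t x} = Nat.card {x : G // orderOf x = 2} := by
    refine Nat.card_congr (Equiv.subtypeEquivRight fun x => ⟨fun h => ?_, fun h => S.hconj _ _ S.ht h⟩)
    obtain ⟨c, rfl⟩ := isConj_iff.mp h
    rw [Involutions.orderOf_conj, S.ht]
  rw [e, ← S.H.index_mul_card] at h
  exact Nat.eq_of_mul_eq_mul_right Nat.card_pos h

theorem index_odd : Odd S.H.index := by
  classical
  haveI : Fact (Nat.Prime 2) := ⟨Nat.prime_two⟩
  obtain ⟨P, hP⟩ : ∃ P : Sylow 2 G, S.t ∈ (P : Subgroup G) := by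
    obtain ⟨P, hP⟩ := (IsPGroup.of_card (G := Subgroup.zpowers S.t) (p := 2) (n := 1)
      (by rw [Nat.card_zpowers, S.ht, pow_one])).exists_le_sylow
    exact ⟨P, hP (Subgroup.mem_zpowers _)⟩
  haveI : Nontrivial (P : Subgroup G) := ⟨⟨⟨S.t, hP⟩, 1, fun e => S.t_ne (congrArg Subtype.val e)⟩⟩
  haveI := (P.isPGroup').center_nontrivial
  obtain ⟨z, hz⟩ := exists_prime_orderOf_dvd_card' (G := Subgroup.center (P : Subgroup G)) 2
    (by
      obtain ⟨j, hj⟩ := (P.isPGroup'.to_subgroup (Subgroup.center (P : Subgroup G))).exists_card_eq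
      rcases j with _ | j
      · rw [pow_zero] at hj
        exact absurd hj (ne_of_gt Finite.one_lt_card)
      · rw [hj]; exact dvd_pow_self 2 (by omega))
  have hz2 : orderOf ((z : (P : Subgroup G)) : G) = 2 := by
    rwa [Subgroup.orderOf_coe, Subgroup.orderOf_coe]
  obtain ⟨g, hg⟩ := isConj_iff.mp (S.hconj _ _ hz2 S.ht)
  have hle : ((P : Subgroup G).map (MulAut.conj g).toMonoidHom) ≤ S.H := by
    rintro _ ⟨x, hx, rfl⟩
    rw [Subgroup.mem_centralizer_singleton_iff, ← hg]
    have hc : x * ((z : (P : Subgroup G)) : G) = ((z : (P : Subgroup G)) : G) * x :=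
      congrArg Subtype.val (Subgroup.mem_center_iff.mp z.2 ⟨x, hx⟩)
    generalize ((z : (P : Subgroup G)) : G) = w at hc ⊢
    show g * x * g⁻¹ * (g * w * g⁻¹) = g * w * g⁻¹ * (g * x * g⁻¹)
    calc g * x * g⁻¹ * (g * w * g⁻¹) = g * (x * w) * g⁻¹ := by group
      _ = g * (w * x) * g⁻¹ := by rw [hc]
      _ = _ := by group
  rw [← Nat.not_even_iff_odd, even_iff_two_dvd]
  intro h2
  have hd := h2.trans (Subgroup.index_dvd_of_le hle)
  have he : ((P : Subgroup G).map (MulAut.conj g).toMonoidHom).index = (P : Subgroup G).index :=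
    Subgroup.index_map_equiv (H := (P : Subgroup G)) (MulAut.conj g)
  rw [he] at hd
  exact P.not_dvd_index hd

/-- Two conjugate elements of `K` are equal or inverse. -/
theorem isConj_K {x y : G} (hx : x ∈ S.K) (hy : y ∈ S.K) (hx1 : x ≠ 1) (h : IsConj x y) : y = x ∨ y = x⁻¹ := by
  obtain ⟨g, rfl⟩ := isConj_iff.mp h
  have hg := S.ti hx hx1 hy
  by_cases hgK : g ∈ S.K
  · exact Or.inl (by rw [S.comm _ hgK _ hx, mul_inv_cancel_right])
  · exact Or.inr (S.inverts hg hgK hx)

/-- Exactly `k` involutions `u` have `u y` an involution, for `y ∈ K` nontrivial. -/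
theorem card_inverting {y : G} (hy : y ∈ S.K) (hy1 : y ≠ 1) :
    Nat.card {u : G // orderOf u = 2 ∧ orderOf (u * y) = 2} = S.k := by
  have hss := mul_self_eq_one_of_orderOf S.hs
  have key : ∀ u : G, orderOf u = 2 ∧ orderOf (u * y) = 2 ↔ u ∈ S.H ∧ u ∉ S.K := by
    intro u
    constructor
    · rintro ⟨hu, huy⟩
      have h1 : u * y * u⁻¹ = y⁻¹ := by
        have := mul_self_eq_one_of_orderOf huy
        rw [inv_eq_self_of_orderOf hu]
        exact eq_inv_of_mul_eq_one_left (by rw [mul_assoc (u * y)]; exact this)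
      have huH : u ∈ S.H := S.ti hy hy1 (h1 ▸ inv_mem hy)
      refine ⟨huH, fun huK => ?_⟩
      rw [S.comm _ huK _ hy, mul_inv_cancel_right] at h1
      rcases S.sq_one huK (mul_self_eq_one_of_orderOf hu) with e | e
      · simp [e] at hu
      rcases S.sq_one hy (eq_inv_iff_mul_eq_one.mp h1) with e' | e'
      · exact hy1 e'
      · rw [e, e', mul_self_eq_one_of_orderOf S.ht] at huy
        simp at huy
    · rintro ⟨huH, huK⟩
      refine ⟨S.out_invol huH huK, S.out_invol (mul_mem huH (S.K_le_H hy)) fun h => huK ?_⟩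
      simpa using mul_mem h (inv_mem hy)
  rw [Nat.card_congr (Equiv.subtypeEquivRight key)]
  refine (Nat.card_congr
    { toFun := fun x => ⟨(x : G) * S.s, mul_mem (S.K_le_H x.2) S.s_mem_H,
        fun h => S.hsK (by simpa using mul_mem (inv_mem x.2) h)⟩
      invFun := fun u => ⟨(u : G) * S.s, (S.mem_H_iff.mp u.2.1).resolve_left u.2.2⟩
      left_inv := fun x => Subtype.ext (show (x : G) * S.s * S.s = x by rw [mul_assoc, hss, mul_one])
      right_inv := fun u => Subtype.ext (show (u : G) * S.s * S.s = u by rw [mul_assoc, hss, mul_one]) }).symm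

end Setup

end CfsgLib.BSW
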