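import Cfsg.Agent.Lib.BSW.Struct

/-!
The Brauer–Suzuki–Wall configuration with `K` of order two.
-/

set_option autoImplicit false
set_option linter.unusedSectionVars false

namespace CfsgLib.BSW

open Cfsg CfsgLib.CharTheory
open scoped ComplexConjugate Classical

universe u

variable {G : Type u} [Group G] [Fintype G]

namespace Setup

variable (S : Setup G)

noncomputable local instance : Fintype S.K := Fintype.ofFinite _
noncomputable local instance : Fintype S.H := Fintype.ofFinite _

theorem K_two (hk : S.k = 2) (x : S.K) : x = 1 ∨ x = S.tK := by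
  by_contra h
  push Not at h
  have h3 : ({1, S.tK, x} : Finset S.K).card ≤ Fintype.card S.K := Finset.card_le_univ _
  rw [← Nat.card_eq_fintype_card, show Nat.card S.K = 2 from hk, Finset.card_insert_of_notMem (by simp [S.tK_ne.symm, h.1.symm]),
    Finset.card_pair h.2.symm] at h3
  omega

/-- The order of `G` when `K` has order two. -/
theorem index_two (hk : S.k = 2) : S.H.index = 3 ∨ S.H.index = 15 := by
  obtain ⟨σ, hσ, hσb, -⟩ := S.exists_sigma
  have hcL : Fintype.card S.L = 2 := S.card_L.trans hk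
  have hL : ∀ l : S.L, l = S.one ∨ l = σ := by
    intro l
    by_contra h
    push Not at h
    have h3 : ({S.one, σ, l} : Finset S.L).card ≤ Fintype.card S.L := Finset.card_le_univ _
    rw [hcL, Finset.card_insert_of_notMem (by simp [hσ.symm, h.1.symm]), Finset.card_pair h.2.symm] at h3
    omega
  have hun : (Finset.univ : Finset S.L) = {S.one, σ} := by ext l; simpa using hL l
  have hst : (σ : S.K → ℂ) S.tK = -1 := by
    have h := S.sum_lam S.tK_ne
    rw [hun, Finset.sum_pair hσ.symm] at h
    simp only [Setup.one] at h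
    linear_combination h
  have hsum := S.sum_coef_mul hσ hσ
  rw [if_pos rfl, if_pos hσb.symm] at hsum
  obtain ⟨hb, hc⟩ := Setup.small _ (S.coef σ) (n := 3) le_rfl (by rw [hsum]; norm_num)
  obtain ⟨u, v, w, huv, huw, hvw, hs⟩ := Finset.card_eq_three.mp hc
  have hin : ∀ χ, χ = u ∨ χ = v ∨ χ = w → χ ≠ oneG ∧ (S.coef σ χ = 1 ∨ S.coef σ χ = -1) := by
    intro χ h
    have : χ ∈ ({u, v, w} : Finset _) := by simpa using h
    obtain ⟨h1, h2⟩ := Finset.mem_filter.mp (hs ▸ this)
    exact ⟨(Finset.mem_erase.mp h1).1, hb χ h1 h2⟩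
  have hrest : ∀ χ, χ ≠ oneG → χ ≠ u → χ ≠ v → χ ≠ w → S.coef σ χ = 0 := by
    intro χ h1 h2 h3 h4
    by_contra h5
    have : χ ∈ ({u, v, w} : Finset _) :=
      hs ▸ Finset.mem_filter.mpr ⟨Finset.mem_erase.mpr ⟨h1, Finset.mem_univ _⟩, h5⟩
    simp [h2, h3, h4] at this
  have hval : ∀ χ : IrrCharacter G, (χ : G → ℂ) S.t = (S.coef σ χ : ℂ) := by
    intro χ
    rw [show S.t = ((S.tK : S.K) : G) from rfl, S.apply_K χ S.tK_ne, hun, Finset.sum_pair hσ.symm, S.coef_one, hst,
      Int.cast_zero, zero_mul, zero_add, mul_neg_one, neg_neg]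
  have hKun : (Finset.univ : Finset S.K) = {1, S.tK} := by ext x; simpa using S.K_two hk x
  -- congruence modulo four
  have hmod : ∀ χ, χ = u ∨ χ = v ∨ χ = w → ∃ a : ℤ, S.coef σ χ * dg χ = 4 * a + 1 := by
    intro χ hχ
    obtain ⟨N, hN⟩ := classInner_char_nat (isCharacter_restrict (isCharacter_of_irr χ.2) S.H) (isCharacter_one (G := S.H))
    rw [classInner, inv_mul_eq_iff_eq_mul₀ (Nat.cast_ne_zero.mpr Nat.card_pos.ne'), Core.sum_H, S.card_H, hk] at hN
    simp only [map_one, mul_one] at hN
    have hcl : ∀ g : G, orderOf g = 2 → (χ : G → ℂ) g = (S.coef σ χ : ℂ) := fun g hg => by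
      rw [← hval χ]
      exact ((isClassFunction_iff_isConj.mp (isClassFunction_irr χ.2)) _ _ (S.hconj _ _ S.ht hg)).symm
    have hts : orderOf ((S.tK : G) * S.s) = 2 :=
      S.out_invol (mul_mem (S.K_le_H S.tK.2) S.s_mem_H) fun h => S.hsK (by simpa using mul_mem (inv_mem S.tK.2) h)
    rw [hKun, Finset.sum_pair S.tK_ne.symm, Finset.sum_pair S.tK_ne.symm] at hN
    simp only [Subgroup.coe_one, one_mul] at hN
    rw [dg_spec, hcl _ S.hs, hcl _ hts, show ((S.tK : S.K) : G) = S.t from rfl, hval] at hN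
    have e : dg χ + S.coef σ χ + (S.coef σ χ + S.coef σ χ) = 4 * (N : ℤ) := by
      have : (dg χ : ℂ) + S.coef σ χ + (S.coef σ χ + S.coef σ χ) = 4 * (N : ℂ) := by
        push_cast at hN
        linear_combination hN
      exact_mod_cast this
    rcases (hin χ hχ).2 with h | h <;> rw [h] at e ⊢
    · exact ⟨(N : ℤ) - 1, by linear_combination e⟩
    · exact ⟨-(N : ℤ) - 1, by linear_combination -e⟩
  obtain ⟨hu1, hu⟩ := hin u (Or.inl rfl)
  obtain ⟨hv1, hv⟩ := hin v (Or.inr (Or.inl rfl))
  obtain ⟨hw1, hw⟩ := hin w (Or.inr (Or.inr rfl))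
  obtain ⟨a, ha⟩ := hmod u (Or.inl rfl)
  obtain ⟨b, hb'⟩ := hmod v (Or.inr (Or.inl rfl))
  obtain ⟨c, hc'⟩ := hmod w (Or.inr (Or.inr rfl))
  -- the sum of degrees
  have hd := S.sum_coef_dg σ
  rw [← Finset.sum_subset (Finset.subset_univ ({oneG, u, v, w} : Finset (IrrCharacter G))) fun χ _ hχ => by
    simp only [Finset.mem_insert, Finset.mem_singleton, not_or] at hχ
    rw [hrest χ hχ.1 hχ.2.1 hχ.2.2.1 hχ.2.2.2, zero_mul],
    Finset.sum_insert (by simp [hu1.symm, hv1.symm, hw1.symm]), Finset.sum_insert (by simp [huv, huw]),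
    Finset.sum_pair hvw, S.coef_oneG hσ, dg_oneG, ha, hb', hc'] at hd
  -- counting involutions
  have hinv : ∀ χ, χ = u ∨ χ = v ∨ χ = w →
      (S.coef σ χ : ℂ) * ((χ : G → ℂ) S.t) ^ 2 / (χ : G → ℂ) 1 = 1 / ((S.coef σ χ * dg χ : ℤ) : ℂ) := by
    intro χ hχ
    rw [hval, dg_spec]
    push_cast
    rcases (hin χ hχ).2 with h | h <;> rw [h] <;> push_cast <;> ring
  have hI := S.invol_eq hσ
  rw [← Finset.sum_subset (Finset.subset_univ ({oneG, u, v, w} : Finset (IrrCharacter G))) fun χ _ hχ => by
    simp only [Finset.mem_insert, Finset.mem_singleton, not_or] at hχ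
    rw [hrest χ hχ.1 hχ.2.1 hχ.2.2.1 hχ.2.2.2, Int.cast_zero, zero_mul, zero_div],
    Finset.sum_insert (by simp [hu1.symm, hv1.symm, hw1.symm]), Finset.sum_insert (by simp [huv, huw]),
    Finset.sum_pair hvw, hinv u (Or.inl rfl), hinv v (Or.inr (Or.inl rfl)), hinv w (Or.inr (Or.inr rfl)),
    ha, hb', hc', S.coef_oneG hσ, hk] at hI
  simp only [oneG, Int.cast_one, one_pow, mul_one, div_one] at hI
  have hq : (S.H.index : ℚ) * (1 + (1 / ((4 * a + 1 : ℤ) : ℚ) + (1 / ((4 * b + 1 : ℤ) : ℚ) + 1 / ((4 * c + 1 : ℤ) : ℚ)))) = 8 := by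
    have : (((S.H.index : ℚ) * (1 + (1 / ((4 * a + 1 : ℤ) : ℚ) + (1 / ((4 * b + 1 : ℤ) : ℚ) + 1 / ((4 * c + 1 : ℤ) : ℚ)))) : ℚ) : ℂ) = ((8 : ℚ) : ℂ) := by
      push_cast
      push_cast at hI
      linear_combination -hI
    exact_mod_cast this
  have hlo : ∀ x : ℤ, (-1 / 3 : ℚ) ≤ 1 / ((4 * x + 1 : ℤ) : ℚ) ∧ (0 ≤ x → 0 < 1 / ((4 * x + 1 : ℤ) : ℚ)) := by
    intro x
    by_cases hx : 0 ≤ x
    · have h1 : (0 : ℚ) < ((4 * x + 1 : ℤ) : ℚ) := by exact_mod_cast (show (0 : ℤ) < 4 * x + 1 by omega)
      exact ⟨le_of_lt (lt_trans (by norm_num) (one_div_pos.mpr h1)), fun _ => one_div_pos.mpr h1⟩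
    · have h1 : ((4 * x + 1 : ℤ) : ℚ) ≤ -3 := by exact_mod_cast (show 4 * x + 1 ≤ (-3 : ℤ) by omega)
      refine ⟨?_, fun h => absurd h hx⟩
      rw [le_div_iff_of_neg (by linarith)]
      linarith
  have hi : S.H.index ≤ 24 := by
    obtain ⟨l1, p1⟩ := hlo a
    obtain ⟨l2, p2⟩ := hlo b
    obtain ⟨l3, p3⟩ := hlo c
    have hs3 : (1 / 3 : ℚ) < 1 + (1 / ((4 * a + 1 : ℤ) : ℚ) + (1 / ((4 * b + 1 : ℤ) : ℚ) + 1 / ((4 * c + 1 : ℤ) : ℚ))) := by
      rcases (show 0 ≤ a ∨ 0 ≤ b ∨ 0 ≤ c ∨ (a < 0 ∧ b < 0 ∧ c < 0) by omega) with h | h | h | ⟨x, y, z⟩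
      · linarith [p1 h]
      · linarith [p2 h]
      · linarith [p3 h]
      · omega
    have h24 : (S.H.index : ℚ) ≤ 24 := by
      have hi0 : (0 : ℚ) ≤ S.H.index := Nat.cast_nonneg _
      have := mul_le_mul_of_nonneg_left hs3.le hi0
      linarith
    exact_mod_cast h24
  have hG : (Nat.card G : ℤ) = 4 * (S.H.index : ℤ) := by rw [S.card_G, hk]; push_cast; ring
  have hbound : ∀ χ x, χ = u ∨ χ = v ∨ χ = w → S.coef σ χ * dg χ = 4 * x + 1 → -2 ≤ x ∧ x ≤ 2 := by
    intro χ x hχ hx
    have h := dg_sq_le χ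
    rw [hG] at h
    have hsq : (4 * x + 1) * (4 * x + 1) ≤ 96 := by
      rw [← hx]
      rcases (hin χ hχ).2 with e | e <;> rw [e] <;>
        (have : (S.H.index : ℤ) ≤ 24 := by exact_mod_cast hi) <;> linarith
    constructor <;> nlinarith
  obtain ⟨a1, a2⟩ := hbound u a (Or.inl rfl) ha
  obtain ⟨b1, b2⟩ := hbound v b (Or.inr (Or.inl rfl)) hb'
  obtain ⟨c1, c2⟩ := hbound w c (Or.inr (Or.inr rfl)) hc'
  have hca : c = -1 - a - b := by omega
  subst hca
  interval_cases a <;> interval_cases b <;>
    first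
      | omega
      | (norm_num at hq
         done)
      | (norm_num at hq
         first
          | (left; have e : (S.H.index : ℚ) = 3 := (by linarith); exact_mod_cast e)
          | (right; have e : (S.H.index : ℚ) = 15 := (by linarith); exact_mod_cast e)
          | (exfalso
             field_simp at hq
             norm_num at hq
             norm_cast at hq
             omega))

/-- An element of odd order inverted by both `t` and `s` is trivial. -/
theorem two_inverters {x : G} (hx : Odd (orderOf x)) (h1 : S.t * x * S.t⁻¹ = x⁻¹) (h2 : S.s * x * S.s⁻¹ = x⁻¹)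
    (h3 : S.t * S.s * x * (S.t * S.s)⁻¹ = x⁻¹) : x = 1 := by
  have h : S.t * S.s * x * (S.t * S.s)⁻¹ = x := by
    rw [show S.t * S.s * x * (S.t * S.s)⁻¹ = S.t * (S.s * x * S.s⁻¹) * S.t⁻¹ by group, h2,
      show S.t * x⁻¹ * S.t⁻¹ = (S.t * x * S.t⁻¹)⁻¹ by group, h1, inv_inv]
  rw [h3] at h
  have hsq : x ^ 2 = 1 := by rw [pow_two]; exact inv_eq_self_iff_mul_eq_one' h
  have := orderOf_dvd_of_pow_eq_one hsq
  rcases (Nat.dvd_prime Nat.prime_two).mp this with e | e
  · exact orderOf_eq_one_iff.mp e
  · rw [e] at hx; exact absurd hx (by decide)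
where
  inv_eq_self_iff_mul_eq_one' {x : G} (h : x⁻¹ = x) : x * x = 1 := by
    nth_rewrite 1 [← h]
    exact inv_mul_cancel x

theorem concl_two (hk : S.k = 2) : Concl G := by
  have hH4 : ∀ v : G, orderOf v = 2 → Nat.card (Subgroup.centralizer ({v} : Set G)) = 4 := by
    intro v hv
    obtain ⟨c, rfl⟩ := isConj_iff.mp (S.hconj _ _ S.ht hv)
    rw [centralizer_conj_eq, Subgroup.card_map_of_injective (MulAut.conj c).injective,
      show Nat.card (Subgroup.centralizer ({S.t} : Set G)) = 4 by rw [← show 2 * S.k = 4 by omega]; exact S.card_H]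
  have htH : S.t ∈ S.H := S.K_le_H S.htK
  have hts : orderOf (S.t * S.s) = 2 :=
    S.out_invol (mul_mem htH S.s_mem_H) fun h => S.hsK (by simpa using mul_mem (inv_mem S.htK) h)
  -- the subgroup of prime order
  have main : ∀ (r : ℕ), r.Prime → (r = 3 ∨ r = 5) → Nat.card G = 4 * (if r = 3 then 3 else 15) →
      Concl G := by
    intro r hr h35 hG
    haveI : Fact r.Prime := ⟨hr⟩
    have hrG : r ∣ Nat.card G := by rcases h35 with rfl | rfl <;> rw [hG] <;> norm_num
    obtain ⟨x, hx⟩ := exists_prime_orderOf_dvd_card' (G := G) r hrG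
    set Q := Subgroup.zpowers x with hQ
    have hQc : Nat.card Q = r := by rw [hQ, Nat.card_zpowers, hx]
    have hodd : ∀ y ∈ Q, y ≠ 1 → orderOf y = r := fun y hy hy1 =>
      (Nat.dvd_prime hr).mp (hQc ▸ Subgroup.orderOf_dvd_natCard _ hy) |>.resolve_left
        fun e => hy1 (orderOf_eq_one_iff.mp e)
    have hrodd : Odd r := by rcases h35 with rfl | rfl <;> decide
    -- no involution centralises a nontrivial element of `Q`
    have hnofix : ∀ v y : G, orderOf v = 2 → y ∈ Q → y ≠ 1 → v * y * v⁻¹ ≠ y := by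
      intro v y hv hy hy1 he
      have hmem : y ∈ Subgroup.centralizer ({v} : Set G) :=
        Subgroup.mem_centralizer_singleton_iff.mpr (mul_inv_eq_iff_eq_mul.mp he).symm
      have := Subgroup.orderOf_dvd_natCard _ hmem
      rw [hodd y hy hy1, hH4 v hv] at this
      rcases h35 with rfl | rfl <;> norm_num at this
    have hinv : ∀ v : G, orderOf v = 2 → v ∈ Subgroup.normalizer (Q : Set G) → ∀ y ∈ Q, v * y * v⁻¹ = y⁻¹ :=
      fun v hv hvN => invert_of_fpf hv hvN fun y hy he => by
        by_contra hy1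
        exact hnofix v y hv hy hy1 he
    -- `H` does not normalise `Q`
    have hHN : ¬ S.H ≤ Subgroup.normalizer (Q : Set G) := by
      intro hle
      have hxQ : x ∈ Q := Subgroup.mem_zpowers x
      have hx1 : x = 1 := S.two_inverters (hx ▸ hrodd) (hinv _ S.ht (hle htH) x hxQ)
        (hinv _ S.hs (hle S.s_mem_H) x hxQ) (hinv _ hts (hle (mul_mem htH S.s_mem_H)) x hxQ)
      rw [hx1, orderOf_one] at hx
      exact hr.one_lt.ne hx
    have hcent : ∀ y ∈ Q, y ≠ 1 → Odd (Nat.card (Subgroup.centralizer ({y} : Set G))) ∧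
        Q ≤ Subgroup.centralizer ({y} : Set G) ∧
        Subgroup.centralizer ({y} : Set G) ≤ Subgroup.normalizer (Q : Set G) := by
      intro y hy hy1
      have hzy : Subgroup.zpowers y = Q :=
        Subgroup.eq_of_le_of_card_ge (Subgroup.zpowers_le.mpr hy) (le_of_eq (by rw [hQc, Nat.card_zpowers, hodd y hy hy1]))
      refine ⟨?_, ?_, ?_⟩
      · rw [← Nat.not_even_iff_odd, even_iff_two_dvd]
        intro h2
        obtain ⟨⟨v, hv⟩, hvo⟩ := exists_prime_orderOf_dvd_card' (hp := ⟨Nat.prime_two⟩) 2 h2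
        rw [Subgroup.orderOf_mk] at hvo
        exact hnofix v y hvo hy hy1 (by rw [Subgroup.mem_centralizer_singleton_iff.mp hv, mul_inv_cancel_right])
      · rw [← hzy]
        exact Subgroup.zpowers_le.mpr (Subgroup.mem_centralizer_singleton_iff.mpr rfl)
      · intro g hg
        have he : g * y * g⁻¹ = y := by rw [Subgroup.mem_centralizer_singleton_iff.mp hg, mul_inv_cancel_right]
        rw [← hzy, Subgroup.mem_normalizer_iff]
        intro w
        simp only [Subgroup.mem_zpowers_iff]
        constructor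
        · rintro ⟨n, rfl⟩; exact ⟨n, by rw [← conj_zpow, he]⟩
        · rintro ⟨n, hn⟩
          refine ⟨n, ?_⟩
          rw [← he, conj_zpow] at hn
          exact mul_left_cancel (mul_right_cancel hn)
    set N := Subgroup.normalizer (Q : Set G) with hN
    have hQN : Q ≤ N := Subgroup.le_normalizer
    rcases h35 with rfl | rfl
    · -- order twelve
      have hG12 : Nat.card G = 12 := by rw [hG]; norm_num
      have hN3 : Nat.card N = 3 := by
        have h1 : 3 ∣ Nat.card N := hQc ▸ Subgroup.card_dvd_of_le hQN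
        have h2 : Nat.card N ∣ 12 := hG12 ▸ Subgroup.card_subgroup_dvd_card N
        have h3 := Nat.le_of_dvd (by norm_num) h2
        have h4 := Nat.card_pos (α := N)
        by_contra hne
        rcases (show Nat.card N = 6 ∨ Nat.card N = 12 ∨ Nat.card N = 9 by omega) with h | h | h
        · -- a subgroup of index two contains all squares and all involutions
          have hi : N.index = 2 := by
            have := N.index_mul_card
            rw [h, hG12] at this
            omega
          haveI := Subgroup.normal_of_index_eq_two hi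
          obtain ⟨⟨v, hv⟩, hvo⟩ := exists_prime_orderOf_dvd_card' (hp := ⟨Nat.prime_two⟩) (G := N) 2 (by rw [h]; norm_num)
          rw [Subgroup.orderOf_mk] at hvo
          have hall : ∀ w : G, orderOf w = 2 → w ∈ N := fun w hw => by
            obtain ⟨c, rfl⟩ := isConj_iff.mp (S.hconj _ _ hvo hw)
            exact Subgroup.Normal.conj_mem inferInstance v hv c
          refine hHN fun g hg => ?_
          by_cases hgK : g ∈ S.K
          · rcases S.K_two hk ⟨g, hgK⟩ with e | e
            · rw [show g = 1 from congrArg Subtype.val e]; exact one_mem _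
            · rw [show g = S.t from congrArg Subtype.val e]; exact hall _ S.ht
          · exact hall _ (S.out_invol hg hgK)
        · exact hHN fun g _ => (Subgroup.card_eq_iff_eq_top N).mp (h.trans hG12.symm) ▸ Subgroup.mem_top g
        · rw [h] at h2; norm_num at h2
      have hNQ : N = Q := (Subgroup.eq_of_le_of_card_ge hQN (by rw [hN3, hQc])).symm
      refine ⟨Q, ⊥, by rw [hG12, hQc], fun y hy hy1 => ?_, ⟨⟨fun a b => Subsingleton.elim _ _⟩⟩, ?_, inf_bot_eq _, ?_, ?_⟩
      · obtain ⟨-, h1, h2⟩ := hcent y hy hy1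
        exact le_antisymm (hNQ ▸ h2) h1
      · rw [Subgroup.card_bot, hQc]
      · rw [sup_bot_eq]; exact hNQ
      · exact fun X hX hX1 => absurd (le_bot_iff.mp hX) hX1
    · -- order sixty
      have hG60 : Nat.card G = 60 := by rw [hG]; norm_num
      have hQp : IsPGroup 5 Q := IsPGroup.of_card (n := 1) (by rw [hQc, pow_one])
      have hQi : ¬ 5 ∣ Q.index := by
        have := Q.index_mul_card
        rw [hQc, hG60] at this
        omega
      let P : Sylow 5 G := hQp.toSylow hQi
      have hn : Nat.card (Sylow 5 G) = N.index := by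
        rw [P.card_eq_index_normalizer]
        rfl
      have h1 := card_sylow_modEq_one 5 G
      have h2 : Nat.card (Sylow 5 G) ∣ Q.index := P.card_dvd_index
      have hQ12 : Q.index = 12 := by
        have := Q.index_mul_card
        rw [hQc, hG60] at this
        omega
      rw [hn, hQ12] at h2
      rw [hn] at h1
      have hi6 : N.index = 6 := by
        have hle := Nat.le_of_dvd (by norm_num) h2
        have hne : N.index ≠ 1 := fun e => hHN fun g _ => Subgroup.index_eq_one.mp e ▸ Subgroup.mem_top g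
        unfold Nat.ModEq at h1
        interval_cases hm : N.index <;> omega
      have hN10 : Nat.card N = 10 := by
        have := N.index_mul_card
        rw [hi6, hG60] at this
        omega
      have hQC : ∀ y ∈ Q, y ≠ 1 → Subgroup.centralizer ({y} : Set G) = Q := by
        intro y hy hy1
        obtain ⟨ho, h1, h2⟩ := hcent y hy hy1
        refine (Subgroup.eq_of_le_of_card_ge h1 ?_).symm
        have hd := Subgroup.card_dvd_of_le h2
        have hd' := Subgroup.card_dvd_of_le h1
        rw [hN10] at hd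
        rw [hQc] at hd' ⊢
        obtain ⟨m, hm⟩ := ho
        have := Nat.le_of_dvd (by norm_num) hd
        omega
      obtain ⟨⟨v, hvN⟩, hv⟩ := exists_prime_orderOf_dvd_card' (hp := ⟨Nat.prime_two⟩) (G := N) 2 (by rw [hN10]; norm_num)
      rw [Subgroup.orderOf_mk] at hv
      set D := Subgroup.zpowers v with hD
      have hDc : Nat.card D = 2 := by rw [hD, Nat.card_zpowers, hv]
      have hinf : Q ⊓ D = ⊥ := by
        apply Subgroup.inf_eq_bot_of_coprime
        rw [hQc, hDc]
        norm_num
      refine ⟨Q, D, by rw [hG60, hQc], hQC, inferInstance, by rw [hDc, hQc], hinf, ?_, fun X hX hX1 => ?_⟩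
      · have hle : Q ⊔ D ≤ N := sup_le hQN (Subgroup.zpowers_le.mpr hvN)
        refine (Subgroup.eq_of_le_of_card_ge hle ?_).symm
        have d1 : 5 ∣ Nat.card (Q ⊔ D : Subgroup G) := hQc ▸ Subgroup.card_dvd_of_le le_sup_left
        have d2 : 2 ∣ Nat.card (Q ⊔ D : Subgroup G) := hDc ▸ Subgroup.card_dvd_of_le le_sup_right
        rw [hN10]
        exact Nat.le_of_dvd Nat.card_pos ((show Nat.Coprime 2 5 by norm_num).mul_dvd_of_dvd_of_dvd d2 d1)
      have hXD : X = D := by
        refine Subgroup.eq_of_le_of_card_ge hX ?_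
        have h1 := Subgroup.card_dvd_of_le hX
        rw [hDc] at h1 ⊢
        rcases (Nat.dvd_prime Nat.prime_two).mp h1 with e | e
        · exact absurd (Subgroup.eq_bot_of_card_eq X e) hX1
        · omega
      have hNC : Subgroup.normalizer (D : Set G) = Subgroup.centralizer ({v} : Set G) := by
        ext g
        rw [Subgroup.mem_normalizer_iff, Subgroup.mem_centralizer_singleton_iff]
        have hmem : ∀ w : G, w ∈ D ↔ w = 1 ∨ w = v := by
          intro w
          constructor
          · intro hw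
            obtain ⟨n, rfl⟩ := Subgroup.mem_zpowers_iff.mp hw
            rcases Int.even_or_odd n with ⟨m, rfl⟩ | ⟨m, rfl⟩
            · exact Or.inl (by rw [zpow_add, ← (Commute.refl v).mul_zpow, Involutions.mul_self_eq_one_of_orderOf hv, one_zpow])
            · exact Or.inr (by rw [zpow_add, zpow_one, two_mul, zpow_add, ← (Commute.refl v).mul_zpow,
                Involutions.mul_self_eq_one_of_orderOf hv, one_zpow, one_mul])
          · rintro (rfl | rfl)
            · exact one_mem _
            · exact Subgroup.mem_zpowers _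
        constructor
        · intro h
          have := (h v).mp ((hmem v).mpr (Or.inr rfl))
          rcases (hmem _).mp this with e | e
          · rw [conj_eq_one_iff] at e
            rw [e, orderOf_one] at hv
            norm_num at hv
          · exact mul_inv_eq_iff_eq_mul.mp e
        · intro h w
          have hv' : g * v * g⁻¹ = v := by rw [h, mul_inv_cancel_right]
          rw [hmem, hmem]
          constructor
          · rintro (rfl | rfl)
            · exact Or.inl (by group)
            · exact Or.inr hv'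
          · rintro (e | e)
            · exact Or.inl (conj_eq_one_iff.mp e)
            · exact Or.inr (mul_left_cancel (mul_right_cancel (e.trans hv'.symm)))
      obtain ⟨c, hc⟩ := isConj_iff.mp (S.hconj _ _ S.ht hv)
      have huv : c * S.s * c⁻¹ ∉ D := by
        intro h
        obtain ⟨n, hn⟩ := Subgroup.mem_zpowers_iff.mp h
        rw [← hc, conj_zpow] at hn
        exact S.hsK ((mul_left_cancel (mul_right_cancel hn)) ▸ zpow_mem S.htK n)
      refine ⟨by rw [hXD], c * S.s * c⁻¹, by rw [Involutions.orderOf_conj, S.hs], huv, ?_, ?_⟩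
      · intro d hd
        obtain ⟨n, rfl⟩ := Subgroup.mem_zpowers_iff.mp hd
        have hcomm : Commute (c * S.s * c⁻¹) v := by
          rw [← hc]
          show _ * _ = _ * _
          rw [show c * S.s * c⁻¹ * (c * S.t * c⁻¹) = c * (S.s * S.t) * c⁻¹ by group, S.t_comm S.s_mem_H]
          group
        rw [(hcomm.zpow_right n).eq, mul_inv_cancel_right, ← inv_zpow, Involutions.inv_eq_self_of_orderOf hv]
      · rw [hNC]
        have hle : D ⊔ Subgroup.zpowers (c * S.s * c⁻¹) ≤ Subgroup.centralizer ({v} : Set G) := by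
          refine sup_le (Subgroup.zpowers_le.mpr (Subgroup.mem_centralizer_singleton_iff.mpr rfl))
            (Subgroup.zpowers_le.mpr ?_)
          rw [← hc, centralizer_conj_eq]
          exact ⟨S.s, S.s_mem_H, rfl⟩
        refine (Subgroup.eq_of_le_of_card_ge hle ?_).symm
        rw [hH4 v hv]
        by_contra hlt
        push Not at hlt
        have h1 : 2 ∣ Nat.card (D ⊔ Subgroup.zpowers (c * S.s * c⁻¹) : Subgroup G) :=
          hDc ▸ Subgroup.card_dvd_of_le le_sup_left
        have h2 := Nat.le_of_dvd Nat.card_pos h1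
        have heq : D = D ⊔ Subgroup.zpowers (c * S.s * c⁻¹) :=
          Subgroup.eq_of_le_of_card_ge le_sup_left (by rw [hDc]; omega)
        exact huv (heq ▸ Subgroup.mem_sup_right (Subgroup.mem_zpowers _))
  have hGi : Nat.card G = 4 * S.H.index := by rw [S.card_G, hk]
  rcases S.index_two hk with h | h
  · exact main 3 Nat.prime_three (Or.inl rfl) (by rw [hGi, h]; rfl)
  · exact main 5 (by norm_num) (Or.inr rfl) (by rw [hGi, h]; rfl)

/-- The theorem. -/
theorem conclusion (S : Setup G) : Concl G := by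
  rcases Nat.lt_or_ge S.k 4 with h | h
  · refine S.concl_two ?_
    obtain ⟨c, hc⟩ := S.k_even
    have : 0 < S.k := Nat.card_pos
    omega
  · obtain ⟨C⟩ := exists_core S h
    exact C.concl

end Setup

end CfsgLib.BSW
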