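import Cfsg.Agent.Lib.BSW.Counts
import Cfsg.Agent.Lib.BSW.GroupLemmas
import Mathlib.GroupTheory.FixedPointFree

/-!
The Brauer–Suzuki–Wall configuration: the subgroups `Q` and `D`.
-/

set_option autoImplicit false
set_option linter.unusedSectionVars false

namespace CfsgLib.BSW

open Cfsg CfsgLib.CharTheory
open scoped ComplexConjugate Classical

universe u

variable {G : Type u} [Group G] [Fintype G]

/-- The conclusion of the theorem. -/
def Concl (G : Type u) [Group G] : Prop :=
  ∃ Q D : Subgroup G, 2 * Nat.card G = Nat.card Q * (Nat.card Q + 1) * (Nat.card Q - 1) ∧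
    (∀ x ∈ Q, x ≠ 1 → Subgroup.centralizer ({x} : Set G) = Q) ∧
    IsMulCommutative D ∧ 2 * Nat.card D + 1 = Nat.card Q ∧ Q ⊓ D = ⊥ ∧
    Subgroup.normalizer (Q : Set G) = Q ⊔ D ∧
    ∀ X : Subgroup G, X ≤ D → X ≠ ⊥ →
      Subgroup.normalizer (X : Set G) = Subgroup.normalizer (D : Set G) ∧
      ∃ u : G, orderOf u = 2 ∧ u ∉ D ∧ (∀ d ∈ D, u * d * u⁻¹ = d⁻¹) ∧
        Subgroup.normalizer (D : Set G) = D ⊔ Subgroup.zpowers u

/-- An involution acting without fixed points inverts. -/
theorem invert_of_fpf {A : Subgroup G} {u : G} (hu : orderOf u = 2) (hN : u ∈ Subgroup.normalizer (A : Set G))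
    (hf : ∀ x ∈ A, u * x * u⁻¹ = x → x = 1) : ∀ x ∈ A, u * x * u⁻¹ = x⁻¹ := by
  have hu2 := Involutions.mul_self_eq_one_of_orderOf hu
  let φ : A →* A :=
    { toFun := fun x => ⟨u * (x : G) * u⁻¹, (Subgroup.mem_normalizer_iff.mp hN x).mp x.2⟩
      map_one' := Subtype.ext (by simp)
      map_mul' := fun x y => Subtype.ext (show u * ((x : G) * y) * u⁻¹ = u * x * u⁻¹ * (u * y * u⁻¹) by group) }
  have h := MonoidHom.FixedPointFree.coe_eq_inv_of_involutive (φ := φ)
    (fun x hx => Subtype.ext (hf x x.2 (congrArg Subtype.val hx)))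
    (fun x => Subtype.ext (show u * (u * (x : G) * u⁻¹) * u⁻¹ = x by
      rw [show u * (u * (x : G) * u⁻¹) * u⁻¹ = (u * u) * x * (u * u)⁻¹ by group, hu2]
      group))
  exact fun x hx => congrArg Subtype.val (congrFun h ⟨x, hx⟩)

namespace Core

variable {S : Setup G} (C : Core S)

noncomputable local instance : Fintype S.K := Fintype.ofFinite _

/-- Distinct conjugates of a centraliser do not fit into the factorisations. -/
theorem normalizes {z x : G} (hz : C.InS1 z) (hx : x ∈ Subgroup.centralizer ({z} : Set G)) (hx1 : x ≠ 1)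
    (hne : Subgroup.centralizer ({x} : Set G) ≠ Subgroup.centralizer ({z} : Set G)) :
    Subgroup.centralizer ({x} : Set G) ≤ Subgroup.normalizer ((Subgroup.centralizer ({z} : Set G)) : Set G) := by
  intro h hh
  set R := Subgroup.centralizer ({z} : Set G) with hR
  set D := Subgroup.centralizer ({x} : Set G) with hD
  by_contra hN
  have hxS : C.InS1 x := C.same_S1 hz (Subgroup.mem_centralizer_singleton_iff.mp hx) hx1
  set R' := R.map (MulAut.conj h).toMonoidHom with hR'
  have hRR' : R' ≠ R := by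
    intro e
    refine hN (Subgroup.mem_normalizer_iff.mpr fun y => ⟨fun hy => e ▸ ⟨y, hy, rfl⟩, fun hy => ?_⟩)
    obtain ⟨w, hw, hwe⟩ := e.ge hy
    simp only [MulEquiv.coe_toMonoidHom, MulAut.conj_apply] at hwe
    rwa [← mul_left_cancel (mul_right_cancel hwe)]
  have hxR' : x ∈ R' := by
    refine ⟨x, hx, ?_⟩
    simp only [MulEquiv.coe_toMonoidHom, MulAut.conj_apply]
    rw [Subgroup.mem_centralizer_singleton_iff.mp hh, mul_inv_cancel_right]
  have hz' : R' = Subgroup.centralizer ({h * z * h⁻¹} : Set G) := (centralizer_conj_eq h z).symm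
  have hRcomm : ∀ y ∈ R, y ≠ 1 → C.InS1 y := fun y hy hy1 =>
    C.same_S1 hz (Subgroup.mem_centralizer_singleton_iff.mp hy) hy1
  have hRcomm' : ∀ y ∈ R', y ≠ 1 → C.InS1 y := fun y hy hy1 =>
    C.same_S1 (C.S1_conj hz h) (Subgroup.mem_centralizer_singleton_iff.mp (hz' ▸ hy)) hy1
  have hDcomm : ∀ y ∈ D, y ≠ 1 → C.InS1 y := fun y hy hy1 =>
    C.same_S1 hxS (Subgroup.mem_centralizer_singleton_iff.mp hy) hy1
  set fs : Subgroup G → Finset G := fun A => Finset.univ.filter fun y => y ∈ A with hfs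
  have hcard : ∀ A : Subgroup G, (fs A).card = Nat.card A := fun A => by
    rw [Nat.card_eq_fintype_card, Fintype.card_subtype]
  have hmem : ∀ (A : Subgroup G) (y : G), y ∈ fs A ↔ y ∈ A := fun A y => by simp [hfs]
  set P := C.S1s.filter fun y => y⁻¹ * x ∈ C.S1s with hP
  have hsub : ((fs D ∪ fs R ∪ fs R') \ {1, x}) ⊆ P := by
    intro y hy
    simp only [Finset.mem_sdiff, Finset.mem_union, hmem, Finset.mem_insert, Finset.mem_singleton, not_or] at hy
    obtain ⟨hy, hy1, hyx⟩ := hy
    have hne' : y⁻¹ * x ≠ 1 := fun e => hyx (inv_mul_eq_one.mp e)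
    simp only [hP, Finset.mem_filter, C.mem_S1s]
    rcases hy with (hy | hy) | hy
    · exact ⟨hDcomm y hy hy1, hDcomm _ (mul_mem (inv_mem hy) (Subgroup.mem_centralizer_singleton_iff.mpr rfl)) hne'⟩
    · exact ⟨hRcomm y hy hy1, hRcomm _ (mul_mem (inv_mem hy) hx) hne'⟩
    · exact ⟨hRcomm' y hy hy1, hRcomm' _ (mul_mem (inv_mem hy) hxR') hne'⟩
  have hp := C.card_S1_pairs hxS
  rw [← hP] at hp
  have hq : ∀ y : G, C.InS1 y → (Nat.card (Subgroup.centralizer ({y} : Set G)) : ℤ) = 2 * C.kz + C.a :=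
    fun y => C.card_centralizer
  have cR : (Nat.card R : ℤ) = 2 * C.kz + C.a := hq z hz
  have cD : (Nat.card D : ℤ) = 2 * C.kz + C.a := hq x hxS
  have cR' : (Nat.card R' : ℤ) = 2 * C.kz + C.a := by rw [hz']; exact hq _ (C.S1_conj hz h)
  -- a proper subgroup has at most a third of the elements
  have hthird : ∀ A B : Subgroup G, (Nat.card A : ℤ) = 2 * C.kz + C.a → (Nat.card B : ℤ) = 2 * C.kz + C.a →
      A ≠ B → 3 * ((Nat.card (A ⊓ B : Subgroup G)) : ℤ) ≤ 2 * C.kz + C.a := by
    intro A B hA hB hAB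
    obtain ⟨m, hm⟩ := Subgroup.card_dvd_of_le (inf_le_left : A ⊓ B ≤ A)
    have hm1 : m ≠ 1 := by
      rintro rfl
      rw [mul_one] at hm
      have e1 : A ⊓ B = A := Subgroup.eq_of_le_of_card_ge inf_le_left hm.le
      have e2 : A ≤ B := inf_eq_left.mp e1
      exact hAB (Subgroup.eq_of_le_of_card_ge e2 (le_of_eq (by exact_mod_cast hB.trans hA.symm)))
    have hodd : Odd (Nat.card A) := by
      have : Odd (Nat.card A : ℤ) := by
        rw [hA]; rcases C.ha with e | e <;> rw [e]
        · exact ⟨C.kz, rfl⟩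
        · exact ⟨C.kz - 1, by ring⟩
      exact_mod_cast this
    have hm3 : 3 ≤ m := by
      obtain ⟨n, hn⟩ := Odd.of_dvd_nat hodd ⟨Nat.card (A ⊓ B : Subgroup G), hm.trans (mul_comm _ _)⟩
      omega
    have : Nat.card (A ⊓ B : Subgroup G) * 3 ≤ Nat.card A := by rw [hm]; exact Nat.mul_le_mul_left _ hm3
    rw [← hA]
    push_cast
    omega
  have t1 := hthird R D cR cD (Ne.symm hne)
  have t2 := hthird R R' cR cR' (Ne.symm hRR')
  have hR'D : R' ≠ D := by
    intro e
    have hh' : h ∈ R' := e ▸ hh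
    obtain ⟨w, hw, hwe⟩ := hh'
    simp only [MulEquiv.coe_toMonoidHom, MulAut.conj_apply] at hwe
    have : w = h := by
      calc w = h⁻¹ * (h * w * h⁻¹) * h := by group
        _ = h := by rw [hwe]; group
    subst this
    exact hN (Subgroup.le_normalizer hw)
  have t3 := hthird R' D cR' cD hR'D
  have i1 := Finset.card_union_add_card_inter (fs D) (fs R)
  have i2 := Finset.card_union_add_card_inter (fs D ∪ fs R) (fs R')
  have i4 := Finset.card_union_add_card_inter (fs R' ∩ fs D) (fs R' ∩ fs R)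
  have e1 : fs D ∩ fs R = fs (R ⊓ D) := by ext y; simp [hfs, and_comm]
  have e2 : fs R' ∩ fs D = fs (R' ⊓ D) := by ext y; simp [hfs]
  have e3 : fs R' ∩ fs R = fs (R ⊓ R') := by ext y; simp [hfs, and_comm]
  have e4 : (fs D ∪ fs R) ∩ fs R' = fs R' ∩ fs D ∪ fs R' ∩ fs R := by
    ext y; simp only [Finset.mem_inter, Finset.mem_union]; tauto
  have hone : ({1, x} : Finset G) ⊆ fs R' ∩ fs D ∩ (fs R' ∩ fs R) := by
    intro y hy
    simp only [Finset.mem_insert, Finset.mem_singleton] at hy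
    simp only [Finset.mem_inter, hmem]
    rcases hy with rfl | rfl
    · exact ⟨⟨one_mem _, one_mem _⟩, one_mem _, one_mem _⟩
    · exact ⟨⟨hxR', Subgroup.mem_centralizer_singleton_iff.mpr rfl⟩, hxR', hx⟩
  have h2 := Finset.card_le_card hone
  rw [Finset.card_pair (Ne.symm hx1)] at h2
  have h3 := Finset.card_le_card hsub
  rw [Finset.card_sdiff_of_subset (fun y hy => ?_), Finset.card_pair (Ne.symm hx1)] at h3
  · simp only [e4, e1, e2, e3, hcard] at i1 i2 i4 h2
    have hk := C.k4
    rcases C.ha with e | e <;> simp only [e] at cR cD cR' t1 t2 t3 hp <;> omega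
  · simp only [Finset.mem_insert, Finset.mem_singleton] at hy
    simp only [Finset.mem_union, hmem]
    rcases hy with rfl | rfl
    · exact Or.inl (Or.inl (one_mem _))
    · exact Or.inl (Or.inr hx)

theorem q_pos : 7 ≤ 2 * C.kz + C.a := by
  have := C.k4
  rcases C.ha with e | e <;> omega

theorem index_eq_of_S1 {z : G} (hz : C.InS1 z) :
    ((Subgroup.centralizer ({z} : Set G)).index : ℤ) = 2 * C.kz * C.p := by
  have h : ((Subgroup.centralizer ({z} : Set G)).index : ℤ) * Nat.card (Subgroup.centralizer ({z} : Set G)) = Nat.card G := by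
    exact_mod_cast (Subgroup.centralizer ({z} : Set G)).index_mul_card
  rw [C.card_centralizer hz, C.cardG] at h
  have := C.q_pos
  apply mul_right_cancel₀ (show (2 * C.kz + C.a) ≠ 0 by omega)
  rw [h]; ring

theorem coprime_S1 {z : G} (hz : C.InS1 z) :
    (Nat.card (Subgroup.centralizer ({z} : Set G))).Coprime (Subgroup.centralizer ({z} : Set G)).index := by
  rw [← Nat.isCoprime_iff_coprime, C.card_centralizer hz, C.index_eq_of_S1 hz]
  exact C.isCoprime_q

theorem isCC_S1 {z : G} (hz : C.InS1 z) : IsCC (Subgroup.centralizer ({z} : Set G)) := by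
  intro x hx hx1
  by_contra hne
  have hxS : C.InS1 x := C.same_S1 hz (Subgroup.mem_centralizer_singleton_iff.mp hx) hx1
  have hle : Subgroup.centralizer ({x} : Set G) ≤ Subgroup.centralizer ({z} : Set G) := fun h hh => by
    refine mem_of_coprime _ (C.normalizes hz hx hx1 hne hh) ?_
    refine Nat.Coprime.coprime_dvd_left ?_ (C.coprime_S1 hz)
    have e : Nat.card (Subgroup.centralizer ({x} : Set G)) = Nat.card (Subgroup.centralizer ({z} : Set G)) := by
      exact_mod_cast (C.card_centralizer hxS).trans (C.card_centralizer hz).symm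
    rw [← e]
    exact Subgroup.orderOf_dvd_natCard _ hh
  exact hne (Subgroup.eq_of_le_of_card_ge hle
    (le_of_eq (by exact_mod_cast (C.card_centralizer hz).trans (C.card_centralizer hxS).symm)))

theorem exists_S1 : ∃ z, C.InS1 z := by
  have h := C.card_S1s
  have : C.S1s.Nonempty := by
    rw [← Finset.card_pos]
    have hq := C.q_pos
    have : (0 : ℤ) < C.S1s.card := by rw [h]; nlinarith
    exact_mod_cast this
  obtain ⟨z, hz⟩ := this
  exact ⟨z, C.mem_S1s.mp hz⟩

/-- Twice the order of the normaliser. -/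
theorem card_normalizer {z : G} (hz : C.InS1 z) :
    2 * (Nat.card (Subgroup.normalizer ((Subgroup.centralizer ({z} : Set G)) : Set G)) : ℤ) =
      (2 * C.kz + C.a) * (2 * C.kz + C.a - 1) := by
  set R := Subgroup.centralizer ({z} : Set G) with hR
  have hcov : ∀ x : G, (x ≠ 1 ∧ ∃ c : G, c * x * c⁻¹ ∈ R) ↔ C.InS1 x := by
    intro x
    constructor
    · rintro ⟨hx1, c, hc⟩
      have h := C.S1_conj (C.same_S1 hz (Subgroup.mem_centralizer_singleton_iff.mp hc)
        (fun e => hx1 (conj_eq_one_iff.mp e))) c⁻¹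
      rwa [show c⁻¹ * (c * x * c⁻¹) * c⁻¹⁻¹ = x by group] at h
    · intro hx
      refine ⟨hx.1, ?_⟩
      obtain ⟨r, hr, d, hd⟩ := Nat.exists_prime_and_dvd (fun e => hx.1 (orderOf_eq_one_iff.mp e))
      have hd0 : d ≠ 0 := fun e => (orderOf_pos x).ne' (by rw [hd, e, mul_zero])
      have hy : orderOf (x ^ d) = r := by
        rw [orderOf_pow' x hd0, hd, Nat.gcd_mul_left_left, Nat.mul_div_cancel _ (Nat.pos_of_ne_zero hd0)]
      have hri : ¬ r ∣ R.index := fun h => by
        have h1 : (r : ℤ) ∣ 2 * C.kz + C.a := C.S1_prime hx hr ⟨d, hd⟩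
        have h2 : (r : ℤ) ∣ 2 * C.kz * C.p := by
          rw [← C.index_eq_of_S1 hz]; exact Int.natCast_dvd_natCast.mpr h
        have := Int.isUnit_iff.mp (C.isCoprime_q.isUnit_of_dvd' h1 h2)
        have := hr.two_le
        omega
      obtain ⟨c, hc⟩ := exists_conj_mem R hr hy hri
      exact ⟨c, (C.isCC_S1 hz).conj_mem (fun e => by rw [e, orderOf_one] at hy; exact hr.one_lt.ne hy) hc
        (Commute.self_pow x d).eq⟩
  have h := conj_count (C.isCC_S1 hz)
  rw [Nat.card_congr (Equiv.subtypeEquivRight hcov), Nat.card_eq_fintype_card, Fintype.card_subtype] at h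
  have h' : (C.S1s.card : ℤ) = ((Subgroup.normalizer (R : Set G)).index : ℤ) * ((Nat.card R - 1 : ℕ) : ℤ) := by
    exact_mod_cast h
  rw [C.card_S1s, Nat.cast_sub Nat.card_pos, Nat.cast_one, C.card_centralizer hz] at h'
  have hG : ((Subgroup.normalizer (R : Set G)).index : ℤ) * Nat.card (Subgroup.normalizer (R : Set G)) = Nat.card G := by
    exact_mod_cast (Subgroup.normalizer (R : Set G)).index_mul_card
  rw [C.cardG] at hG
  have hq := C.q_pos
  have hidx : ((Subgroup.normalizer (R : Set G)).index : ℤ) = 2 * C.kz + C.a + 1 := by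
    apply mul_right_cancel₀ (show (2 * C.kz + C.a - 1) ≠ 0 by omega)
    linear_combination -h'
  rw [hidx] at hG
  apply mul_left_cancel₀ (show (2 * C.kz + C.a + 1) ≠ 0 by omega)
  simp only [p] at hG
  linear_combination 2 * hG - (2 * C.kz + C.a) * C.a_sq

theorem exists_D {z : G} (hz : C.InS1 z) : ∃ D : Subgroup G,
    D ≤ Subgroup.normalizer ((Subgroup.centralizer ({z} : Set G)) : Set G) ∧
    Subgroup.centralizer ({z} : Set G) ⊓ D = ⊥ ∧
    Subgroup.centralizer ({z} : Set G) ⊔ D = Subgroup.normalizer ((Subgroup.centralizer ({z} : Set G)) : Set G) ∧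
    2 * (Nat.card D : ℤ) = 2 * C.kz + C.a - 1 := by
  obtain ⟨D, h1, h2, h3, h4⟩ := exists_complement (Subgroup.centralizer ({z} : Set G)) (C.coprime_S1 hz)
  refine ⟨D, h1, h2, h3, ?_⟩
  have h := C.card_normalizer hz
  rw [← h4] at h
  push_cast at h
  rw [C.card_centralizer hz] at h
  have := C.q_pos
  apply mul_left_cancel₀ (show (2 * C.kz + C.a) ≠ 0 by omega)
  linear_combination h

theorem order_formula {z : G} (hz : C.InS1 z) :
    2 * Nat.card G = Nat.card (Subgroup.centralizer ({z} : Set G)) *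
      (Nat.card (Subgroup.centralizer ({z} : Set G)) + 1) * (Nat.card (Subgroup.centralizer ({z} : Set G)) - 1) := by
  have hq := C.card_centralizer hz
  have h1 : 1 ≤ Nat.card (Subgroup.centralizer ({z} : Set G)) := Nat.card_pos
  zify [h1]
  rw [hq, C.cardG]
  simp only [p]
  linear_combination (-(2 * C.kz + C.a)) * C.a_sq

/-- Elements of `S1` do not commute with involutions. -/
theorem no_fix {x v : G} (hx : C.InS1 x) (hv : orderOf v = 2) (hc : v * x = x * v) : False :=
  hx.2.1 (S.KT_of_comm ⟨S.t, S.htK, S.t_ne, S.hconj _ _ S.ht hv⟩ hc.symm hx.1)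

/-- An involution normalising a centraliser inverts it. -/
theorem invert_S1 {z v : G} (hz : C.InS1 z) (hv : orderOf v = 2)
    (hN : v ∈ Subgroup.normalizer ((Subgroup.centralizer ({z} : Set G)) : Set G)) :
    ∀ x ∈ Subgroup.centralizer ({z} : Set G), v * x * v⁻¹ = x⁻¹ :=
  invert_of_fpf hv hN fun x hx hfix => by
    by_contra hx1
    refine C.no_fix (C.same_S1 hz (Subgroup.mem_centralizer_singleton_iff.mp hx) hx1) hv ?_
    exact mul_inv_eq_iff_eq_mul.mp hfix

/-- The case `q = 2k + 1`. -/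
theorem concl_plus (ha : C.a = 1) : Concl G := by
  obtain ⟨z₀, hz₀⟩ := C.exists_S1
  obtain ⟨D₀, hD₀N, hD₀i, hD₀s, hD₀c⟩ := C.exists_D hz₀
  have hDk : Nat.card D₀ = S.k := by
    have : (Nat.card D₀ : ℤ) = (S.k : ℤ) := by
      rw [ha] at hD₀c; simp only [kz] at hD₀c; omega
    exact_mod_cast this
  haveI : Fact (Nat.Prime 2) := ⟨Nat.prime_two⟩
  obtain ⟨⟨v, hvD⟩, hv⟩ := exists_prime_orderOf_dvd_card' (G := D₀) 2 (hDk ▸ S.k_even)
  rw [Subgroup.orderOf_mk] at hv
  obtain ⟨c, hc⟩ := isConj_iff.mp (S.hconj _ _ hv S.ht)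
  set z := c * z₀ * c⁻¹ with hzdef
  have hz : C.InS1 z := C.S1_conj hz₀ c
  set R := Subgroup.centralizer ({z} : Set G) with hR
  have hRmap : R = (Subgroup.centralizer ({z₀} : Set G)).map (MulAut.conj c).toMonoidHom := centralizer_conj_eq c z₀
  set D := D₀.map (MulAut.conj c).toMonoidHom with hDdef
  have hsup : R ⊔ D = Subgroup.normalizer (R : Set G) := by
    rw [hRmap, hDdef, ← Subgroup.map_sup, hD₀s, Subgroup.map_equiv_normalizer_eq]
  have hinf : R ⊓ D = ⊥ := by
    rw [hRmap, hDdef, ← Subgroup.map_inf _ _ _ (MulAut.conj c).injective, hD₀i, Subgroup.map_bot]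
  have htD : S.t ∈ D := ⟨v, hvD, hc⟩
  have hDN : D ≤ Subgroup.normalizer (R : Set G) := le_sup_right.trans hsup.le
  have hcD : Nat.card D = S.k := by rw [hDdef, Subgroup.card_map_of_injective (MulAut.conj c).injective, hDk]
  -- the involution of `D` is unique
  have huniq : ∀ w ∈ D, orderOf w = 2 → w = S.t := by
    intro w hw hwo
    have h1 := C.invert_S1 hz hwo (hDN hw)
    have h2 := C.invert_S1 hz S.ht (hDN htD)
    have hw2 := Involutions.inv_eq_self_of_orderOf hwo
    have hmem : w * S.t ∈ R := by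
      rw [hR, Subgroup.mem_centralizer_singleton_iff]
      have hzR : z ∈ R := Subgroup.mem_centralizer_singleton_iff.mpr rfl
      have e : w * S.t * z * (w * S.t)⁻¹ = z := by
        rw [show w * S.t * z * (w * S.t)⁻¹ = w * (S.t * z * S.t⁻¹) * w⁻¹ by group, h2 z hzR,
          h1 _ (inv_mem hzR), inv_inv]
      exact mul_inv_eq_iff_eq_mul.mp e
    have : w * S.t ∈ R ⊓ D := ⟨hmem, mul_mem hw htD⟩
    rw [hinf, Subgroup.mem_bot] at this
    exact (eq_inv_of_mul_eq_one_left this).trans (Involutions.inv_eq_self_of_orderOf S.ht)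
  have hDH : D ≤ S.H := by
    intro d hd
    have := huniq (d * S.t * d⁻¹) (mul_mem (mul_mem hd htD) (inv_mem hd)) (by rw [Involutions.orderOf_conj, S.ht])
    rw [Subgroup.mem_centralizer_singleton_iff]
    exact mul_inv_eq_iff_eq_mul.mp this
  have hDK : D = S.K := by
    refine Subgroup.eq_of_le_of_card_ge (fun d hd => ?_) (le_of_eq hcD.symm)
    by_contra hdK
    exact hdK ((huniq d hd (S.out_invol (hDH hd) hdK)) ▸ S.htK)
  rw [hDK] at hsup hinf hcD
  refine ⟨R, S.K, C.order_formula hz, C.isCC_S1 hz, ⟨⟨fun a b => Subtype.ext (S.comm _ a.2 _ b.2)⟩⟩, ?_, hinf,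
    hsup.symm, fun X hX hX1 => ?_⟩
  · have h := C.card_centralizer hz
    rw [ha] at h
    simp only [kz] at h
    zify
    rw [h]
  have hnorm : ∀ Y : Subgroup G, Y ≤ S.K → Y ≠ ⊥ → Subgroup.normalizer (Y : Set G) = S.H := by
    intro Y hY hY1
    refine le_antisymm (fun g hg => ?_) fun g hg => Subgroup.mem_normalizer_iff.mpr fun y => ?_
    · obtain ⟨y, hy, hy1⟩ := Y.bot_or_exists_ne_one.resolve_left hY1
      exact S.ti (hY hy) hy1 (hY ((Subgroup.mem_normalizer_iff.mp hg y).mp hy))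
    · have key : ∀ h ∈ S.H, ∀ w ∈ Y, h * w * h⁻¹ ∈ Y := by
        intro h hh w hw
        by_cases hK : h ∈ S.K
        · rwa [S.comm _ hK _ (hY hw), mul_inv_cancel_right]
        · rw [S.inverts hh hK (hY hw)]; exact inv_mem hw
      refine ⟨key g hg y, fun h => ?_⟩
      simpa [mul_assoc] using key g⁻¹ (inv_mem hg) _ h
  have hKne : S.K ≠ ⊥ := fun e => S.t_ne (Subgroup.mem_bot.mp (e ▸ S.htK))
  refine ⟨(hnorm X hX hX1).trans (hnorm S.K le_rfl hKne).symm, S.s, S.hs, S.hsK, S.hinv, ?_⟩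
  rw [hnorm S.K le_rfl hKne]
  exact S.hH.symm

/-- The number of involutions inverting an element of the second set. -/
theorem card_inverting_S2 (ha : C.a = -1) {g : G} (hg : C.InS2 g) :
    (((Finset.univ.filter fun x : G => orderOf x = 2).filter fun x =>
      x⁻¹ * g ∈ Finset.univ.filter fun x : G => orderOf x = 2).card : ℤ) = C.kz - 1 := by
  set A := Finset.univ.filter (fun x : G => orderOf x = 2) with hAdef
  have hA : ∀ x ∈ A, ∀ h : G, h * x * h⁻¹ ∈ A := fun x hx h => by
    simp only [hAdef, Finset.mem_filter, Finset.mem_univ, true_and] at hx ⊢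
    rw [Involutions.orderOf_conj, hx]
  have hcA : (A.card : ℂ) = (S.H.index : ℂ) := by
    rw [hAdef, ← Fintype.card_subtype, ← Nat.card_eq_fintype_card, S.card_involutions]
  have hsum : ∀ χ : IrrCharacter G, ∑ x ∈ A, (χ : G → ℂ) x = (S.H.index : ℂ) * (χ : G → ℂ) S.t := by
    intro χ
    rw [Finset.sum_congr rfl fun x hx => ((isClassFunction_iff_isConj.mp (isClassFunction_irr χ.2)) S.t x
      (S.hconj _ _ S.ht (Finset.mem_filter.mp hx).2)).symm, Finset.sum_const, nsmul_eq_mul, hcA]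
  have hP := card_pairs A hA g
  obtain ⟨hWZ, hW1, hZ1, hWX, hZX, -, -, hdW, hdZ, -, -, -⟩ := C.WZ_spec
  rw [Finset.sum_congr rfl fun χ _ => by rw [hsum],
    ← Finset.sum_subset (Finset.subset_univ ({oneG, C.X, C.W, C.Z} : Finset (IrrCharacter G))) fun χ _ hχ => by
      simp only [Finset.mem_insert, Finset.mem_singleton, not_or] at hχ
      by_cases hY : χ ∈ C.Ys
      · obtain ⟨l, hl, rfl⟩ := Finset.mem_image.mp hY
        have h := C.eq_off (Finset.mem_filter.mp hl).2 hg.2.1
        rw [hg.2.2, ha] at h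
        have e : (C.Yf l : G → ℂ) g = 0 := by push_cast at h; linear_combination h
        rw [e, map_zero, mul_zero, zero_div]
      · rw [show S.t = ((S.tK : S.K) : G) from rfl,
          C.free_val hχ.1 hχ.2.1 hχ.2.2.1 hχ.2.2.2 hY S.tK_ne, mul_zero, zero_pow two_ne_zero, zero_mul, zero_div],
    Finset.sum_insert (by simp [C.hX.symm, hW1.symm, hZ1.symm]), Finset.sum_insert (by simp [hWX.symm, hZX.symm]),
    Finset.sum_pair hWZ, show S.t = ((S.tK : S.K) : G) from rfl, C.X_apply S.tK_ne, C.W_val S.tK_ne,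
    C.Z_val S.tK_ne, hg.2.2, map_neg, map_intCast, dg_spec C.W, dg_spec C.Z, hdW, hdZ, C.q_cast, C.cardG_cast,
    C.index_cast] at hP
  have e : conj ((C.W : G → ℂ) g) + conj ((C.Z : G → ℂ) g) = 0 := by
    rw [← map_add]
    have h := C.eq_off_sig hg.2.1
    rw [hg.2.2, ha] at h
    push_cast at h
    rw [show (C.W : G → ℂ) g + (C.Z : G → ℂ) g = 0 by linear_combination h, map_zero]
  simp only [oneG, mul_one, map_one, div_one, ha, p, kz] at hP
  push_cast at hP
  have hk := C.k4
  have hq0 : (2 * (S.k : ℂ) + -1) ≠ 0 := by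
    have : ((2 * (S.k : ℤ) + -1 : ℤ) : ℂ) ≠ 0 := by
      simp only [kz] at hk
      exact_mod_cast (show (2 * (S.k : ℤ) + -1) ≠ 0 by omega)
    push_cast at this; exact this
  have hp0 : ((S.k : ℂ) + -1) ≠ 0 := by
    have : (((S.k : ℤ) + -1 : ℤ) : ℂ) ≠ 0 := by
      simp only [kz] at hk
      exact_mod_cast (show ((S.k : ℤ) + -1) ≠ 0 by omega)
    push_cast at this; exact this
  have hk0 : (2 * (S.k : ℂ)) ≠ 0 := mul_ne_zero two_ne_zero (Nat.cast_ne_zero.mpr Nat.card_pos.ne')
  have key : ((A.filter fun x => x⁻¹ * g ∈ A).card : ℂ) = (S.k : ℂ) - 1 := by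
    apply mul_left_cancel₀ (mul_ne_zero hk0 (mul_ne_zero hq0 hp0))
    field_simp at hP
    linear_combination ((2 * (S.k : ℂ) + -1) * ((S.k : ℂ) + -1)) * hP +
      ((2 * (S.k : ℂ) + -1) ^ 2 * ((S.k : ℂ) + -1) * (C.sig : S.K → ℂ) S.tK ^ 2) * e
  simp only [kz]
  exact_mod_cast key

theorem exists_S2 (ha : C.a = -1) : ∃ g, C.InS2 g := by
  have h := C.card_S2s
  rw [C.index_cast, ha] at h
  have : C.S2s.Nonempty := by
    rw [← Finset.card_pos]
    have hk := C.k4
    have h' : (C.S2s.card : ℤ) = -1 * (2 * C.kz + -1) + (2 * C.kz + -1) * (C.kz + -1) * (C.kz - 1) := by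
      simp only [kz]; exact_mod_cast h
    have : (0 : ℤ) < C.S2s.card := by
      rw [h']
      have h2 : 2 ≤ (C.kz - 1) * (C.kz - 1) - 1 := by nlinarith
      nlinarith [mul_pos (show (0 : ℤ) < 2 * C.kz - 1 by omega) (show (0 : ℤ) < (C.kz - 1) * (C.kz - 1) - 1 by omega)]
    exact_mod_cast this
  obtain ⟨g, hg⟩ := this
  exact ⟨g, C.mem_S2s.mp hg⟩

/-- The centraliser of an element of the second set. -/
theorem centralizer_S2 (ha : C.a = -1) {g : G} (hg : C.InS2 g) :
    (Nat.card (Subgroup.centralizer ({g} : Set G)) : ℤ) = C.kz - 1 ∧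
      ∃ u : G, orderOf u = 2 ∧ ∀ x ∈ Subgroup.centralizer ({g} : Set G), u * x * u⁻¹ = x⁻¹ := by
  set A := Finset.univ.filter (fun x : G => orderOf x = 2) with hAdef
  set P := A.filter fun x => x⁻¹ * g ∈ A with hPdef
  have hP := C.card_inverting_S2 ha hg
  rw [← hAdef, ← hPdef] at hP
  have hk := C.k4
  obtain ⟨u, hu⟩ : P.Nonempty := by
    rw [← Finset.card_pos]
    have : (0 : ℤ) < P.card := by rw [hP]; omega
    exact_mod_cast this
  have hinv : ∀ x ∈ P, orderOf x = 2 ∧ x * g * x⁻¹ = g⁻¹ := by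
    intro x hx
    simp only [hPdef, hAdef, Finset.mem_filter, Finset.mem_univ, true_and] at hx
    refine ⟨hx.1, ?_⟩
    have h := Involutions.mul_self_eq_one_of_orderOf hx.2
    have hx2 := Involutions.inv_eq_self_of_orderOf hx.1
    rw [hx2] at h ⊢
    exact eq_inv_of_mul_eq_one_left (by rw [mul_assoc (x * g)]; exact h)
  obtain ⟨hu2, hug⟩ := hinv u hu
  set D := Subgroup.centralizer ({g} : Set G) with hD
  set fD := Finset.univ.filter (fun y : G => y ∈ D) with hfD
  have hcD : (fD.card : ℤ) = Nat.card D := by rw [Nat.card_eq_fintype_card, Fintype.card_subtype]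
  have hsub : P.image (fun x => x * u) ⊆ fD := by
    intro y hy
    obtain ⟨x, hx, rfl⟩ := Finset.mem_image.mp hy
    obtain ⟨hx2, hxg⟩ := hinv x hx
    simp only [hfD, Finset.mem_filter, Finset.mem_univ, true_and, hD, Subgroup.mem_centralizer_singleton_iff]
    apply mul_inv_eq_iff_eq_mul.mp
    calc x * u * g * (x * u)⁻¹ = x * (u * g * u⁻¹) * x⁻¹ := by group
      _ = (x * g * x⁻¹)⁻¹ := by rw [hug]; group
      _ = g := by rw [hxg, inv_inv]
  have hcard : (P.image (fun x => x * u)).card = P.card := Finset.card_image_of_injective _ (mul_left_injective u)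
  have hle := Finset.card_le_card hsub
  rw [hcard] at hle
  have hle' : (P.card : ℤ) ≤ fD.card := by exact_mod_cast hle
  have hge : (Nat.card D : ℤ) ≤ C.kz - 1 := by
    refine Int.le_of_dvd (by omega) ?_
    have h := C.centralizer_dvd_p hg
    rw [show C.p = C.kz - 1 by simp only [p, ha]; ring] at h
    exact h
  have hcardD : (Nat.card D : ℤ) = C.kz - 1 := by omega
  refine ⟨hcardD, u, hu2, fun x hx => ?_⟩
  have heq : P.image (fun x => x * u) = fD := Finset.eq_of_subset_of_card_le hsub (by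
    rw [hcard]
    have : (fD.card : ℤ) ≤ P.card := by omega
    exact_mod_cast this)
  have hxm : x ∈ P.image (fun x => x * u) := by rw [heq]; simp [hfD, hx]
  obtain ⟨y, hy, rfl⟩ := Finset.mem_image.mp hxm
  rw [mul_inv_rev, Involutions.inv_eq_self_of_orderOf (hinv y hy).1, Involutions.inv_eq_self_of_orderOf hu2,
    show u * (y * u) * u = u * y * (u * u) by group, Involutions.mul_self_eq_one_of_orderOf hu2, mul_one]

theorem isCC_S2 (ha : C.a = -1) {g : G} (hg : C.InS2 g) : IsCC (Subgroup.centralizer ({g} : Set G)) := by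
  intro x hx hx1
  obtain ⟨hc, u, hu, hinv⟩ := C.centralizer_S2 ha hg
  have hxS : C.InS2 x := C.same_S2 hg (Subgroup.mem_centralizer_singleton_iff.mp hx) hx1
  refine (Subgroup.eq_of_le_of_card_ge (fun y hy => Subgroup.mem_centralizer_singleton_iff.mpr ?_) ?_).symm
  · -- a group inverted by an involution is commutative
    have h := hinv _ (mul_mem hy hx)
    rw [show u * (y * x) * u⁻¹ = u * y * u⁻¹ * (u * x * u⁻¹) by group, hinv y hy, hinv x hx, ← mul_inv_rev,
      inv_inj] at h
    exact h.symm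
  · have := (C.centralizer_S2 ha hxS).1
    exact le_of_eq (by exact_mod_cast this.trans hc.symm)

theorem normalizer_S2 (ha : C.a = -1) {g u : G} (hg : C.InS2 g) (hu : orderOf u = 2)
    (hinv : ∀ x ∈ Subgroup.centralizer ({g} : Set G), u * x * u⁻¹ = x⁻¹) :
    u ∉ Subgroup.centralizer ({g} : Set G) ∧
      Subgroup.normalizer ((Subgroup.centralizer ({g} : Set G)) : Set G) =
        Subgroup.centralizer ({g} : Set G) ⊔ Subgroup.zpowers u ∧
      (Nat.card (Subgroup.normalizer ((Subgroup.centralizer ({g} : Set G)) : Set G)) : ℤ) = 2 * (C.kz - 1) := by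
  set D := Subgroup.centralizer ({g} : Set G) with hD
  have hcD := (C.centralizer_S2 ha hg).1
  rw [← hD] at hcD
  have hk := C.k4
  obtain ⟨k', hk'⟩ := C.k_two
  have huD : u ∉ D := fun h => by
    have := Int.natCast_dvd_natCast.mpr (Subgroup.orderOf_dvd_natCard _ h)
    rw [hu, hcD] at this
    obtain ⟨m, hm⟩ := this
    omega
  have hidx : (D.index : ℤ) = 2 * C.kz * (2 * C.kz - 1) := by
    have h : (D.index : ℤ) * Nat.card D = Nat.card G := by exact_mod_cast D.index_mul_card
    rw [hcD, C.cardG] at h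
    simp only [p, ha] at h
    apply mul_right_cancel₀ (show C.kz - 1 ≠ 0 by omega)
    linear_combination h
  have hcov : ∀ x : G, (x ≠ 1 ∧ ∃ c : G, c * x * c⁻¹ ∈ D) ↔ C.InS2 x := by
    intro x
    constructor
    · rintro ⟨hx1, c, hc⟩
      have h := C.S2_conj (C.same_S2 hg (Subgroup.mem_centralizer_singleton_iff.mp hc)
        (fun e => hx1 (conj_eq_one_iff.mp e))) c⁻¹
      rwa [show c⁻¹ * (c * x * c⁻¹) * c⁻¹⁻¹ = x by group] at h
    · intro hx
      refine ⟨hx.1, ?_⟩
      obtain ⟨r, hr, d, hd⟩ := Nat.exists_prime_and_dvd (fun e => hx.1 (orderOf_eq_one_iff.mp e))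
      have hd0 : d ≠ 0 := fun e => (orderOf_pos x).ne' (by rw [hd, e, mul_zero])
      have hy : orderOf (x ^ d) = r := by
        rw [orderOf_pow' x hd0, hd, Nat.gcd_mul_left_left, Nat.mul_div_cancel _ (Nat.pos_of_ne_zero hd0)]
      have hri : ¬ r ∣ D.index := fun h => by
        have h1 : (r : ℤ) ∣ C.p := C.S2_prime hx hr ⟨d, hd⟩
        have h2 : (r : ℤ) ∣ 2 * C.kz * (2 * C.kz - 1) := hidx ▸ Int.natCast_dvd_natCast.mpr h
        have h3 : (r : ℤ) ∣ 2 * (C.kz * (2 * C.kz + C.a)) := by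
          rw [ha]
          rwa [show 2 * (C.kz * (2 * C.kz + -1)) = 2 * C.kz * (2 * C.kz - 1) by ring]
        rcases (Nat.prime_iff_prime_int.mp hr).dvd_or_dvd h3 with h' | h'
        · have h2' : r = 2 := (Nat.prime_dvd_prime_iff_eq hr Nat.prime_two).mp (by exact_mod_cast h')
          subst h2'
          obtain ⟨m, hm⟩ := h1
          simp only [p, ha] at hm
          omega
        · have := Int.isUnit_iff.mp (C.isCoprime_p.isUnit_of_dvd' h1 h')
          have := hr.two_le
          omega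
      obtain ⟨c, hc⟩ := exists_conj_mem D hr hy hri
      exact ⟨c, (C.isCC_S2 ha hg).conj_mem (fun e => by rw [e, orderOf_one] at hy; exact hr.one_lt.ne hy) hc
        (Commute.self_pow x d).eq⟩
  have h := conj_count (C.isCC_S2 ha hg)
  rw [Nat.card_congr (Equiv.subtypeEquivRight hcov), Nat.card_eq_fintype_card, Fintype.card_subtype] at h
  set N := Subgroup.normalizer (D : Set G) with hN
  have h' : (C.S2s.card : ℂ) = ((N.index * (Nat.card D - 1) : ℕ) : ℂ) := by exact_mod_cast h
  rw [C.card_S2s, C.index_cast, ha] at h'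
  have h'' : -1 * (2 * C.kz + -1) + (2 * C.kz + -1) * (C.kz + -1) * (C.kz - 1) = (N.index : ℤ) * (C.kz - 2) := by
    have e : ((N.index * (Nat.card D - 1) : ℕ) : ℤ) = (N.index : ℤ) * (C.kz - 2) := by
      rw [Nat.cast_mul, Nat.cast_sub Nat.card_pos, hcD, Nat.cast_one]; ring
    rw [← e]
    simp only [kz]
    exact_mod_cast h'
  have hNi : (N.index : ℤ) = (2 * C.kz - 1) * C.kz := by
    apply mul_right_cancel₀ (show C.kz - 2 ≠ 0 by omega)
    linear_combination -h''
  have hNc : (Nat.card N : ℤ) = 2 * (C.kz - 1) := by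
    have hG : (N.index : ℤ) * Nat.card N = Nat.card G := by exact_mod_cast N.index_mul_card
    rw [hNi, C.cardG] at hG
    simp only [p, ha] at hG
    apply mul_left_cancel₀ (show (2 * C.kz - 1) * C.kz ≠ 0 from mul_ne_zero (by omega) (by omega))
    linear_combination hG
  have huN : u ∈ N := by
    refine Subgroup.mem_normalizer_iff.mpr fun y => ⟨fun hy => by rw [hinv y hy]; exact inv_mem hy, fun hy => ?_⟩
    have h1 := hinv _ hy
    have e : u * (u * y * u⁻¹) * u⁻¹ = (u * u) * y * (u * u)⁻¹ := by group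
    rw [e, Involutions.mul_self_eq_one_of_orderOf hu, one_mul, inv_one, mul_one] at h1
    rw [h1]
    exact inv_mem hy
  refine ⟨huD, ?_, hNc⟩
  have hle : D ⊔ Subgroup.zpowers u ≤ N := sup_le Subgroup.le_normalizer (Subgroup.zpowers_le.mpr huN)
  refine (Subgroup.eq_of_le_of_card_ge hle ?_).symm
  have h1 : Nat.card D ∣ Nat.card (D ⊔ Subgroup.zpowers u : Subgroup G) := Subgroup.card_dvd_of_le le_sup_left
  have h2 : 2 ∣ Nat.card (D ⊔ Subgroup.zpowers u : Subgroup G) :=
    hu ▸ Subgroup.orderOf_dvd_natCard _ (Subgroup.mem_sup_right (Subgroup.mem_zpowers u))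
  have hcop : Nat.Coprime 2 (Nat.card D) := by
    refine (Nat.prime_two.coprime_iff_not_dvd).mpr fun h => ?_
    have := Int.natCast_dvd_natCast.mpr h
    rw [hcD] at this
    obtain ⟨m, hm⟩ := this
    omega
  have h3 := Nat.le_of_dvd Nat.card_pos (hcop.mul_dvd_of_dvd_of_dvd h2 h1)
  have : (Nat.card N : ℤ) ≤ ((2 * Nat.card D : ℕ) : ℤ) := by push_cast; omega
  exact le_trans (by exact_mod_cast this) h3

/-- The case `q = 2k - 1`. -/
theorem concl_minus (ha : C.a = -1) : Concl G := by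
  obtain ⟨z, hz⟩ := C.exists_S1
  obtain ⟨D, hDN, hDi, hDs, hDc⟩ := C.exists_D hz
  rw [ha] at hDc
  have hk := C.k4
  have hDk : (Nat.card D : ℤ) = C.kz - 1 := by omega
  obtain ⟨k', hk'⟩ := C.k_two
  have hDodd : Odd (Nat.card D) := by
    have : Odd (Nat.card D : ℤ) := ⟨k' - 1, by omega⟩
    exact_mod_cast this
  have hpe : C.p = C.kz - 1 := by simp only [p, ha]; ring
  have hS2 : ∀ d ∈ D, d ≠ 1 → C.InS2 d := by
    intro d hd hd1
    have hdo : ∀ r : ℕ, r.Prime → r ∣ orderOf d → (r : ℤ) ∣ C.p := fun r _ h => by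
      rw [hpe, ← hDk]
      exact Int.natCast_dvd_natCast.mpr (h.trans (Subgroup.orderOf_dvd_natCard _ hd))
    have hdK : ¬ S.KT d := by
      rintro ⟨y, hy, hy1, hc⟩
      obtain ⟨c, rfl⟩ := isConj_iff.mp hc
      obtain ⟨r, hr, hrd⟩ := Nat.exists_prime_and_dvd (fun e => hd1 (orderOf_eq_one_iff.mp e))
      have h1 : (r : ℤ) ∣ C.kz * (2 * C.kz + C.a) := by
        refine dvd_mul_of_dvd_left ?_ _
        rw [Involutions.orderOf_conj] at hrd
        exact Int.natCast_dvd_natCast.mpr (hrd.trans (Subgroup.orderOf_dvd_natCard _ hy))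
      have := Int.isUnit_iff.mp (C.isCoprime_p.isUnit_of_dvd' (hdo r hr hrd) h1)
      have := hr.two_le
      omega
    refine (C.cases hdK hd1).resolve_left fun h1 => ?_
    obtain ⟨r, hr, hrd⟩ := Nat.exists_prime_and_dvd (fun e => hd1 (orderOf_eq_one_iff.mp e))
    have := Int.isUnit_iff.mp (C.isCoprime_p.isUnit_of_dvd' (hdo r hr hrd)
      (dvd_mul_of_dvd_right (C.S1_prime h1 hr hrd) C.kz))
    have := hr.two_le
    omega
  -- `D` is the centraliser of each of its nontrivial elements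
  have hsub : ∀ d : D, (Subgroup.centralizer ({d} : Set D)) =
      (Subgroup.centralizer ({(d : G)} : Set G)).subgroupOf D := fun d => by
    ext x
    rw [Subgroup.mem_subgroupOf, Subgroup.mem_centralizer_singleton_iff, Subgroup.mem_centralizer_singleton_iff]
    exact ⟨fun h => congrArg Subtype.val h, fun h => Subtype.ext h⟩
  have hne : ∀ d : D, d ≠ 1 → (d : G) ≠ 1 := fun d h e => h (Subtype.ext e)
  have habel := abelian_of_odd (G := D) hDodd
    (fun d hd x hx hx1 => by
      rw [hsub x, hsub d]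
      rw [hsub d] at hx
      rw [(C.isCC_S2 ha (hS2 d d.2 (hne d hd))) x hx (hne x hx1)])
    (fun d hd g hg => by
      rw [hsub d, Subgroup.mem_subgroupOf] at hg ⊢
      have hdS := hS2 d d.2 (hne d hd)
      obtain ⟨-, u, hu, hinv⟩ := C.centralizer_S2 ha hdS
      obtain ⟨-, hNeq, hNc⟩ := C.normalizer_S2 ha hdS hu hinv
      have hgN : (g : G) ∈ Subgroup.normalizer ((Subgroup.centralizer ({(d : G)} : Set G)) : Set G) :=
        (C.isCC_S2 ha hdS).mem_normalizer (Subgroup.mem_centralizer_singleton_iff.mpr rfl) (hne d hd) hg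
      set A := Subgroup.centralizer ({(d : G)} : Set G) with hA
      set N := Subgroup.normalizer (A : Set G) with hN
      -- an element of odd order of `N` lies in the subgroup of index two
      have hA2 : (A.subgroupOf N).index = 2 := by
        have h := (A.subgroupOf N).index_mul_card
        rw [Nat.card_congr (Subgroup.subgroupOfEquivOfLe (Subgroup.le_normalizer : A ≤ N)).toEquiv] at h
        have h' : ((A.subgroupOf N).index : ℤ) * Nat.card A = Nat.card N := by exact_mod_cast h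
        rw [(C.centralizer_S2 ha hdS).1, hNc] at h'
        have : ((A.subgroupOf N).index : ℤ) = 2 := mul_right_cancel₀ (show C.kz - 1 ≠ 0 by omega) h'
        exact_mod_cast this
      have hgo : Odd (orderOf (g : G)) := Odd.of_dvd_nat hDodd (Subgroup.orderOf_dvd_natCard _ g.2)
      obtain ⟨m, hm⟩ := hgo
      have hsq : ((⟨(g : G), hgN⟩ : N) ^ 2) ∈ A.subgroupOf N := Subgroup.sq_mem_of_index_two hA2 _
      rw [Subgroup.mem_subgroupOf] at hsq
      have hmem := Subgroup.pow_mem A hsq (m + 1)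
      rw [Subgroup.coe_pow, ← pow_mul, show 2 * (m + 1) = orderOf (g : G) + 1 by omega, pow_succ,
        pow_orderOf_eq_one, one_mul] at hmem
      exact hmem)
  obtain ⟨d₁, hd₁D, hd₁⟩ := D.bot_or_exists_ne_one.resolve_left (fun e => by
    rw [e, Subgroup.card_bot] at hDk
    omega)
  have hDle : D ≤ Subgroup.centralizer ({d₁} : Set G) := fun x hx => by
    have h := habel ⟨d₁, hd₁D⟩ (fun e => hd₁ (congrArg Subtype.val e))
    have : (⟨x, hx⟩ : D) ∈ Subgroup.centralizer ({(⟨d₁, hd₁D⟩ : D)} : Set D) := h ▸ Subgroup.mem_top _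
    rw [hsub] at this
    exact this
  have hd₁S := hS2 d₁ hd₁D hd₁
  obtain ⟨hcC, u, hu, hinv⟩ := C.centralizer_S2 ha hd₁S
  have hDeq : D = Subgroup.centralizer ({d₁} : Set G) :=
    Subgroup.eq_of_le_of_card_ge hDle (le_of_eq (by exact_mod_cast hcC.trans hDk.symm))
  have hCC : IsCC D := hDeq ▸ C.isCC_S2 ha hd₁S
  obtain ⟨huD, hNeq, -⟩ := C.normalizer_S2 ha hd₁S hu hinv
  rw [← hDeq] at huD hNeq hinv
  have hcomm : ∀ a ∈ D, ∀ b ∈ D, a * b = b * a := fun a ha' b hb => by
    by_cases h : b = 1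
    · simp [h]
    · exact Subgroup.mem_centralizer_singleton_iff.mp ((hCC b hb h).symm ▸ ha')
  refine ⟨Subgroup.centralizer ({z} : Set G), D, C.order_formula hz, C.isCC_S1 hz,
    ⟨⟨fun a b => Subtype.ext (hcomm _ a.2 _ b.2)⟩⟩, ?_, hDi, hDs.symm, fun X hX hX1 => ⟨?_, u, hu, huD, hinv, hNeq⟩⟩
  · have h := C.card_centralizer hz
    rw [ha] at h
    zify
    rw [h, hDk]
    ring
  refine le_antisymm (fun g hg => ?_) ?_
  · obtain ⟨x, hx, hx1⟩ := X.bot_or_exists_ne_one.resolve_left hX1
    exact hCC.mem_normalizer (hX hx) hx1 (hX ((Subgroup.mem_normalizer_iff.mp hg x).mp hx))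
  · rw [hNeq]
    refine sup_le (fun d hd => Subgroup.mem_normalizer_iff.mpr fun y => ?_) (Subgroup.zpowers_le.mpr
      (Subgroup.mem_normalizer_iff.mpr fun y => ?_))
    · constructor
      · intro hy; rwa [hcomm d hd y (hX hy), mul_inv_cancel_right]
      · intro hy
        have h := hcomm d⁻¹ (inv_mem hd) _ (hX hy)
        rw [show d⁻¹ * (d * y * d⁻¹) = y * d⁻¹ by group] at h
        rwa [← mul_right_cancel h] at hy
    · constructor
      · intro hy; rw [hinv y (hX hy)]; exact inv_mem hy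
      · intro hy
        have h1 := hinv _ (hX hy)
        have e : u * (u * y * u⁻¹) * u⁻¹ = (u * u) * y * (u * u)⁻¹ := by group
        rw [e, Involutions.mul_self_eq_one_of_orderOf hu, one_mul, inv_one, mul_one] at h1
        rw [h1]
        exact inv_mem hy

theorem concl (C : Core S) : Concl G := Or.elim C.ha C.concl_plus C.concl_minus

end Core

end CfsgLib.BSW
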