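import Cfsg.Agent.Lib.BSW.Small
import Cfsg.Agent.Lib.CharTheory.Burnside
import Cfsg.Agent.S0731

/-!
A simple group in the Brauer–Suzuki–Wall configuration is a projective special linear group of dimension two.
-/

set_option autoImplicit false
set_option linter.unusedSectionVars false

namespace CfsgLib.BSW

open Cfsg

universe u

variable {G : Type u} [Group G] [Finite G] [IsSimpleGroup G]

theorem psl2_of_concl (h : Concl G) :
    ∃ (F : Type) (_ : Field F) (_ : Fintype F), Odd (Fintype.card F) ∧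
      Nonempty (G ≃* Matrix.ProjectiveSpecialLinearGroup (Fin 2) F) := by
  classical
  haveI := Fintype.ofFinite G
  obtain ⟨Q, D, hord, hCC', -, hDc, hQD, hNQ, -⟩ := h
  have hCC : IsCC Q := hCC'
  set N := Subgroup.normalizer (Q : Set G) with hN
  have hQN : Q ≤ N := Subgroup.le_normalizer
  have hDN : D ≤ N := le_sup_right.trans hNQ.ge
  have hd0 := Nat.card_pos (α := D)
  -- the order of the normaliser
  have hNcard : Nat.card N = Nat.card Q * Nat.card D := by
    have hcomp : Subgroup.IsComplement' (Q.subgroupOf N) (D.subgroupOf N) := by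
      refine Subgroup.isComplement'_of_disjoint_and_mul_eq_univ ?_ ?_
      · rw [disjoint_iff]
        show (Q ⊓ D).subgroupOf N = ⊥
        rw [hQD, Subgroup.bot_subgroupOf]
      · rw [← Subgroup.normal_mul, ← Subgroup.subgroupOf_sup hQN hDN, ← hNQ]
        rw [Subgroup.subgroupOf_self, Subgroup.coe_top]
    rw [← hcomp.card_mul_card, Nat.card_congr (Subgroup.subgroupOfEquivOfLe hQN).toEquiv,
      Nat.card_congr (Subgroup.subgroupOfEquivOfLe hDN).toEquiv]
  have hidx : N.index = Nat.card Q + 1 := by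
    have h1 := N.index_mul_card
    rw [hNcard] at h1
    rw [← h1] at hord
    have h2 : Nat.card Q - 1 = 2 * Nat.card D := by omega
    rw [h2] at hord
    refine Nat.eq_of_mul_eq_mul_right (show 0 < 2 * (Nat.card Q * Nat.card D) from
      Nat.mul_pos two_pos (Nat.mul_pos Nat.card_pos Nat.card_pos)) ?_
    linarith
  have hQidx : Q.index = (Nat.card Q + 1) * Nat.card D := by
    have h1 := Q.index_mul_card
    rw [← N.index_mul_card, hidx, hNcard] at h1
    exact Nat.eq_of_mul_eq_mul_right Nat.card_pos (h1.trans (by ring))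
  have hco : (Nat.card Q).Coprime Q.index := by
    rw [hQidx]
    refine Nat.Coprime.mul_right ?_ ?_
    · exact Nat.coprime_self_add_right.mpr (Nat.coprime_one_right _)
    · rw [← hDc, mul_comm]
      exact (Nat.coprime_mul_left_add_left _ _ _).mpr (Nat.coprime_one_left _)
  set x₀ : G ⧸ N := ((1 : G) : G ⧸ N) with hx₀
  have hfix : ∀ (x g : G), x • ((g : G ⧸ N)) = (g : G ⧸ N) ↔ g⁻¹ * x * g ∈ N := by
    intro x g
    rw [MulAction.Quotient.smul_coe, smul_eq_mul, QuotientGroup.eq, ← inv_mem_iff]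
    simp [mul_assoc]
  have hfix₀ : ∀ x : G, x • x₀ = x₀ ↔ x ∈ N := fun x => by rw [hx₀, hfix]; simp
  have hne₀ : ∀ g : G, (g : G ⧸ N) ≠ x₀ ↔ g ∉ N := fun g => by
    rw [ne_eq, hx₀, QuotientGroup.eq, mul_one, inv_mem_iff]
  -- `Q` is semiregular off the base point
  have hsemi : ∀ u ∈ Q, ∀ y : G ⧸ N, y ≠ x₀ → u • y = y → u = 1 := by
    intro u hu y hy hfy
    obtain ⟨g, rfl⟩ := QuotientGroup.mk_surjective y
    by_contra hu1
    have hw := (hfix u g).mp hfy
    have hwQ : g⁻¹ * u * g ∈ Q := by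
      refine mem_of_coprime Q hw (Nat.Coprime.coprime_dvd_left ?_ hco)
      have : orderOf (g⁻¹ * u * g) = orderOf u := by
        have := Involutions.orderOf_conj g⁻¹ u
        rwa [inv_inv] at this
      rw [this]
      exact Subgroup.orderOf_dvd_natCard _ hu
    have hgN : g⁻¹ ∈ N := hCC.mem_normalizer hu hu1 (by rwa [inv_inv])
    exact (hne₀ g).mp hy (inv_mem_iff.mp hgN)
  -- `Q` is regular off the base point
  have hreg : ∀ y z : G ⧸ N, y ≠ x₀ → z ≠ x₀ → ∃! u : Q, (u : G) • y = z := by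
    intro y z hy hz
    have hmem : ∀ u : Q, (u : G) • y ≠ x₀ := fun u e => hy (by
      rw [← inv_smul_smul (u : G) y, e]
      exact (hfix₀ _).mpr (hQN (inv_mem u.2)))
    let f : Q → {w : G ⧸ N // w ≠ x₀} := fun u => ⟨(u : G) • y, hmem u⟩
    have hinj : Function.Injective f := by
      intro u v e
      have e' : (u : G) • y = (v : G) • y := congrArg Subtype.val e
      have := hsemi ((v : G)⁻¹ * u) (mul_mem (inv_mem v.2) u.2) y hy (by rw [mul_smul, e', inv_smul_smul])
      exact Subtype.ext (inv_mul_eq_one.mp this).symm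
    have hsurj : Function.Surjective f := by
      have hc : Nat.card {w : G ⧸ N // w ≠ x₀} = Nat.card Q := by
        rw [Nat.card_eq_fintype_card, Fintype.card_subtype_compl, Fintype.card_subtype_eq,
          ← Nat.card_eq_fintype_card]
        show N.index - 1 = _
        rw [hidx]
        omega
      exact ((Nat.bijective_iff_injective_and_card f).mpr ⟨hinj, hc.symm⟩).2
    obtain ⟨u, hu⟩ := hsurj ⟨z, hz⟩
    refine ⟨u, congrArg Subtype.val hu, fun v hv => hinj ?_⟩
    rw [hu]
    exact Subtype.ext hv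
  have hNne : N ≠ ⊤ := fun e => by
    rw [e, Subgroup.index_top] at hidx
    have := Nat.card_pos (α := Q)
    omega
  have hfaith : FaithfulSMul G (G ⧸ N) := by
    have hcore : N.normalCore = ⊥ :=
      (Subgroup.normalCore_normal N).eq_bot_or_eq_top.resolve_right fun e =>
        hNne (top_le_iff.mp (e ▸ N.normalCore_le))
    have hker : (MulAction.toPermHom G (G ⧸ N)).ker = ⊥ := by rw [← Subgroup.normalCore_eq_ker, hcore]
    exact ⟨fun {a b} h => (MonoidHom.ker_eq_bot_iff _).mp hker (Equiv.ext h)⟩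
  obtain ⟨g₀, hg₀⟩ : ∃ g : G, g ∉ N := by
    by_contra hall
    push Not at hall
    exact hNne ((Subgroup.eq_top_iff' N).mpr hall)
  set y₀ : G ⧸ N := (g₀ : G ⧸ N) with hy₀
  have hy₀ne : y₀ ≠ x₀ := (hne₀ g₀).mpr hg₀
  have hmove : ∀ a b : G ⧸ N, a ≠ b → ∃ g : G, g • a = x₀ ∧ g • b = y₀ := by
    intro a b hab
    obtain ⟨g, hg⟩ := MulAction.exists_smul_eq G a x₀
    have hgb : g • b ≠ x₀ := fun e => hab (smul_left_cancel g (hg.trans e.symm))
    obtain ⟨u, hu, -⟩ := hreg (g • b) y₀ hgb hy₀ne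
    exact ⟨(u : G) * g, by rw [mul_smul, hg, (hfix₀ _).mpr (hQN u.2)], by rw [mul_smul, hu]⟩
  have h2 : MulAction.IsMultiplyPretransitive G (G ⧸ N) 2 := by
    rw [MulAction.is_two_pretransitive_iff]
    intro a b c d hab hcd
    obtain ⟨g, hg1, hg2⟩ := hmove a b hab
    obtain ⟨h, hh1, hh2⟩ := hmove c d hcd
    refine ⟨h⁻¹ * g, ?_, ?_⟩
    · rw [mul_smul, hg1, ← hh1, inv_smul_smul]
    · rw [mul_smul, hg2, ← hh2, inv_smul_smul]
  have h3 : ∀ g : G, ∀ a b c : G ⧸ N, a ≠ b → b ≠ c → a ≠ c → g • a = a → g • b = b → g • c = c → g = 1 := by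
    intro g a b c hab hbc hac ha hb hc
    obtain ⟨h, hh⟩ := MulAction.exists_smul_eq G a x₀
    set k := h * g * h⁻¹ with hk
    have hkfix : ∀ w : G ⧸ N, g • w = w → k • (h • w) = h • w := fun w hw => by
      rw [hk, mul_smul, mul_smul, inv_smul_smul, hw]
    have hy : h • b ≠ x₀ := fun e => hab (smul_left_cancel h (hh.trans e.symm))
    have hz : h • c ≠ x₀ := fun e => hac (smul_left_cancel h (hh.trans e.symm))
    have hkN : k ∈ N := (hfix₀ k).mp (by rw [← hh]; exact hkfix a ha)
    obtain ⟨u, hu, -⟩ := hreg (h • b) (h • c) hy hz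
    have hu1 : (u : G) ≠ 1 := fun e => hbc (smul_left_cancel h (by rwa [e, one_smul] at hu))
    have hwQ : (u : G)⁻¹ * (k * u * k⁻¹) ∈ Q :=
      mul_mem (inv_mem u.2) ((Subgroup.mem_normalizer_iff.mp hkN u).mp u.2)
    have hw := hsemi _ hwQ (h • b) hy (by
      have e1 : k⁻¹ • h • b = h • b := by
        have := hkfix b hb
        nth_rewrite 1 [← this]
        rw [inv_smul_smul]
      rw [mul_smul, mul_smul, mul_smul, e1, hu, hkfix c hc, ← hu, inv_smul_smul])
    have hcomm : k * u = u * k := by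
      have := inv_mul_eq_one.mp hw
      exact (mul_inv_eq_iff_eq_mul.mp this.symm)
    have hkQ : k ∈ Q := by
      rw [← hCC u u.2 hu1]
      exact Subgroup.mem_centralizer_singleton_iff.mpr hcomm
    have hk1 := hsemi k hkQ (h • b) hy (hkfix b hb)
    rw [hk] at hk1
    exact conj_eq_one_iff.mp hk1
  have hd2 : 2 ≤ Nat.card D := by
    by_contra hlt
    have hd1 : Nat.card D = 1 := by omega
    have hq3 : Nat.card Q = 3 := by omega
    have hG : Nat.card G = 2 ^ 2 * 3 ^ 1 := by rw [hq3] at hord; omega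
    haveI := CfsgLib.CharTheory.isSolvable_of_card_two_primes Nat.prime_two Nat.prime_three hG
    have hcomm : ∀ a b : G, a * b = b * a := IsSimpleGroup.comm_iff_isSolvable.mpr this
    obtain ⟨x, hx, hx1⟩ := Q.bot_or_exists_ne_one.resolve_left (fun e => by rw [e, Subgroup.card_bot] at hq3; omega)
    have hC := hCC x hx hx1
    have : Subgroup.centralizer ({x} : Set G) = ⊤ :=
      (Subgroup.eq_top_iff' _).mpr fun g => Subgroup.mem_centralizer_singleton_iff.mpr (hcomm g x)
    rw [hC] at this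
    rw [this, Subgroup.card_top, hG] at hq3
    norm_num at hq3
  have hex : ∃ g : G, g ≠ 1 ∧ ∃ a b : G ⧸ N, a ≠ b ∧ g • a = a ∧ g • b = b := by
    by_contra hno
    push Not at hno
    have hmem : ∀ n : N, (n : G) • y₀ ≠ x₀ := fun n e => hy₀ne (by
      rw [← inv_smul_smul (n : G) y₀, e]
      exact (hfix₀ _).mpr (inv_mem n.2))
    have hinj : Function.Injective (fun n : N => (⟨(n : G) • y₀, hmem n⟩ : {w : G ⧸ N // w ≠ x₀})) := by
      intro n m e
      have e' : (n : G) • y₀ = (m : G) • y₀ := congrArg Subtype.val e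
      by_contra hne
      refine hno ((m : G)⁻¹ * n) (fun e1 => hne (Subtype.ext (inv_mul_eq_one.mp e1).symm)) x₀ y₀ (Ne.symm hy₀ne)
        ((hfix₀ _).mpr (mul_mem (inv_mem m.2) n.2)) ?_
      rw [mul_smul, e', inv_smul_smul]
    have hc := Nat.card_le_card_of_injective _ hinj
    rw [Nat.card_eq_fintype_card (α := {w : G ⧸ N // w ≠ x₀}), Fintype.card_subtype_compl,
      Fintype.card_subtype_eq, ← Nat.card_eq_fintype_card, hNcard] at hc
    have : Nat.card (G ⧸ N) = Nat.card Q + 1 := hidx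
    rw [this] at hc
    have := Nat.mul_le_mul_left (Nat.card Q) hd2
    have := Nat.card_pos (α := Q)
    omega
  have hnr : ∀ M : Subgroup G, M.Normal → MulAction.IsPretransitive M (G ⧸ N) →
      ∃ a : G ⧸ N, MulAction.stabilizer M a ≠ ⊥ := by
    intro M hM htr
    refine ⟨x₀, ?_⟩
    rcases hM.eq_bot_or_eq_top with rfl | rfl
    · obtain ⟨m, hm⟩ := htr.exists_smul_eq x₀ y₀
      exfalso
      have hm' : (m : G) • x₀ = y₀ := hm
      rw [Subgroup.mem_bot.mp m.2, one_smul] at hm'
      exact hy₀ne hm'.symm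
    · intro e
      obtain ⟨x, hx, hx1⟩ := Q.bot_or_exists_ne_one.resolve_left (fun e => by rw [e, Subgroup.card_bot] at hDc; omega)
      have : (⟨x, Subgroup.mem_top x⟩ : (⊤ : Subgroup G)) ∈ MulAction.stabilizer (⊤ : Subgroup G) x₀ :=
        MulAction.mem_stabilizer_iff.mpr ((hfix₀ x).mpr (hQN hx))
      rw [e, Subgroup.mem_bot] at this
      exact hx1 (congrArg Subtype.val this)
  have hZ : Cfsg.IsZassenhausGroup G (G ⧸ N) := ⟨hfaith, h2, h3, hex, hnr⟩
  have hstab : MulAction.stabilizer G x₀ = N := by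
    ext g
    exact MulAction.mem_stabilizer_iff.trans (hfix₀ g)
  have hQab : IsMulCommutative Q := ⟨⟨fun a b => by
    by_cases hb : (b : G) = 1
    · exact Subtype.ext (by simp [hb])
    · exact Subtype.ext (Subgroup.mem_centralizer_singleton_iff.mp ((hCC b b.2 hb).symm ▸ a.2))⟩⟩
  have hQn : (Q.subgroupOf (MulAction.stabilizer G x₀)).Normal := by
    rw [hstab]
    infer_instance
  rcases Cfsg.Agent.S0731.result hZ x₀ Q (hQN.trans hstab.ge) hQn hQab hreg with ⟨h3t, h3s⟩ | ⟨K, iK, iF, hchar, hiso⟩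
  · exfalso
    have hcard : Fintype.card (G ⧸ N) = Nat.card Q + 1 := by rw [← Nat.card_eq_fintype_card]; exact hidx
    have hq3 : 3 ≤ Nat.card Q + 1 := by omega
    let t : Fin 3 ↪ G ⧸ N :=
      ((Fin.castLEEmb (hcard.symm ▸ hq3 : 3 ≤ Fintype.card (G ⧸ N))).trans (Fintype.equivFin (G ⧸ N)).symm.toEmbedding)
    haveI := h3t
    have hc : (MulAction.stabilizer G t).index = Nat.card (Fin 3 ↪ G ⧸ N) :=
      MulAction.index_stabilizer_of_transitive G t
    rw [h3s t, Subgroup.index_bot, Nat.card_eq_fintype_card (α := Fin 3 ↪ G ⧸ N), Fintype.card_embedding_eq,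
      Fintype.card_fin, hcard] at hc
    simp only [Nat.descFactorial_succ, Nat.descFactorial_zero, Nat.sub_zero, mul_one] at hc
    rw [show Nat.card Q + 1 - 1 = Nat.card Q by omega, show Nat.card Q + 1 - 2 = Nat.card Q - 1 by omega] at hc
    have hpos : 0 < Nat.card Q * (Nat.card Q + 1) * (Nat.card Q - 1) := by
      rw [← hord]
      exact Nat.mul_pos two_pos Nat.card_pos
    rw [hc] at hord
    have : (Nat.card Q - 1) * (Nat.card Q * (Nat.card Q + 1)) = Nat.card Q * (Nat.card Q + 1) * (Nat.card Q - 1) := by ring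
    omega
  · exact ⟨K, iK, iF, Nat.odd_iff.mpr (FiniteField.odd_card_of_char_ne_two hchar), hiso⟩

end CfsgLib.BSW
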